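import Mathlib

/-!
# Arithmetic for the Brauer-Reynolds theorem

Pure arithmetic on the degrees of the characters in the principal block.
-/

set_option autoImplicit false

namespace Cfsg.Agent.Lib.BR.Arith

/-- A degree `k p + 1` dividing `t m`, with `m = 1 + n p`, equals `m`. -/
theorem plus_deg {p t s n k : ℕ} (hp : 3 ≤ p) (hpr : p.Prime) (hst : s * t + 1 = p)
    (hn : 2 * n ≤ p + 1) (hk : 1 ≤ k) (hd : (k * p + 1) ∣ t * (1 + n * p)) : k = n := by
  have hdz : ((k : ℤ) * p + 1) ∣ (t : ℤ) * (1 + n * p) := by exact_mod_cast hd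
  have h1 : ((k : ℤ) * p + 1) ∣ (t : ℤ) * (n - k) * p := by
    have h2 : (t : ℤ) * (n - k) * p = (t : ℤ) * (1 + n * p) - t * ((k : ℤ) * p + 1) := by ring
    rw [h2]
    exact dvd_sub hdz (dvd_mul_left _ _)
  have hcop : IsCoprime ((k : ℤ) * p + 1) (p : ℤ) := ⟨1, -(k : ℤ), by ring⟩
  have h2 : ((k : ℤ) * p + 1) ∣ (t : ℤ) * (n - k) := hcop.dvd_of_dvd_mul_right h1
  have h3 : ((k : ℤ) * p + 1) ∣ ((k : ℤ) + 1) * (n - k) := by
    have h4 : ((k : ℤ) + 1) * (n - k) = ((k : ℤ) * p + 1) * (n - k) - k * s * ((t : ℤ) * (n - k)) := by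
      have hz : (s : ℤ) * t + 1 = p := by exact_mod_cast hst
      rw [← hz]
      ring
    rw [h4]
    exact dvd_sub (dvd_mul_right _ _) (dvd_mul_of_dvd_right h2 _)
  have hkz : (1 : ℤ) ≤ k := by exact_mod_cast hk
  have hpz : (3 : ℤ) ≤ p := by exact_mod_cast hp
  have hnz : 2 * (n : ℤ) ≤ p + 1 := by exact_mod_cast hn
  have hsz : (s : ℤ) * t + 1 = p := by exact_mod_cast hst
  have ht0 : (0 : ℤ) ≤ t := by positivity
  have hs0 : (0 : ℤ) ≤ s := by positivity
  have hs1 : 1 ≤ s := by
    rcases Nat.eq_zero_or_pos s with h | h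
    · subst h
      omega
    · exact h
  have ht1 : 1 ≤ t := by
    rcases Nat.eq_zero_or_pos t with h | h
    · subst h
      omega
    · exact h
  have hs1z : (1 : ℤ) ≤ s := by exact_mod_cast hs1
  have ht1z : (1 : ℤ) ≤ t := by exact_mod_cast ht1
  have htp : (t : ℤ) ≤ p - 1 := by nlinarith
  rcases lt_trichotomy k n with hlt | heq | hgt
  · exfalso
    have hlt' : (k : ℤ) + 1 ≤ n := by exact_mod_cast hlt
    have h5 := Int.le_of_dvd (by nlinarith) h3
    nlinarith
  · exact heq
  · exfalso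
    have hgt' : (n : ℤ) + 1 ≤ k := by exact_mod_cast hgt
    have h5 : ((k : ℤ) * p + 1) ∣ (t : ℤ) * (k - n) := by
      have : (t : ℤ) * (k - n) = -((t : ℤ) * (n - k)) := by ring
      rw [this]
      exact (dvd_neg).2 h2
    have hn0 : (0 : ℤ) ≤ n := by positivity
    have h6 := Int.le_of_dvd (by nlinarith) h5
    nlinarith

/-- A degree `k p - 1` dividing `t m`, of square at most the group order, has `k = 1`. -/
theorem minus_deg {p t s n k : ℕ} (hp : 3 ≤ p) (hst : s * t + 1 = p)
    (hn : 2 * n ≤ p + 1) (hn1 : 1 ≤ n) (hk : 1 ≤ k) {d : ℕ} (hdk : d + 1 = k * p)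
    (hd : d ∣ t * (1 + n * p)) (hsq : d * d ≤ p * (t * (1 + n * p))) : k = 1 := by
  by_contra hk1
  have hk2 : 2 ≤ k := by omega
  have hkz : (2 : ℤ) ≤ k := by exact_mod_cast hk2
  have hpz : (3 : ℤ) ≤ p := by exact_mod_cast hp
  have hnz : 2 * (n : ℤ) ≤ p + 1 := by exact_mod_cast hn
  have hn1z : (1 : ℤ) ≤ n := by exact_mod_cast hn1
  have hsz : (s : ℤ) * t + 1 = p := by exact_mod_cast hst
  have hdz : (d : ℤ) + 1 = k * p := by exact_mod_cast hdk
  have hddz : (d : ℤ) ∣ (t : ℤ) * (1 + n * p) := by exact_mod_cast hd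
  have hd0 : (0 : ℤ) < d := by nlinarith
  have hcop : IsCoprime (d : ℤ) (p : ℤ) := ⟨-1, k, by rw [← hdz]; ring⟩
  have h1 : (d : ℤ) ∣ (t : ℤ) * (n + k) * p := by
    have h2 : (t : ℤ) * (n + k) * p = (t : ℤ) * (1 + n * p) + t * d := by
      have : (k : ℤ) * p = d + 1 := hdz.symm
      linear_combination (t : ℤ) * this
    rw [h2]
    exact dvd_add hddz (dvd_mul_left _ _)
  have h2 : (d : ℤ) ∣ (t : ℤ) * (n + k) := hcop.dvd_of_dvd_mul_right h1
  have h3 : (d : ℤ) ∣ ((k : ℤ) - 1) * (n + k) := by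
    have h4 : ((k : ℤ) - 1) * (n + k) = (n + k) * d - k * s * ((t : ℤ) * (n + k)) := by
      have e1 : (k : ℤ) * s * t = k * p - k := by rw [← hsz]; ring
      have e2 : (k : ℤ) * p = d + 1 := hdz.symm
      linear_combination ((n : ℤ) + k) * e1 + ((n : ℤ) + k) * e2
    rw [h4]
    exact dvd_sub (dvd_mul_left _ _) (dvd_mul_of_dvd_right h2 _)
  have h5 := Int.le_of_dvd (by nlinarith) h3
  -- `d ≤ m`
  have hdm : d ≤ 1 + n * p := by
    by_contra hlt
    push Not at hlt
    obtain ⟨j, hj⟩ := hd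
    have ht0 : 1 ≤ t := by
      rcases Nat.eq_zero_or_pos t with h | h
      · subst h
        omega
      · exact h
    have hj0 : 1 ≤ j := by
      rcases Nat.eq_zero_or_pos j with h | h
      · subst h
        have : t * (1 + n * p) ≠ 0 := by positivity
        omega
      · exact h
    have hjt : j < t := by
      by_contra hc
      push Not at hc
      have : t * (1 + n * p) < d * j := by
        calc t * (1 + n * p) < t * d := Nat.mul_lt_mul_of_pos_left hlt ht0
          _ = d * t := mul_comm _ _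
          _ ≤ d * j := Nat.mul_le_mul_left _ hc
      omega
    have hjz : (d : ℤ) * j = t * (1 + n * p) := by exact_mod_cast hj.symm
    have hdvd : (p : ℤ) ∣ (j : ℤ) + t := by
      refine ⟨k * j - t * n, ?_⟩
      have e2 : (k : ℤ) * p = d + 1 := hdz.symm
      linear_combination (-(j : ℤ)) * e2 - hjz
    have hle := Int.le_of_dvd (by positivity) hdvd
    have hjz' : (j : ℤ) + 1 ≤ t := by exact_mod_cast hjt
    have hs1 : s = 1 := by
      have hs0 : s ≠ 0 := by
        rintro rfl
        omega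
      by_contra hs
      have hs2 : (2 : ℤ) ≤ s := by
        have : 2 ≤ s := by omega
        exact_mod_cast this
      nlinarith
    subst hs1
    have htp : (t : ℤ) = p - 1 := by push_cast at hsz; linarith
    -- `j = 1`
    have hj1 : j = 1 := by
      obtain ⟨c, hc⟩ := hdvd
      have hc1 : c < 2 := by nlinarith
      have hc0 : 0 < c := by
        by_contra hc0
        push Not at hc0
        have hj0z : (1 : ℤ) ≤ j := by exact_mod_cast hj0
        nlinarith
      have hc2 : c = 1 := by omega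
      subst hc2
      have : (j : ℤ) = 1 := by linarith
      exact_mod_cast this
    subst hj1
    have e1 : d = t * (1 + n * p) := by omega
    have e2 : d * d ≤ p * d := by
      calc d * d ≤ p * (t * (1 + n * p)) := hsq
        _ = p * d := by rw [e1]
    have e3 : d ≤ p := Nat.le_of_mul_le_mul_right e2 (by omega)
    have e4 : (d : ℤ) ≤ p := by exact_mod_cast e3
    have e5 : (d : ℤ) = t * (1 + n * p) := by exact_mod_cast e1
    nlinarith
  have hdmz : (d : ℤ) ≤ 1 + n * p := by exact_mod_cast hdm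
  have hkn : (k : ℤ) ≤ n := by
    by_contra hc
    push Not at hc
    have : (n : ℤ) + 1 ≤ k := hc
    nlinarith
  nlinarith

/-- A degree `p - 1` dividing `t m` forces `s ∣ n + 1`. -/
theorem dvd_succ {p t s n : ℕ} (hst : s * t + 1 = p) (ht : 1 ≤ t)
    (hd : (p - 1) ∣ t * (1 + n * p)) : s ∣ n + 1 := by
  have h1 : p - 1 = s * t := by omega
  rw [h1] at hd
  have h2 : s ∣ 1 + n * p := by
    have h3 : t * s ∣ t * (1 + n * p) := by rwa [mul_comm t s]
    exact Nat.dvd_of_mul_dvd_mul_left (by omega) h3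
  have h3 : 1 + n * p = (n + 1) + s * (n * t) := by
    rw [← hst]
    ring
  rw [h3] at h2
  exact (Nat.dvd_add_left (dvd_mul_right _ _)).1 h2

set_option maxHeartbeats 1000000 in
/-- The structure of the principal block. -/
theorem structure_K {p t s n a b X D : ℕ} {ε : ℤ} (hp : 3 ≤ p) (hpr : p.Prime) (hst : s * t + 1 = p)
    (hn : 2 * n ≤ p + 1) (hn1 : 1 ≤ n) (ht : a + b + 1 = t) (hε : ε = 1 ∨ ε = -1)
    (hX : ε * (X : ℤ) = t + p * ((a : ℤ) * n - b)) (hX1 : X ≠ 1) (hX0 : X ≠ 0)
    (hdvd : X ∣ t * (1 + n * p))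
    (hD : 1 + (a : ℤ) * (1 + n * p) ^ 2 + b * ((p : ℤ) - 1) ^ 2 + s * (X : ℤ) ^ 2 + (p : ℤ) ^ 2 * D =
      p * t * (1 + n * p))
    (hb : 1 ≤ b → s ∣ n + 1) :
    D = n ∧ ((ε = 1 ∧ X = t ∧ a * n = b) ∨
      (∃ K : ℕ, 1 ≤ K ∧ ε = -1 ∧ X + t = K * p ∧ n + 1 = s * K ∧ s * X = 1 + n * p ∧
        t = 1 + K * (a * s + 1) ∧ b = K + a * n)) := by
  have hpz : (3 : ℤ) ≤ p := by exact_mod_cast hp
  have hsz : (s : ℤ) * t + 1 = p := by exact_mod_cast hst
  have hnz : 2 * (n : ℤ) ≤ p + 1 := by exact_mod_cast hn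
  have hn1z : (1 : ℤ) ≤ n := by exact_mod_cast hn1
  have htz : (a : ℤ) + b + 1 = t := by exact_mod_cast ht
  have ht1 : 1 ≤ t := by omega
  have ht1z : (1 : ℤ) ≤ t := by exact_mod_cast ht1
  have hs1 : 1 ≤ s := by
    rcases Nat.eq_zero_or_pos s with h | h
    · subst h
      omega
    · exact h
  have hs1z : (1 : ℤ) ≤ s := by exact_mod_cast hs1
  have htp : (t : ℤ) ≤ p - 1 := by nlinarith
  have hε2 : ε ^ 2 = 1 := by rcases hε with rfl | rfl <;> norm_num
  have hX2 : (X : ℤ) ^ 2 = ((t : ℤ) + p * ((a : ℤ) * n - b)) ^ 2 := by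
    rw [← hX, mul_pow, hε2, one_mul]
  obtain ⟨K, hK⟩ : ∃ K : ℤ, K = (a : ℤ) * n - b := ⟨_, rfl⟩
  rw [← hK] at hX hX2
  have hpz0 : (p : ℤ) ≠ 0 := by omega
  have hp2 : (p : ℤ) ^ 2 ≠ 0 := pow_ne_zero _ hpz0
  have hDK : (D : ℤ) = -((s : ℤ) * K ^ 2 + K + n * (K - 1)) := by
    apply mul_left_cancel₀ hp2
    rw [hX2] at hD
    have hb' : (b : ℤ) = a * n - K := by rw [hK]; ring
    have ha' : (a : ℤ) = t - 1 - b := by linarith
    have hp' : (p : ℤ) = s * t + 1 := hsz.symm
    have e1 : (p : ℤ) ^ 2 * D = p * t * (1 + n * p) - (1 + (a : ℤ) * (1 + n * p) ^ 2 +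
      b * ((p : ℤ) - 1) ^ 2 + s * ((t : ℤ) + p * K) ^ 2) := by linarith
    rw [e1, hb']
    have e2 : (t : ℤ) = a + (a * n - K) + 1 := by rw [← htz, hb']
    have e3 : (s : ℤ) * t = p - 1 := by linarith
    have e4 : (s : ℤ) * ((t : ℤ) + p * K) ^ 2 = (s * t) * t + 2 * (s * t) * p * K + s * p ^ 2 * K ^ 2 := by ring
    rw [e4, e3, e2]
    ring
  have hD0 : (0 : ℤ) ≤ D := by positivity
  have hKle : K ≤ 0 := by
    by_contra hc
    push Not at hc
    have hK1 : 1 ≤ K := hc
    have hs0 : (0 : ℤ) ≤ (s : ℤ) * K ^ 2 := by positivity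
    have hn0 : (0 : ℤ) ≤ (n : ℤ) * (K - 1) := mul_nonneg (by positivity) (by linarith)
    linarith
  rcases eq_or_lt_of_le hKle with hK0 | hKneg
  · -- the case `K = 0`
    rw [hK0] at hX hDK
    have hb' : (a : ℤ) * n = b := by linarith
    refine ⟨?_, Or.inl ?_⟩
    · have : (D : ℤ) = n := by rw [hDK]; ring
      exact_mod_cast this
    · have hX' : ε * (X : ℤ) = t := by rw [hX]; ring
      have hε1 : ε = 1 := by
        rcases hε with h | h
        · exact h
        · exfalso
          rw [h] at hX'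
          have : (0 : ℤ) ≤ X := by positivity
          linarith
      refine ⟨hε1, ?_, by exact_mod_cast hb'⟩
      rw [hε1, one_mul] at hX'
      exact_mod_cast hX'
  · -- the case `K < 0`
    obtain ⟨K', hK'⟩ : ∃ K' : ℕ, K = -(K' : ℤ) := ⟨(-K).toNat, by omega⟩
    have hK'1 : 1 ≤ K' := by
      have : (1 : ℤ) ≤ K' := by omega
      exact_mod_cast this
    have hK'1z : (1 : ℤ) ≤ K' := by exact_mod_cast hK'1
    subst hK'
    have hε1 : ε = -1 := by
      rcases hε with h | h
      · exfalso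
        rw [h, one_mul] at hX
        have : (0 : ℤ) ≤ X := by positivity
        have e1 : (p : ℤ) * 1 ≤ p * K' := mul_le_mul_of_nonneg_left hK'1z (by linarith)
        have e2 : (X : ℤ) = t - p * K' := by rw [hX]; ring
        linarith
      · exact h
    rw [hε1] at hX
    have hXz : (X : ℤ) + t = K' * p := by linarith
    have hbz : (b : ℤ) = K' + a * n := by linarith
    have hb1 : 1 ≤ b := by
      have : (1 : ℤ) ≤ b := by
        have : (0 : ℤ) ≤ (a : ℤ) * n := by positivity
        linarith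
      exact_mod_cast this
    obtain ⟨l, hl⟩ := hb hb1
    have hlz : (n : ℤ) + 1 = s * l := by exact_mod_cast hl
    have hl1 : (1 : ℤ) ≤ l := by
      by_contra hc
      push Not at hc
      have : (l : ℤ) = 0 := by omega
      rw [this] at hlz
      linarith
    -- `K' ≤ l`
    have hKl : (K' : ℤ) ≤ l := by
      by_contra hc
      push Not at hc
      have hc' : (l : ℤ) + 1 ≤ K' := hc
      have e1 : (0 : ℤ) ≤ -((s : ℤ) * (-(K' : ℤ)) ^ 2 + -(K' : ℤ) + n * (-(K' : ℤ) - 1)) := by
        rw [← hDK]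
        exact hD0
      have e2 : (n : ℤ) = s * l - 1 := by linarith
      rw [e2] at e1
      have e3 : (l : ℤ) * (K' + 1) + 1 ≤ (K' : ℤ) ^ 2 := by
        have e4 := mul_le_mul_of_nonneg_right hc' (by positivity : (0 : ℤ) ≤ (K' : ℤ) + 1)
        nlinarith [e4]
      have e5 := mul_le_mul_of_nonneg_left e3 (by positivity : (0 : ℤ) ≤ (s : ℤ))
      have e6 : (0 : ℤ) ≤ -(s : ℤ) - 1 := by linear_combination e1 + e5
      linarith
    -- `l = K'`
    have hlK : l = K' := by
      by_contra hne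
      have hlt : (K' : ℤ) + 1 ≤ l := by
        have : (K' : ℤ) ≠ l := by
          intro h
          exact hne (by exact_mod_cast h.symm)
        omega
      have h1 : (X : ℤ) ∣ (t : ℤ) * (1 + n * p) := by exact_mod_cast hdvd
      have h2 : (t : ℤ) * (1 + n * p) = ((p : ℤ) - 1) * (l * p - t) := by
        have e2 : (n : ℤ) = s * l - 1 := by linarith
        have e3 : (s : ℤ) * t = p - 1 := by linarith
        rw [e2]
        linear_combination ((l : ℤ) * p) * e3
      have h3 : (X : ℤ) ∣ ((p : ℤ) - 1) * (l - K') * p := by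
        have e1 : ((p : ℤ) - 1) * (l - K') * p = (t : ℤ) * (1 + n * p) - ((p : ℤ) - 1) * X := by
          rw [h2]
          linear_combination ((p : ℤ) - 1) * hXz
        rw [e1]
        exact dvd_sub h1 (dvd_mul_left _ _)
      have hpX : IsCoprime (X : ℤ) (p : ℤ) := by
        -- `p` does not divide `X` since `0 < t < p`
        have hndvd : ¬ p ∣ X := by
          intro hc
          have e1 : X + t = K' * p := by exact_mod_cast hXz
          have e2 : p ∣ t := by
            have e3 : p ∣ X + t := ⟨K', by rw [e1, mul_comm]⟩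
            exact (Nat.dvd_add_right hc).1 e3
          have e4 := Nat.le_of_dvd (by omega) e2
          have e5 : (p : ℤ) ≤ t := by exact_mod_cast e4
          linarith
        have e6 : Nat.Coprime X p := ((Nat.Prime.coprime_iff_not_dvd hpr).2 hndvd).symm
        exact Nat.isCoprime_iff_coprime.2 e6
      have h4 : (X : ℤ) ∣ ((p : ℤ) - 1) * (l - K') := hpX.dvd_of_dvd_mul_right h3
      have h5 : (X : ℤ) ∣ (s : ℤ) * K' * (l - K') := by
        apply hpX.dvd_of_dvd_mul_right
        have e1 : (s : ℤ) * K' * (l - K') * p = (s : ℤ) * (l - K') * X + ((p : ℤ) - 1) * (l - K') := by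
          have e3 : (s : ℤ) * t = p - 1 := by linarith
          linear_combination (-(s : ℤ) * (l - K')) * hXz + ((l : ℤ) - K') * e3
        rw [e1]
        exact dvd_add (dvd_mul_left _ _) h4
      have hpos : (0 : ℤ) < (s : ℤ) * K' * (l - K') := by
        apply mul_pos (mul_pos (by linarith) (by linarith)) (by linarith)
      have h6 := Int.le_of_dvd hpos h5
      have h7 : (K' : ℤ) * p - t ≤ (s : ℤ) * K' * (l - K') := by linarith
      have h8 : 2 * ((s : ℤ) * l) ≤ p + 3 := by linarith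
      have h9 : (K' : ℤ) * (p - 3) + 2 * (s : ℤ) * (K' : ℤ) ^ 2 ≤ 2 * t := by
        have e1 := mul_le_mul_of_nonneg_left h8 (by positivity : (0 : ℤ) ≤ (K' : ℤ))
        linear_combination 2 * h7 + e1
      have h10 : (s : ℤ) * K' * (p - 3) + 2 * ((s : ℤ) * K') ^ 2 ≤ 2 * (p - 1) := by
        have e1 := mul_le_mul_of_nonneg_left h9 (by positivity : (0 : ℤ) ≤ (s : ℤ))
        have e3 : (s : ℤ) * t = p - 1 := by linarith
        linear_combination e1 + 2 * e3
      have hw1 : (1 : ℤ) ≤ (s : ℤ) * K' :=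
        le_trans hs1z (le_mul_of_one_le_right (by linarith) hK'1z)
      by_cases hw2 : (2 : ℤ) ≤ (s : ℤ) * K'
      · have e1 : 2 * ((p : ℤ) - 3) ≤ (s : ℤ) * K' * (p - 3) :=
          mul_le_mul_of_nonneg_right hw2 (by linarith)
        have e2 : (4 : ℤ) ≤ ((s : ℤ) * K') ^ 2 := by
          have e3 := mul_le_mul hw2 hw2 (by norm_num) (by linarith)
          rw [sq]
          linarith
        linarith
      · have hw : (s : ℤ) * K' = 1 := by omega
        have hs1' : (s : ℤ) = 1 := by
          have := Int.eq_one_or_neg_one_of_mul_eq_one hw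
          omega
        have hK1' : (K' : ℤ) = 1 := by
          rw [hs1', one_mul] at hw
          exact hw
        apply hX1
        rw [hs1', one_mul] at hsz
        rw [hK1', one_mul] at hXz
        have : (X : ℤ) = 1 := by linarith
        exact_mod_cast this
    subst hlK
    have e3 : (s : ℤ) * t = p - 1 := by linarith
    refine ⟨?_, Or.inr ⟨l, hK'1, hε1, ?_, ?_, ?_, ?_, ?_⟩⟩
    · have : (D : ℤ) = n := by
        rw [hDK]
        linear_combination (l : ℤ) * hlz
      exact_mod_cast this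
    · exact_mod_cast hXz
    · exact_mod_cast hl
    · have : (s : ℤ) * X = 1 + n * p := by
        linear_combination (s : ℤ) * hXz - e3 + (p : ℤ) * (-hlz)
      exact_mod_cast this
    · have : (t : ℤ) = 1 + l * (a * s + 1) := by
        linear_combination -htz + hbz + (a : ℤ) * hlz
      exact_mod_cast this
    · exact_mod_cast hbz

end Cfsg.Agent.Lib.BR.Arith
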