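import Cfsg.Agent.Lib.FF.DefOneFinal

/-!
# The principal block for a Sylow subgroup of prime order, with the sum over the subgroup

A variant of `Cfsg.Agent.Lib.FF.block_main`, in terms of finite sets, and with the additional
statement on the sum of the exceptional characters over the non-trivial elements.
-/

set_option autoImplicit false
set_option linter.unusedSectionVars false
set_option linter.style.haveILetI false
set_option linter.unusedSimpArgs false
set_option linter.unnecessarySimpa false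
set_option linter.unusedVariables false
set_option maxSynthPendingDepth 3

open scoped ComplexConjugate
open Subgroup

namespace Cfsg.Agent.Lib.BR

open Cfsg (classInner IsCharacter IsIrrCharacter IrrCharacter IsClassFunction indFun
  extendByZero IsGeneralizedCharacter IsPModular principalBlock IsPPart centralizerPPrimeCore pPrimeCore)
open Cfsg.Agent.Lib.Char
open Cfsg.Agent.Lib.Block hiding tr
open Cfsg.Agent.Lib.SmallSimple.Star
open Cfsg.Agent.Lib.SmallSimple.BL
open Cfsg.Agent.Lib.SmallSimple.BB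
open Cfsg.Agent.Lib.FF

universe u

variable {G : Type u} [Group G] {p : ℕ} {x : G} [Fintype G] {M : Ideal Cfsg.AlgInt} [hp : Fact p.Prime]

open Classical in
/-- The row sum for a non-trivial linear character. -/
theorem sum_nt_row [Fintype (zpowers x)] (a : Nt x) :
    ∑ w : zpowers x, (if w = 1 then 0 else (a.1 : zpowers x → ℂ) w) = -1 := by
  have h1 := classInner_irr a.1.2 (isIrrCharacter_one (G := zpowers x))
  have hne : (a.1 : zpowers x → ℂ) ≠ fun _ => 1 := by
    intro h
    exact a.2 (Subtype.ext h)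
  rw [if_neg hne, classInner_def] at h1
  have h2 : (∑ w : zpowers x, (a.1 : zpowers x → ℂ) w) = 0 := by
    have hc : (Nat.card (zpowers x) : ℂ) ≠ 0 := card_ne_zero_complex _
    simp only [map_one, mul_one] at h1
    rcases mul_eq_zero.mp h1 with h3 | h3
    · exact absurd (inv_eq_zero.mp h3) hc
    · exact h3
  have h4 : ∀ w : zpowers x, (if w = 1 then 0 else (a.1 : zpowers x → ℂ) w) =
      (a.1 : zpowers x → ℂ) w - (if w = 1 then 1 else 0) := by
    intro w
    by_cases hw : w = 1
    · rw [if_pos hw, if_pos hw, hw, deg_one]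
      ring
    · rw [if_neg hw, if_neg hw]
      ring
  simp only [h4]
  rw [Finset.sum_sub_distrib, h2, Finset.sum_ite_eq' , if_pos (Finset.mem_univ _)]
  ring

open Classical in
/-- The sum over the non-trivial elements of a cyclic subgroup as a sum over a subtype. -/
theorem sum_filter_eq (F : G → ℂ) [Fintype (zpowers x)] :
    ∑ u ∈ Finset.univ.filter (fun u : G => u ∈ zpowers x ∧ u ≠ 1), F u =
      ∑ w : zpowers x, (if w = 1 then 0 else F w) := by
  have h0 : ∑ w : zpowers x, (if w = 1 then 0 else F w) =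
      ∑ w ∈ Finset.univ.filter (fun w : zpowers x => w ≠ 1), F w := by
    rw [Finset.sum_filter]
    refine Finset.sum_congr rfl fun w _ => ?_
    by_cases hw : w = 1 <;> simp [hw]
  rw [h0]
  symm
  refine Finset.sum_bij (fun w _ => (w : G)) ?_ ?_ ?_ ?_
  · intro w hw
    simp only [Finset.mem_filter, Finset.mem_univ, true_and] at hw ⊢
    exact ⟨w.2, fun h => hw (Subtype.ext h)⟩
  · intro a _ b _ h
    exact Subtype.ext h
  · intro u hu
    simp only [Finset.mem_filter, Finset.mem_univ, true_and] at hu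
    refine ⟨⟨u, hu.1⟩, ?_, rfl⟩
    simp only [Finset.mem_filter, Finset.mem_univ, true_and]
    exact fun h => hu.2 (congrArg Subtype.val h)
  · intro w _
    rfl

open Classical in
/-- **The principal block for a Sylow subgroup of prime order**, as finite sets, with the sums of the exceptional characters. -/
theorem block_ext (hM : IsPModular p M) (hx : orderOf x = p) (hsyl : ¬ p ^ 2 ∣ Nat.card G) (e : ℕ)
    (hN : Nat.card (normalizer ((zpowers x : Subgroup G) : Set G)) =
      e * Nat.card (centralizer ({x} : Set G))) :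
    ∃ (X Y : Finset (IrrCharacter G)) (δ : IrrCharacter G → ℤ) (ε : ℤ) (deg : IrrCharacter G → ℕ),
      (∀ χ : IrrCharacter G, (χ : G → ℂ) 1 = deg χ ∧ deg χ ≠ 0 ∧ deg χ ∣ Nat.card G) ∧
      (∀ χ : IrrCharacter G, χ ∈ principalBlock M G ↔ χ ∈ X ∨ χ ∈ Y) ∧ Disjoint X Y ∧ X.card = e ∧
      Y.card * e = p - 1 ∧ 0 < e ∧
      (∀ χ ∈ X, (δ χ = 1 ∨ δ χ = -1) ∧ (deg χ : ℤ) ≡ δ χ [ZMOD p] ∧
          ∀ u : G, u ∈ zpowers x → u ≠ 1 → (χ : G → ℂ) u = (δ χ : ℂ)) ∧
      (ε = 1 ∨ ε = -1) ∧
      (∀ θ ∈ Y, (deg θ : ℤ) ≡ ε * (e : ℤ) [ZMOD p]) ∧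
      (∀ θ ∈ Y, ∀ θ' ∈ Y, ∀ g : G, ¬ p ∣ orderOf g → (θ : G → ℂ) g = (θ' : G → ℂ) g) ∧
      (∀ θ ∈ Y, ∀ g : G, ¬ p ∣ orderOf g →
         (ε : ℂ) * (θ : G → ℂ) g = ∑ χ ∈ X, (δ χ : ℂ) * (χ : G → ℂ) g) ∧
      (∀ θ ∈ Y, ∑ u ∈ Finset.univ.filter (fun u : G => u ∈ zpowers x ∧ u ≠ 1), (θ : G → ℂ) u =
        -((ε : ℂ) * (e : ℂ))) := by
  letI : Fintype (zpowers x) := Fintype.ofFinite _
  have hpr := hp.out
  obtain ⟨deg, c, n, h1, h2, h3, h4, h5, h6, h7, h8, h9⟩ := block_data' (x := x) hM hx hsyl e hN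
  have B : BD M x p e deg c n := ⟨h1, h2, h3, h4, h5, h6, h7, h8, h9⟩
  obtain ⟨O, hO, hOval⟩ := exists_unram_G (M := M) hM hx hsyl
  obtain ⟨u, ε, ψ, hε, F, hu0⟩ := exists_final_form hM hx hsyl B
  obtain ⟨a₀⟩ : Nonempty (Nt x) := by
    rw [← Finset.univ_nonempty_iff, ← Finset.card_pos]
    have := B.hnt
    have := hpr.two_le
    omega
  have hepos : 0 < e := by
    rw [← B.hcls a₀, Finset.card_pos]
    exact ⟨a₀, by simp [rel_equiv.refl a₀.1]⟩
  have hYB := G_YB B F hu0
  have hXB : ∀ χ, u χ ≠ 0 → χ ∈ principalBlock M G := by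
    intro χ hu
    by_contra hnot
    have hχY : χ ∉ imgY ψ := fun hy => hnot (hYB χ hy)
    have := B.hc0 a₀ χ hnot
    rw [G_not F hχY] at this
    exact hu this
  have hXY : ∀ χ, u χ ≠ 0 → χ ∉ imgY ψ := by
    intro χ hu hy
    obtain ⟨a, -, rfl⟩ := Finset.mem_image.mp hy
    exact hu (hu0 a)
  have hunit : ∀ χ, u χ ≠ 0 → u χ = 1 ∨ u χ = -1 := fun χ hu =>
    G_unit hM hO hx hsyl hOval B F (hXB χ hu) (hXY χ hu) hu
  have hrel : ∀ (a : Nt x) (g : G), ¬ p ∣ orderOf g →
      (ε : ℂ) * (ψ a : G → ℂ) g = ∑ χ, ((-u χ : ℤ) : ℂ) * (χ : G → ℂ) g := by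
    intro a g hg
    have h10 := B.hreg a g hg
    have h11 : ∀ χ : IrrCharacter G, (c a χ : ℂ) * (χ : G → ℂ) g =
        (u χ : ℂ) * (χ : G → ℂ) g + if χ = ψ a then (ε : ℂ) * (χ : G → ℂ) g else 0 := by
      intro χ
      rw [F.val]
      by_cases h : χ = ψ a
      · rw [if_pos h, if_pos h]
        push_cast
        ring
      · rw [if_neg h, if_neg h]
        push_cast
        ring
    rw [Finset.sum_congr rfl (fun χ _ => h11 χ), Finset.sum_add_distrib, Finset.sum_ite_eq',
      if_pos (Finset.mem_univ _)] at h10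
    have h12 : ∑ χ, ((-u χ : ℤ) : ℂ) * (χ : G → ℂ) g = - ∑ χ, (u χ : ℂ) * (χ : G → ℂ) g := by
      rw [← Finset.sum_neg_distrib]
      refine Finset.sum_congr rfl fun χ _ => ?_
      push_cast
      ring
    rw [h12]
    linear_combination h10
  have hε0 : (ε : ℂ) ≠ 0 := by exact_mod_cast F.hε
  have hYval : ∀ θ ∈ imgY ψ, ∀ g : G, ¬ p ∣ orderOf g →
      (ε : ℂ) * (θ : G → ℂ) g = ∑ χ, ((-u χ : ℤ) : ℂ) * (χ : G → ℂ) g := by
    intro θ hθ g hg
    obtain ⟨a, -, rfl⟩ := Finset.mem_image.mp hθ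
    exact hrel a g hg
  refine ⟨Finset.univ.filter (fun χ => u χ ≠ 0), imgY ψ, fun χ => -u χ, ε, deg, B.hdeg, ?_, ?_, ?_, ?_, hepos,
    ?_, hε, ?_, ?_, ?_, ?_⟩
  · intro χ
    simp only [Finset.mem_filter, Finset.mem_univ, true_and]
    constructor
    · intro hχ
      by_cases hy : χ ∈ imgY ψ
      · exact Or.inr hy
      · exact Or.inl (G_ne hM hsyl B F hχ hy)
    · rintro (h | h)
      · exact hXB χ h
      · exact hYB χ h
  · rw [Finset.disjoint_left]
    intro χ hχ hy
    exact hXY χ (Finset.mem_filter.mp hχ).2 hy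
  · have hnorm := F.norm_eq a₀
    rw [B.hnorm a₀, hu0 a₀] at hnorm
    have hεε : ε * ε = 1 := by rcases hε with rfl | rfl <;> norm_num
    have hip : ip u u = (e : ℤ) := by linarith
    have hcount : ip u u = ((Finset.univ.filter fun χ => u χ ≠ 0).card : ℤ) := by
      rw [Finset.card_filter]
      push_cast
      simp only [ip]
      refine Finset.sum_congr rfl fun χ _ => ?_
      by_cases h : u χ = 0
      · simp [h]
      · rcases hunit χ h with h' | h' <;> simp [h']
    rw [hcount] at hip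
    exact_mod_cast hip
  · exact F_t_e B F
  · intro χ hχ
    have hχ0 : u χ ≠ 0 := (Finset.mem_filter.mp hχ).2
    have hχB := hXB χ hχ0
    have hχY := hXY χ hχ0
    refine ⟨?_, ?_, ?_⟩
    · rcases hunit χ hχ0 with h | h
      · right
        simp [h]
      · left
        simp [h]
    · have h10 := B.hdform χ hχB
      rw [G_sum_not B F hχY] at h10
      rw [Int.modEq_iff_dvd]
      refine ⟨-(n χ + u χ), ?_⟩
      have hp1 : ((p - 1 : ℕ) : ℤ) = (p : ℤ) - 1 := by
        push_cast [Nat.cast_sub hpr.one_lt.le]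
        ring
      rw [h10, hp1]
      ring
    · intro x' hx' hx1
      have h11 := G_val B F hχB hχY ⟨x', hx'⟩ (fun h => hx1 (congrArg Subtype.val h))
      rw [show (χ : G → ℂ) x' = -(u χ : ℂ) from h11]
      push_cast
      rfl
  · intro θ hθ
    have h10 := B.hdform θ (hYB θ hθ)
    have h11 := F_sum_y B F (v := 0) (w := ε) hu0 (by ring) θ hθ
    rw [h11] at h10
    rw [Int.modEq_iff_dvd]
    refine ⟨-n θ, ?_⟩
    rw [h10]
    ring
  · intro θ hθ θ' hθ' g hg
    have h10 := hYval θ hθ g hg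
    have h11 := hYval θ' hθ' g hg
    exact mul_left_cancel₀ hε0 (h10.trans h11.symm)
  · intro θ hθ g hg
    rw [hYval θ hθ g hg, Finset.sum_filter]
    refine Finset.sum_congr rfl fun χ _ => ?_
    by_cases h : u χ = 0
    · simp [h]
    · rw [if_pos h]
  · intro θ hθ
    obtain ⟨a, -, rfl⟩ := Finset.mem_image.mp hθ
    rw [sum_filter_eq]
    have h10 : ∀ w : zpowers x, (if w = 1 then (0 : ℂ) else ((ψ a : IrrCharacter G) : G → ℂ) w) =
        ∑ b : Nt x, (ε : ℂ) * (if ψ a = ψ b then (if w = 1 then (0 : ℂ) else (b.1 : zpowers x → ℂ) w) else 0) := by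
      intro w
      by_cases hw : w = 1
      · simp [hw]
      · rw [if_neg hw, B.hval (ψ a) (hYB _ (Finset.mem_image.mpr ⟨a, Finset.mem_univ _, rfl⟩)) w hw]
        refine Finset.sum_congr rfl fun b _ => ?_
        rw [F.val, hu0 a, if_neg hw]
        by_cases hb : ψ a = ψ b
        · rw [if_pos hb, if_pos hb]
          push_cast
          ring
        · rw [if_neg hb, if_neg hb]
          push_cast
          ring
    simp only [h10]
    rw [Finset.sum_comm]
    have h11 : ∀ b : Nt x, ∑ w : zpowers x, (ε : ℂ) * (if ψ a = ψ b then (if w = 1 then (0 : ℂ) else (b.1 : zpowers x → ℂ) w) else 0) =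
        (ε : ℂ) * (if ψ a = ψ b then -1 else 0) := by
      intro b
      rw [← Finset.mul_sum]
      by_cases hb : ψ a = ψ b
      · simp only [if_pos hb]
        rw [sum_nt_row b]
      · simp only [if_neg hb]
        simp
    simp only [h11]
    rw [← Finset.mul_sum]
    have h12 : ∑ b : Nt x, (if ψ a = ψ b then (-1 : ℂ) else 0) = -(e : ℂ) := by
      rw [← Finset.sum_filter, Finset.sum_const, nsmul_eq_mul]
      have h13 : (Finset.univ.filter fun b : Nt x => ψ a = ψ b).card = e := by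
        rw [← B.hcls a]
        congr 1
        ext b
        simp only [Finset.mem_filter, Finset.mem_univ, true_and]
        exact F.hψ a b
      rw [h13]
      ring
    rw [h12]
    ring

end Cfsg.Agent.Lib.BR
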