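import Cfsg.Agent.Lib.BR.Odd
import Cfsg.Agent.Lib.Perm.DegPrimeFour

/-!
# The case of `p + 1` Sylow subgroups
-/

set_option autoImplicit false
set_option linter.unusedSectionVars false
set_option linter.style.haveILetI false
set_option linter.unusedSimpArgs false
set_option linter.unnecessarySimpa false
set_option linter.unusedVariables false
set_option maxSynthPendingDepth 3

open scoped ComplexConjugate
open Subgroup

namespace Cfsg.Agent.Lib.BR

open Cfsg (IrrCharacter)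

universe u

variable {G : Type u} [Group G] [Fintype G] {p : ℕ} {z : G}
  {t s n : ℕ} {Xs Ys : Finset (IrrCharacter G)} {δ : IrrCharacter G → ℤ} {ε : ℤ}
  {deg : IrrCharacter G → ℕ}

namespace BRD

variable (D : BRD p z t s n Xs Ys δ ε deg)
include D

/-- A non-trivial element of the cyclic group fixes only one Sylow subgroup. -/
theorem fix_unique [hp : Fact p.Prime] {Q₀ : Sylow p G} (hQ₀ : (Q₀ : Subgroup G) = zpowers z) {u : G}
    (hu : u ∈ zpowers z) (hu1 : u ≠ 1) {Q : Sylow p G} (h : u • Q = Q) : Q = Q₀ := by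
  have ho : orderOf u = p := Lib.SmallSimple.BB.orderOf_of_mem D.hp D.hz hu hu1
  have hpu : IsPGroup p (zpowers u) := by
    apply IsPGroup.of_card (n := 1)
    rw [Nat.card_zpowers, ho, pow_one]
  have h1 := hpu.inf_normalizer_sylow Q
  have h2 : u ∈ zpowers u ⊓ normalizer ((Q : Subgroup G) : Set G) :=
    ⟨mem_zpowers u, Sylow.smul_eq_iff_mem_normalizer.mp h⟩
  have h3 : u ∈ zpowers u ⊓ (Q : Subgroup G) := h1.le h2
  have hcQ : Nat.card (Q : Subgroup G) = p := by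
    rw [Sylow.card_eq_multiplicity, ← Sylow.card_eq_multiplicity Q₀, hQ₀, D.card_P]
  have h4 : zpowers u = (Q : Subgroup G) := by
    apply Subgroup.eq_of_le_of_card_ge
    · rw [Subgroup.zpowers_le]
      exact h3.2
    · rw [hcQ, Nat.card_zpowers, ho]
  have h5 : zpowers u = zpowers z := by
    apply Subgroup.eq_of_le_of_card_ge
    · rw [Subgroup.zpowers_le]
      exact hu
    · rw [D.card_P, Nat.card_zpowers, ho]
  apply Sylow.ext
  rw [← h4, h5, hQ₀]

/-- The action on the Sylow subgroups is faithful. -/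
theorem fix_all [hp : Fact p.Prime] (hn : Nat.card (Sylow p G) ≠ 1) {g : G} (hg : ∀ Q : Sylow p G, g • Q = Q) : g = 1 := by
  obtain ⟨Q₀, hQ₀⟩ := exists_sylow_eq D.hz D.hC
  have hstep : ∀ u : G, u ∈ zpowers z → (∀ Q : Sylow p G, u • Q = Q) → u = 1 := by
    intro u hu hfix
    by_contra hu1
    apply hn
    rw [Nat.card_eq_one_iff_unique]
    refine ⟨⟨fun a b => ?_⟩, ⟨Q₀⟩⟩
    rw [D.fix_unique hQ₀ hu hu1 (hfix a), D.fix_unique hQ₀ hu hu1 (hfix b)]
  have hgN : g ∈ Nz z := by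
    have h1 : g ∈ normalizer (((Q₀ : Subgroup G)) : Set G) := Sylow.smul_eq_iff_mem_normalizer.mp (hg Q₀)
    rw [hQ₀] at h1
    exact h1
  have hc : g * z * g⁻¹ * z⁻¹ = 1 := by
    apply hstep
    · refine mul_mem ?_ (inv_mem (mem_zpowers z))
      exact (Subgroup.mem_normalizer_iff.mp hgN z).mp (mem_zpowers z)
    · intro Q
      have e : (g * z * g⁻¹ * z⁻¹) • Q = g • (z • (g⁻¹ • (z⁻¹ • Q))) := by
        simp only [mul_smul]
      have e2 : g⁻¹ • (z⁻¹ • Q) = z⁻¹ • Q := by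
        rw [inv_smul_eq_iff, hg]
      rw [e, e2, smul_inv_smul, hg]
  have h1 : g * z * g⁻¹ = z := by
    rwa [mul_inv_eq_one] at hc
  exact hstep g (D.mem_P_iff.mpr h1) hg

/-- **The case of `p + 1` Sylow subgroups.** -/
theorem case_a (hn : n = 1) (hs : 2 ≤ s) :
    3 < p ∧ Nonempty (G ≃* Matrix.ProjectiveSpecialLinearGroup (Fin 2) (ZMod p)) := by
  subst hn
  haveI hfp : Fact p.Prime := D.fact_p
  have hp3 := D.hp3
  have ht2 := D.ht2
  have hst := D.hst
  have hp3' : 3 < p := by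
    have : 2 * 2 ≤ s * t := Nat.mul_le_mul hs ht2
    omega
  refine ⟨hp3', ?_⟩
  letI : Fintype (Sylow p G) := Fintype.ofFinite _
  have hΩ : Fintype.card (Sylow p G) = p + 1 := by
    rw [← Nat.card_eq_fintype_card, D.hsyl]
    ring
  have hne1 : Nat.card (Sylow p G) ≠ 1 := by
    rw [D.hsyl]
    omega
  haveI hfaith : FaithfulSMul G (Sylow p G) := by
    refine ⟨fun {g₁ g₂} h => ?_⟩
    have h1 : g₂⁻¹ * g₁ = 1 := D.fix_all hne1 (fun Q => by
      rw [mul_smul, h Q, inv_smul_smul])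
    exact (inv_mul_eq_one.mp h1).symm
  have htr : ∀ x y : Sylow p G, ∃ g : G, g • x = y := fun x y => MulAction.exists_smul_eq G x y
  have hG : Nat.card G = (p + 1) * p * t := by
    rw [D.hcard]
    ring
  have hd : t < p := D.ht_lt
  obtain ⟨Q₀, hQ₀⟩ := exists_sylow_eq D.hz D.hC
  obtain ⟨a, b, hab⟩ : Nontrivial (Sylow p G) :=
    Fintype.one_lt_card_iff_nontrivial.mp (by omega)
  obtain ⟨F, hFa, hFcard, hFfix, hFn⟩ := Lib.Perm.DP.exists_kernel (G := G) htr D.hp hΩ hG hd a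
  have S : Lib.Perm.DP.Pre G (Sylow p G) p a b F :=
    ⟨D.hp, inferInstance, htr, hab, hFa, hFcard, hΩ, hFfix, hFn⟩
  have hE := S.card_E hG
  have hne : t ≠ p - 1 := by
    intro h
    have h2 : 1 * t < s * t := Nat.mul_lt_mul_of_pos_right (by omega) (by omega)
    omega
  refine (S.psl hE (by omega) hne ?_).2
  rintro ⟨M, hMn, hMtr, hMfree⟩
  -- the order of `M`
  have hMc : Nat.card M = p + 1 := by
    rw [← hΩ, ← Nat.card_eq_fintype_card]
    apply Nat.card_eq_of_bijective (fun m : M => (m : G) • Q₀)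
    constructor
    · intro m m' h
      have h1 : ((m' : G)⁻¹ * (m : G)) • Q₀ = Q₀ := by
        rw [mul_smul]
        simp only at h
        rw [h, inv_smul_smul]
      have h2 := hMfree _ (mul_mem (inv_mem m'.2) m.2) Q₀ h1
      apply Subtype.ext
      exact (inv_mul_eq_one.mp h2).symm
    · intro Q
      obtain ⟨m, hm, h⟩ := hMtr Q₀ Q
      exact ⟨⟨m, hm⟩, h⟩
  -- the decomposition
  have hdec : ∀ g : G, ∃ m ∈ M, ∃ x ∈ Nz z, g = m * x := by
    intro g
    obtain ⟨m, hm, h⟩ := hMtr Q₀ (g • Q₀)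
    refine ⟨m, hm, m⁻¹ * g, ?_, by group⟩
    have h1 : (m⁻¹ * g) • Q₀ = Q₀ := by
      rw [mul_smul, ← h, inv_smul_smul]
    have h2 : m⁻¹ * g ∈ normalizer (((Q₀ : Subgroup G)) : Set G) := Sylow.smul_eq_iff_mem_normalizer.mp h1
    rw [hQ₀] at h2
    exact h2
  have hcomm : commutator G ≤ zpowers z ⊔ M := by
    rw [_root_.commutator_def, Subgroup.commutator_le]
    intro g₁ _ g₂ _
    obtain ⟨m₁, hm₁, x₁, hx₁, rfl⟩ := hdec g₁
    obtain ⟨m₂, hm₂, x₂, hx₂, rfl⟩ := hdec g₂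
    have h1 : x₁ * x₂ * x₁⁻¹ * x₂⁻¹ ∈ zpowers z := by
      rw [← D.hC]
      exact commutator_mem_centralizer hx₁ hx₂
    haveI := hMn
    have hq1 : (QuotientGroup.mk' M) m₁ = 1 := (QuotientGroup.eq_one_iff _).2 hm₁
    have hq2 : (QuotientGroup.mk' M) m₂ = 1 := (QuotientGroup.eq_one_iff _).2 hm₂
    rw [commutatorElement_def]
    obtain ⟨c, hc⟩ : ∃ c, c = (m₁ * x₁) * (m₂ * x₂) * (m₁ * x₁)⁻¹ * (m₂ * x₂)⁻¹ := ⟨_, rfl⟩
    have h2 : (QuotientGroup.mk' M) c = (QuotientGroup.mk' M) (x₁ * x₂ * x₁⁻¹ * x₂⁻¹) := by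
      rw [hc]
      simp only [map_mul, map_inv, hq1, hq2, one_mul]
    have h3 : c⁻¹ * (x₁ * x₂ * x₁⁻¹ * x₂⁻¹) ∈ M := by
      rw [← QuotientGroup.eq]
      exact h2
    rw [← hc]
    have h4 : c = (x₁ * x₂ * x₁⁻¹ * x₂⁻¹) * (c⁻¹ * (x₁ * x₂ * x₁⁻¹ * x₂⁻¹))⁻¹ := by group
    rw [h4]
    exact mul_mem (Subgroup.mem_sup_left h1) (Subgroup.mem_sup_right (inv_mem h3))
  rw [D.hperf, top_le_iff] at hcomm
  haveI := hMn
  have h1 := Subgroup.relIndex_sup_right (zpowers z) M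
  rw [hcomm, Subgroup.relIndex_top_right] at h1
  have h2 : M.relIndex (zpowers z) ∣ Nat.card (zpowers z) := Subgroup.relIndex_dvd_card _ _
  rw [← h1, D.card_P] at h2
  have h3 := M.card_mul_index
  rw [hMc, hG] at h3
  have h4 : M.index = p * t := by
    apply Nat.eq_of_mul_eq_mul_left (by omega : 0 < p + 1)
    rw [h3]
    ring
  rw [h4] at h2
  have h5 : p * t ≤ p := Nat.le_of_dvd D.hp.pos h2
  have h6 : p * 2 ≤ p * t := Nat.mul_le_mul_left _ ht2
  omega

end BRD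

end Cfsg.Agent.Lib.BR
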