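import Cfsg.Agent.Lib.SmallSimple.QCommon

/-!
# Recognition of `PSL(2, 2^f)` for perfect groups
-/

set_option autoImplicit false
set_option linter.unusedSectionVars false
set_option linter.style.haveILetI false
set_option linter.unusedSimpArgs false
set_option linter.unnecessarySimpa false
set_option linter.unusedVariables false

open Subgroup

namespace Cfsg.Agent.Lib.BR

universe u

variable {G : Type u} [Group G]

/-- Recognition of the projective special linear groups from abelian centralizers of involutions, for perfect groups. -/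
theorem psl_perfect [Finite G] (hperf : commutator G = ⊤)
    (heven : Even (Nat.card G))
    (hinv : ∀ t : G, orderOf t = 2 → IsMulCommutative (centralizer ({t} : Set G)))
    (hno : ¬ ∀ P : Sylow 2 G, (P : Subgroup G).Normal)
    {F' : Type*} [Field F'] [Fintype F']
    (hf : ∀ f : ℕ, 2 ≤ f → 2 ^ f * ((2 ^ f) ^ 2 - 1) = Nat.card G → 2 ^ f = Fintype.card F') :
    Nonempty (G ≃* Matrix.ProjectiveSpecialLinearGroup (Fin 2) F') := by
  classical
  haveI : Fact (Nat.Prime 2) := ⟨Nat.prime_two⟩
  obtain ⟨P⟩ : Nonempty (Sylow 2 G) := inferInstance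
  rcases Cfsg.Agent.Lib.InvCent.hyp_or heven hinv with h1 | h1 | h1
  · exfalso
    obtain ⟨H, hH⟩ := Cfsg.Agent.S0219.result heven P (h1 P)
    haveI hHn : H.Normal := Subgroup.normal_of_index_eq_two hH
    have hc2 : Nat.card (G ⧸ H) = 2 := hH
    haveI : Fact (Nat.card (G ⧸ H)).Prime := ⟨by rw [hc2]; exact Nat.prime_two⟩
    haveI hcyc : IsCyclic (G ⧸ H) := isCyclic_of_prime_card rfl
    letI : CommGroup (G ⧸ H) := IsCyclic.commGroup
    have h2 : commutator G ≤ (QuotientGroup.mk' H).ker := Abelianization.commutator_subset_ker _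
    rw [hperf, QuotientGroup.ker_mk', top_le_iff] at h2
    rw [h2, Subgroup.index_top] at hH
    omega
  · exact absurd h1 hno
  · obtain ⟨F, iF, iT, f, A, iA, iFA, hf2, hF, hc, hodd, ⟨φ⟩⟩ := h1.main
    haveI := hc
    let ρ : G →* Matrix.SpecialLinearGroup (Fin 2) F := (MonoidHom.fst _ _).comp φ.toMonoidHom
    let π₂ : G →* A := (MonoidHom.snd _ _).comp φ.toMonoidHom
    have h2 : commutator G ≤ π₂.ker := Abelianization.commutator_subset_ker _
    rw [hperf] at h2
    have hπ : ∀ a : G, π₂ a = 1 := fun a => h2 (by trivial : a ∈ (⊤ : Subgroup G))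
    have hbij : Function.Bijective ρ := by
      constructor
      · rw [← MonoidHom.ker_eq_bot_iff, eq_bot_iff]
        intro a ha
        rw [Subgroup.mem_bot]
        apply φ.injective
        rw [map_one]
        apply Prod.ext
        · exact ha
        · exact hπ a
      · intro y
        refine ⟨φ.symm (y, 1), ?_⟩
        show (φ (φ.symm (y, 1))).1 = y
        rw [MulEquiv.apply_symm_apply]
    have e1 : Nat.card G = Nat.card (Matrix.SpecialLinearGroup (Fin 2) F) :=
      Nat.card_congr (MulEquiv.ofBijective ρ hbij).toEquiv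
    have e2 := Cfsg.Agent.Lib.KS2.SL2.card_SL2 (F := F)
    rw [hF] at e2
    have e3 := hf f hf2 (by rw [e1, e2])
    have e4 : F ≃+* F' := FiniteField.ringEquivOfCardEq (by rw [hF, e3])
    exact ⟨(MulEquiv.ofBijective ρ hbij).trans
      (Cfsg.Agent.Lib.InvCent.equivPSL.trans (Cfsg.Agent.Lib.Classical.RC.pslCongr e4))⟩

end Cfsg.Agent.Lib.BR
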