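import Cfsg.Agent.Lib.BR.CaseA
import Cfsg.Agent.Lib.BR.PslPerfect

/-!
# The case `t = 2`, `n + 1 = s`: the group `PSL(2, 2^e)`
-/

set_option autoImplicit false
set_option linter.unusedSectionVars false
set_option linter.style.haveILetI false
set_option linter.unusedSimpArgs false
set_option linter.unnecessarySimpa false
set_option linter.unusedVariables false
set_option maxSynthPendingDepth 3

open scoped ComplexConjugate
open Subgroup

namespace Cfsg.Agent.Lib.BR

open Cfsg (classInner IsCharacter IsIrrCharacter IrrCharacter IsClassFunction indFun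
  extendByZero IsGeneralizedCharacter IsPModular principalBlock)
open Cfsg.Agent.Lib.Char
open Cfsg.Agent.Lib.Block hiding tr

universe u

variable {G : Type u} [Group G] [Fintype G] {p : ℕ} {z : G}
  {t s n : ℕ} {Xs Ys : Finset (IrrCharacter G)} {δ : IrrCharacter G → ℤ} {ε : ℤ}
  {deg : IrrCharacter G → ℕ}

namespace BRD

variable (D : BRD p z t s n Xs Ys δ ε deg)
include D

/-- The centralizer of any element of order `p` has order `p`. -/
theorem card_cent_order_p {a : G} (ha : orderOf a = p) : Nat.card (centralizer ({a} : Set G)) = p := by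
  haveI := D.fact_p
  obtain ⟨Q₀, hQ₀⟩ := exists_sylow_eq D.hz D.hC
  have hpa : IsPGroup p (zpowers a) := by
    apply IsPGroup.of_card (n := 1)
    rw [Nat.card_zpowers, ha, pow_one]
  obtain ⟨Q, hQ⟩ := hpa.exists_le_sylow
  obtain ⟨c, hc⟩ := MulAction.exists_smul_eq G Q Q₀
  have h1 : c * a * c⁻¹ ∈ (Q₀ : Subgroup G) := by
    rw [← hc]
    have h2 : a ∈ (Q : Subgroup G) := hQ (mem_zpowers a)
    have h3 : (MulAut.conj c) a ∈ (c • Q : Sylow p G) := by
      rw [Sylow.smul_def]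
      exact ⟨a, h2, rfl⟩
    rw [MulAut.conj_apply] at h3
    exact h3
  rw [hQ₀] at h1
  have h4 : c * a * c⁻¹ ≠ 1 := by
    intro h
    have h5 : a = 1 := by
      have e : a = c⁻¹ * (c * a * c⁻¹) * c := by group
      rw [e, h]
      group
    rw [h5, orderOf_one] at ha
    have := D.hp3
    omega
  have h5 : IsConj a (c * a * c⁻¹) := isConj_iff.mpr ⟨c, rfl⟩
  rw [Cfsg.Agent.Lib.Char.card_centralizer_of_isConj h5, centralizer_of_mem D.hz D.hp h1 h4, D.hC, D.card_P]

/-- No element has order divisible by `p` and another prime. -/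
theorem no_mix (g : G) {r : ℕ} (hr : r.Prime) (hrp : r ≠ p) (h1 : r ∣ orderOf g) (h2 : p ∣ orderOf g) : False := by
  have hg0 : orderOf g ≠ 0 := (orderOf_pos g).ne'
  have hy : orderOf (g ^ (orderOf g / p)) = p := orderOf_pow_orderOf_div hg0 h2
  have ht : orderOf (g ^ (orderOf g / r)) = r := orderOf_pow_orderOf_div hg0 h1
  have hc : g ^ (orderOf g / r) ∈ centralizer ({g ^ (orderOf g / p)} : Set G) := by
    rw [Subgroup.mem_centralizer_singleton_iff]
    exact ((Commute.refl g).pow_pow _ _).eq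
  have hd := orderOf_dvd_natCard (⟨_, hc⟩ : centralizer ({g ^ (orderOf g / p)} : Set G))
  rw [Subgroup.orderOf_mk, ht, D.card_cent_order_p hy] at hd
  exact hrp ((Nat.prime_dvd_prime_iff_eq hr D.hp).1 hd)

open Classical in
/-- Non-conjugate elements on which the exceptional characters take the value `-1`. -/
theorem conj_of_minus_one {g g' : G} (hY : ∀ θ ∈ Ys, (θ : G → ℂ) g = -1) (hY' : ∀ θ ∈ Ys, (θ : G → ℂ) g' = -1)
    {c : ℕ} (h1 : Nat.card (centralizer ({g} : Set G)) ≤ c) (h2 : Nat.card (centralizer ({g'} : Set G)) ≤ c)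
    (hc : c = 2 * s) : IsConj g g' := by
  classical
  by_contra hnc
  have hc' : ¬ IsConj g' g := fun h => hnc h.symm
  have o1 := second_orthogonality' g g
  have o2 := second_orthogonality' g' g'
  have o3 := second_orthogonality' g g'
  have o4 := second_orthogonality' g' g
  rw [if_pos (IsConj.refl _)] at o1 o2
  rw [if_neg hnc] at o3
  rw [if_neg hc'] at o4
  let f : IrrCharacter G → ℂ := fun χ => (χ : G → ℂ) g + (χ : G → ℂ) g'
  have hf1 : ∑ χ : IrrCharacter G, ((Complex.normSq (f χ) : ℝ) : ℂ) =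
      (Nat.card (centralizer ({g} : Set G)) : ℂ) + (Nat.card (centralizer ({g'} : Set G)) : ℂ) := by
    rw [← o1, ← o2]
    have : ∀ χ : IrrCharacter G, ((Complex.normSq (f χ) : ℝ) : ℂ) =
        (χ : G → ℂ) g * conj ((χ : G → ℂ) g) + (χ : G → ℂ) g' * conj ((χ : G → ℂ) g') +
        ((χ : G → ℂ) g * conj ((χ : G → ℂ) g') + (χ : G → ℂ) g' * conj ((χ : G → ℂ) g)) := by
      intro χ
      rw [← Complex.mul_conj]
      simp only [f, map_add]
      ring
    simp only [this, Finset.sum_add_distrib, o3, o4]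
    simp
  have hf2 : ∑ χ : IrrCharacter G, (Complex.normSq (f χ) : ℝ) =
      (Nat.card (centralizer ({g} : Set G)) : ℝ) + (Nat.card (centralizer ({g'} : Set G)) : ℝ) := by
    exact_mod_cast hf1
  have hone : oneIrr G ∉ Ys := fun h => Finset.disjoint_left.mp D.hdisj D.hone h
  have hge : (4 : ℝ) * (1 + s) ≤ ∑ χ : IrrCharacter G, Complex.normSq (f χ) := by
    have e1 : ∑ χ ∈ insert (oneIrr G) Ys, Complex.normSq (f χ) = 4 * (1 + s) := by
      rw [Finset.sum_insert hone]
      have e2 : f (oneIrr G) = 2 := by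
        show ((oneIrr G : IrrCharacter G) : G → ℂ) g + ((oneIrr G : IrrCharacter G) : G → ℂ) g' = 2
        have h1 : ((oneIrr G : IrrCharacter G) : G → ℂ) g = 1 := rfl
        have h2 : ((oneIrr G : IrrCharacter G) : G → ℂ) g' = 1 := rfl
        rw [h1, h2]
        norm_num
      have e3 : ∀ θ ∈ Ys, Complex.normSq (f θ) = 4 := by
        intro θ hθ
        show Complex.normSq ((θ : G → ℂ) g + (θ : G → ℂ) g') = 4
        rw [hY θ hθ, hY' θ hθ]
        norm_num [Complex.normSq_apply]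
      rw [Finset.sum_congr rfl e3, e2, Finset.sum_const, D.hYc]
      norm_num [Complex.normSq_apply]
      ring
    rw [← e1]
    exact Finset.sum_le_sum_of_subset_of_nonneg (Finset.subset_univ _) fun χ _ _ => Complex.normSq_nonneg _
  rw [hf2] at hge
  have h3 : (Nat.card (centralizer ({g} : Set G)) : ℝ) ≤ c := by exact_mod_cast h1
  have h4 : (Nat.card (centralizer ({g'} : Set G)) : ℝ) ≤ c := by exact_mod_cast h2
  have h5 : (c : ℝ) = 2 * s := by exact_mod_cast hc
  linarith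

/-- **The case `t = 2`.** -/
theorem case_b' {X : ℕ} (hX : ∀ θ ∈ Ys, deg θ = X) (hs3 : 2 ≤ s) (hns : n + 1 = s) (ht : t = 2)
    (hXp : X + 2 = p) (hε : ε = -1) (ha : (As Xs δ).card = 0) (hb : (Bs Xs δ).card = 1) :
    ∃ e : ℕ, p = 2 ^ e + 1 ∧ 3 < p ∧ ∀ (F' : Type) [Field F'] [Fintype F'], Fintype.card F' = 2 ^ e →
      Nonempty (G ≃* Matrix.ProjectiveSpecialLinearGroup (Fin 2) F') := by
  classical
  haveI hfp : Fact p.Prime := D.fact_p
  have hpr := D.hp
  have hst := D.hst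
  rw [ht] at hst
  subst ht
  have hA0 : As Xs δ = ∅ := Finset.card_eq_zero.mp ha
  obtain ⟨β, hβ⟩ := Finset.card_eq_one.mp hb
  have hβB : β ∈ Bs Xs δ := by rw [hβ]; exact Finset.mem_singleton_self _
  have hβd : deg β = X + 1 := by
    have := D.deg_Bs hβB
    omega
  have hβδ := (D.mem_Bs hβB).2
  have hβ1 : β ≠ oneIrr G := fun h => D.one_not_mem_Bs (h ▸ hβB)
  have hs2 : s * 2 = X + 1 := by omega
  obtain ⟨θ₀, hθ₀⟩ : Ys.Nonempty := by
    rw [← Finset.card_pos, D.hYc]
    omega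
  have hY1 : ∀ χ ∈ Ys, χ ≠ oneIrr G := fun χ hχ h =>
    Finset.disjoint_left.mp D.hdisj D.hone (h ▸ hχ)
  have hYβ : ∀ χ ∈ Ys, χ ≠ β := fun χ hχ h =>
    Finset.disjoint_left.mp D.hdisj (D.mem_Bs hβB).1 (h ▸ hχ)
  -- the order of the group
  have hcard : Nat.card G = p * (X + 1) * X := by
    rw [D.hcard]
    have e1 : X = 2 * n + 1 := by omega
    have e2 : p = 2 * n + 3 := by omega
    rw [e1, e2]
    ring
  have hXpos : 3 ≤ X := by omega
  -- the relation
  have hrel' : ∀ θ ∈ Ys, ∀ g : G, ¬ p ∣ orderOf g → (θ : G → ℂ) g = (β : G → ℂ) g - 1 := by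
    intro θ hθ g hg
    have h1 := D.hrel θ hθ g hg
    rw [D.sum_Xs, hA0, Finset.sum_empty, hβ, Finset.sum_singleton, hε, D.hδone, hβδ] at h1
    have e : ((oneIrr G : IrrCharacter G) : G → ℂ) g = 1 := rfl
    rw [e] at h1
    push_cast at h1
    linear_combination -h1
  have hndvd_X1 : ∀ r : ℕ, r.Prime → r ∣ X + 1 → r ≠ p := by
    rintro r hr hd rfl
    have := Nat.le_of_dvd (by omega) hd
    omega
  -- vanishing on singular elements
  have hβv : ∀ r : ℕ, r.Prime → r ∣ X + 1 → ∀ g : G, r ∣ orderOf g → (β : G → ℂ) g = 0 := by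
    intro r hr hd g hg
    obtain ⟨e, c, hc, hec⟩ := Nat.exists_eq_pow_mul_and_not_dvd (by omega : X + 1 ≠ 0) r hr.ne_one
    have hrX : ¬ r ∣ X := by
      intro h
      have := (Nat.dvd_add_right h).1 hd
      exact hr.one_lt.ne' (Nat.dvd_one.mp this)
    have hrp : ¬ r ∣ p := fun h => hndvd_X1 r hr hd ((Nat.prime_dvd_prime_iff_eq hr hpr).1 h)
    refine Lib.SmallSimple.QC.vanish_of_dvd β (D.hdeg β).1 hr (b := e) (m := c * (p * X)) ?_ ?_ ?_ hg
    · rw [hcard]
      nth_rewrite 1 [hec]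
      ring
    · intro h
      rcases (Nat.Prime.dvd_mul hr).1 h with h | h
      · exact hc h
      · rcases (Nat.Prime.dvd_mul hr).1 h with h | h
        · exact hrp h
        · exact hrX h
    · rw [hβd]
      exact ⟨c, hec⟩
  have hYv : ∀ r : ℕ, r.Prime → r ∣ X → ∀ θ ∈ Ys, ∀ g : G, r ∣ orderOf g → (θ : G → ℂ) g = 0 := by
    intro r hr hd θ hθ g hg
    obtain ⟨e, c, hc, hec⟩ := Nat.exists_eq_pow_mul_and_not_dvd (by omega : X ≠ 0) r hr.ne_one
    have hrX : ¬ r ∣ X + 1 := by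
      intro h
      have := (Nat.dvd_add_right hd).1 h
      exact hr.one_lt.ne' (Nat.dvd_one.mp this)
    have hrp : ¬ r ∣ p := by
      intro h
      have e1 := (Nat.prime_dvd_prime_iff_eq hr hpr).1 h
      have := Nat.le_of_dvd (by omega) hd
      omega
    refine Lib.SmallSimple.QC.vanish_of_dvd θ (D.hdeg θ).1 hr (b := e) (m := c * (p * (X + 1))) ?_ ?_ ?_ hg
    · rw [hcard]
      nth_rewrite 2 [hec]
      ring
    · intro h
      rcases (Nat.Prime.dvd_mul hr).1 h with h | h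
      · exact hc h
      · rcases (Nat.Prime.dvd_mul hr).1 h with h | h
        · exact hrp h
        · exact hrX h
    · rw [hX θ hθ]
      exact ⟨c, hec⟩
  have hval : ∀ r : ℕ, r.Prime → r ∣ X + 1 → ∀ g : G, r ∣ orderOf g → ∀ θ ∈ Ys, (θ : G → ℂ) g = -1 := by
    intro r hr hd g hg θ hθ
    have h1 : ¬ p ∣ orderOf g := fun h => D.no_mix g hr (hndvd_X1 r hr hd) hg h
    rw [hrel' θ hθ g h1, hβv r hr hd g hg]
    ring
  have hA : ∀ r : ℕ, r.Prime → r ∣ X + 1 → ∀ g : G, r ∣ orderOf g → ∀ r' : ℕ, r'.Prime →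
      r' ∣ p * X → ¬ r' ∣ orderOf g := by
    intro r hr hd g hg r' hr' hd' hg'
    rcases (Nat.Prime.dvd_mul hr').1 hd' with h | h
    · have e1 := (Nat.prime_dvd_prime_iff_eq hr' hpr).1 h
      rw [e1] at hg'
      exact D.no_mix g hr (hndvd_X1 r hr hd) hg hg'
    · have h1 := hval r hr hd g hg θ₀ hθ₀
      rw [hYv r' hr' h θ₀ hθ₀ g hg'] at h1
      norm_num at h1
  -- the centralizers
  have hCdvd : ∀ r : ℕ, r.Prime → r ∣ X + 1 → ∀ g : G, orderOf g = r →
      Nat.card (centralizer ({g} : Set G)) ∣ X + 1 := by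
    intro r hr hd g hg
    have h1 : Nat.card (centralizer ({g} : Set G)) ∣ (X + 1) * (p * X) := by
      have := Subgroup.card_subgroup_dvd_card (centralizer ({g} : Set G))
      rw [hcard] at this
      have e : p * (X + 1) * X = (X + 1) * (p * X) := by ring
      rwa [e] at this
    refine Nat.Coprime.dvd_of_dvd_mul_right ?_ h1
    apply Nat.coprime_of_dvd
    intro r' hr' h2 h3
    haveI : Fact r'.Prime := ⟨hr'⟩
    obtain ⟨y, hy⟩ := exists_prime_orderOf_dvd_card' r' h2
    have hy' : orderOf (y : G) = r' := by rw [Subgroup.orderOf_coe]; exact hy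
    have hne : r ≠ r' := by
      rintro rfl
      rcases (Nat.Prime.dvd_mul hr).1 h3 with h | h
      · exact hndvd_X1 r hr hd ((Nat.prime_dvd_prime_iff_eq hr hpr).1 h)
      · have := (Nat.dvd_add_right h).1 hd
        exact hr.one_lt.ne' (Nat.dvd_one.mp this)
    have hcom : Commute (y : G) g := Subgroup.mem_centralizer_singleton_iff.mp y.2
    have hcop : Nat.Coprime (orderOf g) (orderOf (y : G)) := by
      rw [hg, hy']
      exact (Nat.coprime_primes hr hr').2 hne
    have ho := hcom.symm.orderOf_mul_eq_mul_orderOf_of_coprime hcop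
    rw [hg, hy'] at ho
    exact hA r hr hd (g * y) (by rw [ho]; exact dvd_mul_right _ _) r' hr' h3
      (by rw [ho]; exact dvd_mul_left _ _)
  have hCle : ∀ r : ℕ, r.Prime → r ∣ X + 1 → ∀ g : G, orderOf g = r →
      Nat.card (centralizer ({g} : Set G)) ≤ X + 1 := fun r hr hd g hg =>
    Nat.le_of_dvd (by omega) (hCdvd r hr hd g hg)
  -- `X + 1` is a power of two
  have h2d : 2 ∣ X + 1 := ⟨s, by omega⟩
  have hcd : ∀ r : ℕ, r ∣ X + 1 → r ∣ Nat.card G := by
    intro r h
    rw [hcard]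
    exact (h.mul_left p).mul_right X
  haveI h2f : Fact (Nat.Prime 2) := ⟨Nat.prime_two⟩
  obtain ⟨g₂, hg₂⟩ := exists_prime_orderOf_dvd_card' 2 (hcd 2 h2d)
  have hpow2 : ∀ r : ℕ, r.Prime → r ∣ X + 1 → r = 2 := by
    intro r hr hd
    haveI : Fact r.Prime := ⟨hr⟩
    obtain ⟨g, hg⟩ := exists_prime_orderOf_dvd_card' r (hcd r hd)
    have h1 : IsConj g g₂ := D.conj_of_minus_one
      (hval r hr hd g (by rw [hg])) (hval 2 Nat.prime_two h2d g₂ (by rw [hg₂]))
      (hCle r hr hd g hg) (hCle 2 Nat.prime_two h2d g₂ hg₂) (by omega)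
    obtain ⟨c, hc⟩ := isConj_iff.mp h1
    rw [← hg, ← hg₂, ← hc]
    exact ((MulAut.conj c).orderOf_eq g).symm
  have hpow : X + 1 = 2 ^ (X + 1).primeFactorsList.length :=
    Nat.eq_prime_pow_of_unique_prime_dvd (by omega) (fun {d} hd hd' => hpow2 d hd hd')
  obtain ⟨e, he⟩ : ∃ e, X + 1 = 2 ^ e := ⟨_, hpow⟩
  have hmo : ¬ 2 ∣ p * X := by
    intro h
    rcases (Nat.Prime.dvd_mul Nat.prime_two).1 h with h | h
    · exact D.hp_odd ((Nat.prime_dvd_prime_iff_eq Nat.prime_two hpr).1 h).symm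
    · omega
  have hcard2 : Nat.card G = 2 ^ e * (p * X) := by
    rw [hcard, he]
    ring
  have hinv := Lib.SmallSimple.QC.inv_cent_of_block e (p * X) hcard2 hmo deg (fun χ => (D.hdeg χ).1)
    (-1) (Or.inr rfl) β Ys hβ1 hY1 hYβ X hX (hβv 2 Nat.prime_two h2d)
    (fun χ hχ g hg => by
      have := hval 2 Nat.prime_two h2d g hg χ hχ
      rw [this]
      norm_num)
    (fun g r hr hr2 hg hrg => by
      have h1 : r ∣ 2 ^ e * (p * X) := by
        rw [← hcard2]
        exact hrg.trans (orderOf_dvd_natCard g)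
      rcases (Nat.Prime.dvd_mul hr).1 h1 with h | h
      · exact hr2 ((Nat.prime_dvd_prime_iff_eq hr Nat.prime_two).1 (hr.dvd_of_dvd_pow h))
      · exact hA 2 Nat.prime_two h2d g hg r hr h hrg)
    (by rw [← he, D.hYc]; omega)
    (by
      rw [D.hYc]
      have h1 : (3 : ℤ) ≤ X := by exact_mod_cast hXpos
      have h2 : (2 : ℤ) ≤ s := by exact_mod_cast hs3
      have h3 : (3 : ℤ) * 2 ≤ X * s := mul_le_mul h1 h2 (by norm_num) (by linarith)
      intro h
      nlinarith)
  have hp' : p = 2 ^ e + 1 := by omega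
  refine ⟨e, hp', by omega, ?_⟩
  intro F' _ _ hF'
  have hno : ¬ ∀ P : Sylow 2 G, (P : Subgroup G).Normal := by
    intro hn
    have hg₂1 : g₂ ≠ 1 := by
      rintro rfl
      simp at hg₂
    have hp2 : IsPGroup 2 (zpowers g₂) := by
      apply IsPGroup.of_card (n := 1)
      rw [Nat.card_zpowers, hg₂, pow_one]
    obtain ⟨Q, hQ⟩ := hp2.exists_le_sylow
    haveI hQn := hn Q
    have hsub : Finset.univ.filter (fun x => IsConj g₂ x) ⊆ Finset.univ.filter (fun x => x ∈ (Q : Subgroup G)) := by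
      intro x hx
      simp only [Finset.mem_filter, Finset.mem_univ, true_and] at hx ⊢
      obtain ⟨c, rfl⟩ := isConj_iff.mp hx
      exact hQn.conj_mem _ (hQ (mem_zpowers g₂)) c
    have h1 := Finset.card_le_card hsub
    rw [card_filter_isConj] at h1
    have h2 : (Finset.univ.filter (fun x => x ∈ (Q : Subgroup G))).card = Nat.card (Q : Subgroup G) := by
      rw [Nat.card_eq_fintype_card, Fintype.card_subtype]
    rw [h2] at h1
    have h3 : Nat.card (Q : Subgroup G) ≤ 2 ^ e := by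
      obtain ⟨k, hk⟩ := IsPGroup.iff_card.1 Q.isPGroup'
      have h4 : Nat.card (Q : Subgroup G) ∣ 2 ^ e * (p * X) := by
        rw [← hcard2]
        exact Subgroup.card_subgroup_dvd_card _
      have h5 : Nat.Coprime (Nat.card (Q : Subgroup G)) (p * X) := by
        rw [hk]
        exact Nat.Coprime.pow_left _ ((Nat.prime_two.coprime_iff_not_dvd).2 hmo)
      exact Nat.le_of_dvd (by positivity) (h5.dvd_of_dvd_mul_right h4)
    have h6 := index_mul_card_centralizer g₂
    have h7 := hCle 2 Nat.prime_two h2d g₂ hg₂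
    have h8 : (centralizer ({g₂} : Set G)).index * (X + 1) ≥ Nat.card G := by
      rw [← h6]
      exact Nat.mul_le_mul_left _ h7
    rw [hcard] at h8
    have h9 : p * X ≤ (centralizer ({g₂} : Set G)).index := by
      by_contra hlt
      push Not at hlt
      have e1 : (centralizer ({g₂} : Set G)).index * (X + 1) < p * X * (X + 1) :=
        Nat.mul_lt_mul_of_pos_right hlt (by omega)
      have e2 : p * (X + 1) * X = p * X * (X + 1) := by ring
      omega
    have h10 : p * X ≤ X + 1 := by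
      calc p * X ≤ _ := h9
        _ ≤ _ := h1
        _ ≤ _ := h3
        _ = X + 1 := he.symm
    have h11 : 2 * X ≤ p * X := Nat.mul_le_mul_right _ (by omega)
    omega
  refine psl_perfect D.hperf (even_iff_two_dvd.mpr (hcd 2 h2d)) hinv hno ?_
  intro f hf2 hf
  rw [hF', ← he]
  rw [hcard] at hf
  obtain ⟨w, hw⟩ : ∃ w, w = 2 ^ f := ⟨_, rfl⟩
  rw [← hw] at hf ⊢
  have hw1 : 1 ≤ w := by rw [hw]; exact Nat.one_le_two_pow
  have h1 : ((w : ℤ)) * ((w : ℤ) ^ 2 - 1) = (X + 2) * (X + 1) * X := by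
    have e1 : ((w ^ 2 - 1 : ℕ) : ℤ) = (w : ℤ) ^ 2 - 1 := by
      rw [Nat.cast_sub (Nat.one_le_pow _ _ hw1)]
      push_cast
      ring
    have e2 : ((w * (w ^ 2 - 1) : ℕ) : ℤ) = ((p * (X + 1) * X : ℕ) : ℤ) := by rw [hf]
    rw [Nat.cast_mul, e1] at e2
    rw [e2]
    push_cast
    rw [← hXp]
    push_cast
    ring
  have h2 : ((w : ℤ) - (X + 1)) * ((w : ℤ) ^ 2 + w * (X + 1) + (X + 1) ^ 2 - 1) = 0 := by
    linear_combination h1
  have hXz : (3 : ℤ) ≤ X := by exact_mod_cast hXpos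
  have hwz : (1 : ℤ) ≤ w := by exact_mod_cast hw1
  have h3 : ((w : ℤ) ^ 2 + w * (X + 1) + (X + 1) ^ 2 - 1) ≠ 0 := by
    have e1 : (0 : ℤ) ≤ (w : ℤ) ^ 2 := by positivity
    have e2 : (0 : ℤ) ≤ (w : ℤ) * (X + 1) := by positivity
    nlinarith
  rcases mul_eq_zero.mp h2 with h4 | h4
  · have h5 : (w : ℤ) = X + 1 := by linarith
    exact_mod_cast h5
  · exact absurd h4 h3

/-- **The case `t = 2`.** -/
theorem case_b {X : ℕ} (hX : ∀ θ ∈ Ys, deg θ = X) (hs3 : 3 ≤ s) (hns : n + 1 = s) (ht : t = 2)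
    (hXp : X + 2 = p) (hε : ε = -1) (ha : (As Xs δ).card = 0) (hb : (Bs Xs δ).card = 1) :
    ∃ e : ℕ, p = 2 ^ e + 1 ∧ 3 < p ∧ ∀ (F' : Type) [Field F'] [Fintype F'], Fintype.card F' = 2 ^ e →
      Nonempty (G ≃* Matrix.ProjectiveSpecialLinearGroup (Fin 2) F') :=
  D.case_b' hX (by omega) hns ht hXp hε ha hb

end BRD

end Cfsg.Agent.Lib.BR
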