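import Cfsg.Agent.Lib.BR.Fix

/-!
# Structure of the principal block for a self-centralizing element
-/

set_option autoImplicit false
set_option linter.unusedSectionVars false
set_option linter.style.haveILetI false
set_option linter.unusedSimpArgs false
set_option linter.unnecessarySimpa false
set_option linter.unusedVariables false
set_option maxSynthPendingDepth 3

open scoped ComplexConjugate
open Subgroup

namespace Cfsg.Agent.Lib.BR

open Cfsg (classInner IsCharacter IsIrrCharacter IrrCharacter IsClassFunction indFun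
  extendByZero IsGeneralizedCharacter IsPModular principalBlock)
open Cfsg.Agent.Lib.Char
open Cfsg.Agent.Lib.Block hiding tr

universe u

variable {G : Type u} [Group G] [Fintype G] {p : ℕ} {z : G}
  {t s n : ℕ} {Xs Ys : Finset (IrrCharacter G)} {δ : IrrCharacter G → ℤ} {ε : ℤ}
  {deg : IrrCharacter G → ℕ}

open Classical in
/-- The non-trivial characters of sign plus. -/
noncomputable def As (Xs : Finset (IrrCharacter G)) (δ : IrrCharacter G → ℤ) : Finset (IrrCharacter G) :=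
  Xs.filter (fun χ => χ ≠ oneIrr G ∧ δ χ = 1)

open Classical in
/-- The characters of sign minus. -/
noncomputable def Bs (Xs : Finset (IrrCharacter G)) (δ : IrrCharacter G → ℤ) : Finset (IrrCharacter G) :=
  Xs.filter (fun χ => δ χ = -1)

open Classical in
/-- The characters outside the principal block. -/
noncomputable def Zs (Xs Ys : Finset (IrrCharacter G)) : Finset (IrrCharacter G) :=
  Finset.univ \ (Xs ∪ Ys)

namespace BRD

variable (D : BRD p z t s n Xs Ys δ ε deg)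
include D

theorem hp0 : 0 < p := D.hp.pos

theorem fact_p : Fact p.Prime := ⟨D.hp⟩

theorem hp1z : ((p : ℕ) : ℂ) ≠ 0 := by exact_mod_cast D.hp.pos.ne'

/-- The sum of the squares of the degrees. -/
theorem sum_deg_sq : ∑ χ : IrrCharacter G, (deg χ) ^ 2 = Nat.card G := by
  have h1 := sum_degree_sq (G := G)
  have h2 : ∀ χ : IrrCharacter G, (χ : G → ℂ) 1 ^ 2 = ((deg χ ^ 2 : ℕ) : ℂ) := by
    intro χ
    rw [(D.hdeg χ).1]
    push_cast
    rfl
  simp only [h2] at h1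
  exact_mod_cast h1

theorem deg_sq_le (χ : IrrCharacter G) : deg χ * deg χ ≤ p * (t * (1 + n * p)) := by
  have h1 := Finset.single_le_sum (f := fun χ : IrrCharacter G => (deg χ) ^ 2)
    (fun χ _ => Nat.zero_le _) (Finset.mem_univ χ)
  rw [D.sum_deg_sq, D.hcard] at h1
  rw [← sq, ← mul_assoc]
  exact h1

theorem deg_dvd (χ : IrrCharacter G) (hnd : ¬ p ∣ deg χ) : deg χ ∣ t * (1 + n * p) := by
  have h1 := (D.hdeg χ).2.2
  rw [D.hcard, mul_assoc] at h1
  have hc : Nat.Coprime (deg χ) p := ((Nat.Prime.coprime_iff_not_dvd D.hp).2 hnd).symm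
  exact hc.dvd_of_dvd_mul_left h1

theorem ht_lt : t < p := by
  have hs1 : 1 ≤ s := by
    rcases Nat.eq_zero_or_pos s with h | h
    · have := D.hst
      rw [h] at this
      have := D.hp3
      omega
    · exact h
  have h1 := D.hst
  have h2 : 1 * t ≤ s * t := Nat.mul_le_mul_right _ hs1
  omega

theorem hs1 : 1 ≤ s := by
  rcases Nat.eq_zero_or_pos s with h | h
  · have := D.hst
    rw [h] at this
    have := D.hp3
    omega
  · exact h

/-- Degrees in the set `X`. -/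
theorem classify {χ : IrrCharacter G} (hχ : χ ∈ Xs) (h1 : χ ≠ oneIrr G) :
    (δ χ = 1 ∧ deg χ = 1 + n * p) ∨ (δ χ = -1 ∧ deg χ + 1 = p) := by
  have hp3 := D.hp3
  have hpz : (3 : ℤ) ≤ p := by exact_mod_cast hp3
  have hd := D.hXdeg χ hχ
  have hd0 := (D.hdeg χ).2.1
  have hd1 : deg χ ≠ 1 := fun h => h1 (D.hdeg1 χ h)
  rcases D.hδ χ hχ with hs | hs
  · left
    refine ⟨hs, ?_⟩
    rw [hs] at hd
    obtain ⟨c, hc⟩ := Int.modEq_iff_dvd.mp hd.symm
    have hc0 : 0 ≤ c := by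
      by_contra hneg
      push Not at hneg
      have e : (deg χ : ℤ) = 1 + p * c := by linarith
      have e2 : (1 : ℤ) ≤ deg χ := by exact_mod_cast Nat.pos_of_ne_zero hd0
      have e3 : (p : ℤ) * c ≤ p * (-1) := mul_le_mul_of_nonneg_left (by omega) (by omega)
      linarith
    obtain ⟨k, rfl⟩ := Int.eq_ofNat_of_zero_le hc0
    have e : deg χ = k * p + 1 := by
      have e1 : (deg χ : ℤ) = (k : ℤ) * p + 1 := by linarith
      exact_mod_cast e1
    have hk : 1 ≤ k := by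
      rcases Nat.eq_zero_or_pos k with h | h
      · subst h
        simp at e
        exact absurd e hd1
      · exact h
    have hnd : ¬ p ∣ deg χ := by
      rw [e]
      intro hc'
      have := (Nat.dvd_add_right (dvd_mul_left p k)).1 hc'
      have := Nat.le_of_dvd (by norm_num) this
      omega
    have hkn := Arith.plus_deg hp3 D.hp D.hst D.hn2 hk (by rw [← e]; exact D.deg_dvd χ hnd)
    rw [e, hkn]
    ring
  · right
    refine ⟨hs, ?_⟩
    rw [hs] at hd
    obtain ⟨c, hc⟩ := Int.modEq_iff_dvd.mp hd.symm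
    have hc0 : 0 < c := by
      by_contra hneg
      push Not at hneg
      have e : (deg χ : ℤ) + 1 = p * c := by linarith
      have e2 : (1 : ℤ) ≤ deg χ := by exact_mod_cast Nat.pos_of_ne_zero hd0
      have e3 : (p : ℤ) * c ≤ p * 0 := mul_le_mul_of_nonneg_left hneg (by omega)
      linarith
    obtain ⟨k, rfl⟩ := Int.eq_ofNat_of_zero_le hc0.le
    have e : deg χ + 1 = k * p := by
      have e1 : (deg χ : ℤ) + 1 = (k : ℤ) * p := by linarith
      exact_mod_cast e1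
    have hk : 1 ≤ k := by
      have : (0 : ℤ) < (k : ℤ) := hc0
      exact_mod_cast this
    have hnd : ¬ p ∣ deg χ := by
      intro hc'
      have e3 : p ∣ deg χ + 1 := ⟨k, by rw [e, mul_comm]⟩
      have := (Nat.dvd_add_right hc').1 e3
      have := Nat.le_of_dvd (by norm_num) this
      omega
    have hkn := Arith.minus_deg hp3 D.hst D.hn2 D.hn1 hk e (D.deg_dvd χ hnd) (D.deg_sq_le χ)
    rw [e, hkn, one_mul]

theorem one_not_mem_As : oneIrr G ∉ As Xs δ := by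
  classical
  simp [As]

theorem mem_As {χ : IrrCharacter G} (h : χ ∈ As Xs δ) : χ ∈ Xs ∧ χ ≠ oneIrr G ∧ δ χ = 1 := by
  classical
  simpa [As] using h

theorem mem_Bs {χ : IrrCharacter G} (h : χ ∈ Bs Xs δ) : χ ∈ Xs ∧ δ χ = -1 := by
  classical
  simpa [Bs] using h

theorem deg_As {χ : IrrCharacter G} (h : χ ∈ As Xs δ) : deg χ = 1 + n * p := by
  obtain ⟨h1, h2, h3⟩ := D.mem_As h
  rcases D.classify h1 h2 with h4 | h4
  · exact h4.2
  · rw [h4.1] at h3
    norm_num at h3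

theorem deg_Bs {χ : IrrCharacter G} (h : χ ∈ Bs Xs δ) : deg χ + 1 = p := by
  obtain ⟨h1, h3⟩ := D.mem_Bs h
  have h2 : χ ≠ oneIrr G := by
    rintro rfl
    rw [D.hδone] at h3
    norm_num at h3
  rcases D.classify h1 h2 with h4 | h4
  · rw [h4.1] at h3
    norm_num at h3
  · exact h4.2

theorem one_not_mem_Bs : oneIrr G ∉ Bs Xs δ := by
  intro h
  have := (D.mem_Bs h).2
  rw [D.hδone] at this
  norm_num at this

theorem disjoint_AB : Disjoint (As Xs δ) (Bs Xs δ) := by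
  rw [Finset.disjoint_left]
  intro χ h1 h2
  have e1 := (D.mem_As h1).2.2
  have e2 := (D.mem_Bs h2).2
  rw [e1] at e2
  norm_num at e2

/-- The decomposition of a sum over the set `X`. -/
theorem sum_Xs {R : Type*} [AddCommMonoid R] (F : IrrCharacter G → R) :
    ∑ χ ∈ Xs, F χ = F (oneIrr G) + ∑ χ ∈ As Xs δ, F χ + ∑ χ ∈ Bs Xs δ, F χ := by
  classical
  have h1 : Xs = insert (oneIrr G) (As Xs δ ∪ Bs Xs δ) := by
    ext χ
    simp only [Finset.mem_insert, Finset.mem_union]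
    constructor
    · intro h
      by_cases h2 : χ = oneIrr G
      · exact Or.inl h2
      · right
        rcases D.hδ χ h with h3 | h3
        · left
          simp only [As, Finset.mem_filter]
          exact ⟨h, h2, h3⟩
        · right
          simp only [Bs, Finset.mem_filter]
          exact ⟨h, h3⟩
    · rintro (h | h | h)
      · rw [h]
        exact D.hone
      · exact (D.mem_As h).1
      · exact (D.mem_Bs h).1
  conv_lhs => rw [h1]
  rw [Finset.sum_insert, Finset.sum_union D.disjoint_AB, add_assoc]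
  simp only [Finset.mem_union, not_or]
  exact ⟨D.one_not_mem_As, D.one_not_mem_Bs⟩

theorem card_AB : (As Xs δ).card + (Bs Xs δ).card + 1 = t := by
  have h1 := D.sum_Xs (fun _ => (1 : ℕ))
  simp only [Finset.sum_const, smul_eq_mul, mul_one] at h1
  rw [D.hXc] at h1
  omega

/-- The decomposition of a sum over all irreducible characters. -/
theorem sum_all {R : Type*} [AddCommMonoid R] (F : IrrCharacter G → R) :
    ∑ χ, F χ = ∑ χ ∈ Xs, F χ + ∑ χ ∈ Ys, F χ + ∑ χ ∈ Zs Xs Ys, F χ := by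
  classical
  rw [← Finset.sum_union D.hdisj, Zs, add_comm]
  exact (Finset.sum_sdiff (Finset.subset_univ _)).symm

theorem mem_Zs {χ : IrrCharacter G} (h : χ ∈ Zs Xs Ys) : χ ∉ Xs ∧ χ ∉ Ys := by
  classical
  simpa [Zs] using h

theorem mem_Zs_of {χ : IrrCharacter G} (h1 : χ ∉ Xs) (h2 : χ ∉ Ys) : χ ∈ Zs Xs Ys := by
  classical
  simp [Zs, h1, h2]

/-- The degree of the exceptional characters. -/
theorem exists_X : ∃ X : ℕ, ∃ θ₀ ∈ Ys, ∀ θ ∈ Ys, deg θ = X := by
  obtain ⟨θ₀, hθ₀⟩ : Ys.Nonempty := by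
    rw [← Finset.card_pos, D.hYc]
    exact D.hs1
  refine ⟨deg θ₀, θ₀, hθ₀, fun θ hθ => ?_⟩
  have h1 := D.hYeq θ hθ θ₀ hθ₀ 1 (by simpa using D.hp.one_lt.ne')
  rw [(D.hdeg θ).1, (D.hdeg θ₀).1] at h1
  exact_mod_cast h1

theorem card_P : Nat.card (zpowers z) = p := by rw [Nat.card_zpowers, D.hz]

open Classical in
/-- The dimension of the fixed space of the cyclic subgroup. -/
theorem fx_P (χ : IrrCharacter G) :
    (p : ℂ) * (fx χ (zpowers z) : ℂ) = (deg χ : ℂ) +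
      ∑ u ∈ Finset.univ.filter (fun u : G => u ∈ zpowers z ∧ u ≠ 1), (χ : G → ℂ) u := by
  have h1 := fx_sum χ (zpowers z)
  rw [D.card_P] at h1
  rw [← h1, ← (D.hdeg χ).1]
  have h2 : Finset.univ.filter (fun g : G => g ∈ zpowers z) =
      insert 1 (Finset.univ.filter (fun u : G => u ∈ zpowers z ∧ u ≠ 1)) := by
    ext u
    simp only [Finset.mem_filter, Finset.mem_univ, true_and, Finset.mem_insert]
    constructor
    · intro h
      by_cases hu : u = 1
      · exact Or.inl hu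
      · exact Or.inr ⟨h, hu⟩
    · rintro (h | h)
      · rw [h]
        exact one_mem _
      · exact h.1
  rw [h2, Finset.sum_insert (by simp)]

open Classical in
/-- The dimension of the fixed space for characters of the set `X`. -/
theorem fx_X {χ : IrrCharacter G} (hχ : χ ∈ Xs) :
    (p : ℤ) * (fx χ (zpowers z) : ℤ) = (deg χ : ℤ) + ((p : ℤ) - 1) * δ χ := by
  have h1 := D.fx_P χ
  have h2 : ∀ u ∈ Finset.univ.filter (fun u : G => u ∈ zpowers z ∧ u ≠ 1),
      (χ : G → ℂ) u = (δ χ : ℂ) := by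
    intro u hu
    rw [Finset.mem_filter] at hu
    exact D.hXval χ hχ u hu.2.1 hu.2.2
  rw [Finset.sum_congr rfl h2, Finset.sum_const, nsmul_eq_mul] at h1
  have h3 := card_Pn D.hz D.hp
  have h4 : ((Finset.univ.filter (fun u : G => u ∈ zpowers z ∧ u ≠ 1)).card : ℂ) = (p : ℂ) - 1 := by
    rw [← h3]
    push_cast
    ring
  rw [h4] at h1
  exact_mod_cast h1

theorem fx_one : fx (oneIrr G) (zpowers z) = 1 := by
  have h1 := D.fx_X D.hone
  rw [D.hδone] at h1
  have hd : deg (oneIrr G) = 1 := by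
    have h2 : ((oneIrr G : IrrCharacter G) : G → ℂ) 1 = 1 := rfl
    have h3 := (D.hdeg (oneIrr G)).1
    rw [h2] at h3
    exact_mod_cast h3.symm
  rw [hd] at h1
  have h2 : (p : ℤ) * (fx (oneIrr G) (zpowers z) : ℤ) = p * 1 := by
    push_cast at h1
    linarith
  have hp0 : (p : ℤ) ≠ 0 := by exact_mod_cast D.hp.pos.ne'
  have h3 := mul_left_cancel₀ hp0 h2
  exact_mod_cast h3

theorem fx_As {χ : IrrCharacter G} (hχ : χ ∈ As Xs δ) : fx χ (zpowers z) = n + 1 := by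
  obtain ⟨h1, h2, h3⟩ := D.mem_As hχ
  have h4 := D.fx_X h1
  rw [h3, D.deg_As hχ] at h4
  have h5 : (p : ℤ) * (fx χ (zpowers z) : ℤ) = p * ((n : ℤ) + 1) := by
    push_cast at h4
    linarith
  have hp0 : (p : ℤ) ≠ 0 := by exact_mod_cast D.hp.pos.ne'
  have h6 := mul_left_cancel₀ hp0 h5
  exact_mod_cast h6

theorem fx_Bs {χ : IrrCharacter G} (hχ : χ ∈ Bs Xs δ) : fx χ (zpowers z) = 0 := by
  obtain ⟨h1, h3⟩ := D.mem_Bs hχ
  have h4 := D.fx_X h1
  rw [h3] at h4
  have h7 : (deg χ : ℤ) + 1 = p := by exact_mod_cast D.deg_Bs hχ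
  have h5 : (p : ℤ) * (fx χ (zpowers z) : ℤ) = p * 0 := by
    rw [h4]
    linarith
  have hp0 : (p : ℤ) ≠ 0 := by exact_mod_cast D.hp.pos.ne'
  have h6 := mul_left_cancel₀ hp0 h5
  exact_mod_cast h6

open Classical in
theorem fx_Ys {θ : IrrCharacter G} (hθ : θ ∈ Ys) :
    (p : ℤ) * (fx θ (zpowers z) : ℤ) = (deg θ : ℤ) - ε * t := by
  have h1 := D.fx_P θ
  rw [D.hYsum θ hθ] at h1
  have h2 : ((p : ℤ) * (fx θ (zpowers z) : ℤ) : ℂ) = (((deg θ : ℤ) - ε * t : ℤ) : ℂ) := by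
    push_cast
    push_cast at h1
    rw [h1]
    ring
  exact_mod_cast h2

open Classical in
theorem fx_Zs {χ : IrrCharacter G} (hχ : χ ∈ Zs Xs Ys) : deg χ = p * fx χ (zpowers z) := by
  obtain ⟨h1, h2⟩ := D.mem_Zs hχ
  have h3 := D.fx_P χ
  have h4 : ∑ u ∈ Finset.univ.filter (fun u : G => u ∈ zpowers z ∧ u ≠ 1), (χ : G → ℂ) u = 0 := by
    apply Finset.sum_eq_zero
    intro u hu
    rw [Finset.mem_filter] at hu
    exact D.hrest χ h1 h2 u hu.2.1 hu.2.2
  rw [h4, add_zero] at h3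
  exact_mod_cast h3.symm

/-- **The structure of the block**. -/
theorem struct {X : ℕ} {θ₀ : IrrCharacter G} (hθ₀ : θ₀ ∈ Ys) (hX : ∀ θ ∈ Ys, deg θ = X) :
    ∑ χ ∈ Zs Xs Ys, (fx χ (zpowers z)) ^ 2 = n ∧
    ((ε = 1 ∧ X = t ∧ (As Xs δ).card * n = (Bs Xs δ).card) ∨
      (∃ K : ℕ, 1 ≤ K ∧ ε = -1 ∧ X + t = K * p ∧ n + 1 = s * K ∧ s * X = 1 + n * p ∧
        t = 1 + K * ((As Xs δ).card * s + 1) ∧ (Bs Xs δ).card = K + (As Xs δ).card * n)) := by
  have hp3 := D.hp3
  have hcardAB := D.card_AB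
  obtain ⟨a, ha⟩ : ∃ a, a = (As Xs δ).card := ⟨_, rfl⟩
  obtain ⟨b, hb⟩ : ∃ b, b = (Bs Xs δ).card := ⟨_, rfl⟩
  rw [← ha, ← hb] at hcardAB ⊢
  have hdX : (X : ℂ) = (θ₀ : G → ℂ) 1 := by
    rw [(D.hdeg θ₀).1, hX θ₀ hθ₀]
  have hdone : deg (oneIrr G) = 1 := by
    have h2 : ((oneIrr G : IrrCharacter G) : G → ℂ) 1 = 1 := rfl
    have h3 := (D.hdeg (oneIrr G)).1
    rw [h2] at h3
    exact_mod_cast h3.symm
  -- the relation at the identity
  have hrel1 : ε * (X : ℤ) = (t : ℤ) + p * ((a : ℤ) * n - b) := by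
    have h1 := D.hrel θ₀ hθ₀ 1 (by simpa using D.hp.one_lt.ne')
    rw [← hdX, D.sum_Xs] at h1
    have e1 : ∑ χ ∈ As Xs δ, (δ χ : ℂ) * (χ : G → ℂ) 1 = (a : ℂ) * (1 + n * p) := by
      have e2 : ∀ χ ∈ As Xs δ, (δ χ : ℂ) * (χ : G → ℂ) 1 = 1 + n * p := by
        intro χ hχ
        rw [(D.mem_As hχ).2.2, (D.hdeg χ).1, D.deg_As hχ]
        push_cast
        ring
      rw [Finset.sum_congr rfl e2, Finset.sum_const, nsmul_eq_mul, ← ha]
    have e3 : ∑ χ ∈ Bs Xs δ, (δ χ : ℂ) * (χ : G → ℂ) 1 = (b : ℂ) * (1 - p) := by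
      have e2 : ∀ χ ∈ Bs Xs δ, (δ χ : ℂ) * (χ : G → ℂ) 1 = 1 - p := by
        intro χ hχ
        rw [(D.mem_Bs hχ).2, (D.hdeg χ).1]
        have e4 : ((deg χ : ℕ) : ℂ) + 1 = p := by exact_mod_cast D.deg_Bs hχ
        push_cast
        linear_combination -e4
      rw [Finset.sum_congr rfl e2, Finset.sum_const, nsmul_eq_mul, ← hb]
    rw [e1, e3, D.hδone] at h1
    have e5 : ((oneIrr G : IrrCharacter G) : G → ℂ) 1 = 1 := rfl
    rw [e5] at h1
    have htz : (a : ℂ) + b + 1 = t := by exact_mod_cast hcardAB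
    have h2 : ((ε * (X : ℤ) : ℤ) : ℂ) = (((t : ℤ) + p * ((a : ℤ) * n - b) : ℤ) : ℂ) := by
      push_cast
      rw [h1, ← htz]
      push_cast
      ring
    exact_mod_cast h2
  -- the sum of the squares
  have hsq : 1 + (a : ℤ) * (1 + n * p) ^ 2 + b * ((p : ℤ) - 1) ^ 2 + s * (X : ℤ) ^ 2 +
      (p : ℤ) ^ 2 * ((∑ χ ∈ Zs Xs Ys, (fx χ (zpowers z)) ^ 2 : ℕ) : ℤ) = p * t * (1 + n * p) := by
    have h1 := D.sum_deg_sq
    rw [D.sum_all, D.sum_Xs, D.hcard, hdone] at h1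
    have e1 : ∑ χ ∈ As Xs δ, deg χ ^ 2 = a * (1 + n * p) ^ 2 := by
      rw [Finset.sum_congr rfl (fun χ hχ => by rw [D.deg_As hχ]), Finset.sum_const, smul_eq_mul, ← ha]
    have e2 : ∑ χ ∈ Bs Xs δ, ((deg χ : ℤ)) ^ 2 = (b : ℤ) * ((p : ℤ) - 1) ^ 2 := by
      have e3 : ∀ χ ∈ Bs Xs δ, ((deg χ : ℤ)) ^ 2 = ((p : ℤ) - 1) ^ 2 := by
        intro χ hχ
        have e4 : (deg χ : ℤ) + 1 = p := by exact_mod_cast D.deg_Bs hχ
        rw [← e4]
        ring
      rw [Finset.sum_congr rfl e3, Finset.sum_const, nsmul_eq_mul, ← hb]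
    have e5 : ∑ χ ∈ Ys, deg χ ^ 2 = s * X ^ 2 := by
      rw [Finset.sum_congr rfl (fun χ hχ => by rw [hX χ hχ]), Finset.sum_const, smul_eq_mul, D.hYc]
    have e6 : ∑ χ ∈ Zs Xs Ys, deg χ ^ 2 = p ^ 2 * ∑ χ ∈ Zs Xs Ys, (fx χ (zpowers z)) ^ 2 := by
      rw [Finset.mul_sum]
      refine Finset.sum_congr rfl fun χ hχ => ?_
      rw [D.fx_Zs hχ]
      ring
    rw [e1, e5, e6] at h1
    have h2 : (((1 ^ 2 + a * (1 + n * p) ^ 2 + ∑ χ ∈ Bs Xs δ, deg χ ^ 2 + s * X ^ 2 +
        p ^ 2 * ∑ χ ∈ Zs Xs Ys, fx χ (zpowers z) ^ 2 : ℕ)) : ℤ) =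
        ((p * t * (1 + n * p) : ℕ) : ℤ) := by rw [h1]
    push_cast at h2
    rw [e2] at h2
    push_cast
    linarith
  -- the divisibilities
  have hXne1 : X ≠ 1 := by
    intro h
    have h1 := D.hdeg1 θ₀ (by rw [hX θ₀ hθ₀, h])
    rw [h1] at hθ₀
    exact Finset.disjoint_left.mp D.hdisj D.hone hθ₀
  have hX0 : X ≠ 0 := by
    have := (D.hdeg θ₀).2.1
    rwa [hX θ₀ hθ₀] at this
  have hpt : ¬ (p : ℤ) ∣ (t : ℤ) := by
    intro h
    have h1 : p ∣ t := by exact_mod_cast h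
    have h2 := Nat.le_of_dvd (by have := D.ht2; omega) h1
    have := D.ht_lt
    omega
  have hndvd : ¬ p ∣ deg θ₀ := by
    intro h
    apply hpt
    have h1 := D.hYdeg θ₀ hθ₀
    have h2 : (p : ℤ) ∣ (deg θ₀ : ℤ) := by exact_mod_cast h
    have h3 : (p : ℤ) ∣ ε * (t : ℤ) := (Int.ModEq.dvd_iff h1).1 h2
    rcases D.hε with h4 | h4
    · rw [h4, one_mul] at h3
      exact h3
    · rw [h4, neg_one_mul] at h3
      exact (dvd_neg).1 h3
  have hdvd : X ∣ t * (1 + n * p) := by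
    have := D.deg_dvd θ₀ hndvd
    rwa [hX θ₀ hθ₀] at this
  have hbs : 1 ≤ b → s ∣ n + 1 := by
    intro h1
    rw [hb] at h1
    obtain ⟨β, hβ⟩ : (Bs Xs δ).Nonempty := by
      rw [← Finset.card_pos]
      exact h1
    have hdeg := D.deg_Bs hβ
    have hnd : ¬ p ∣ deg β := by
      intro hc
      have e3 : p ∣ deg β + 1 := by rw [hdeg]
      have := (Nat.dvd_add_right hc).1 e3
      have := Nat.le_of_dvd (by norm_num) this
      omega
    have h2 := D.deg_dvd β hnd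
    have h3 : deg β = p - 1 := by omega
    rw [h3] at h2
    exact Arith.dvd_succ D.hst (by have := D.ht2; omega) h2
  exact Arith.structure_K hp3 D.hp D.hst D.hn2 D.hn1 hcardAB D.hε hrel1 hXne1 hX0 hdvd hsq hbs

end BRD

end Cfsg.Agent.Lib.BR
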