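import Cfsg.Agent.Lib.BR.Setup
import Cfsg.Agent.Lib.SmallSimple.BrauerB

/-!
# The block data for a self-centralizing element of prime order in a perfect group
-/

set_option autoImplicit false
set_option linter.unusedSectionVars false
set_option linter.style.haveILetI false
set_option linter.unusedSimpArgs false
set_option linter.unnecessarySimpa false
set_option linter.unusedVariables false
set_option maxSynthPendingDepth 3

open scoped ComplexConjugate
open Subgroup

namespace Cfsg.Agent.Lib.BR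

open Cfsg (classInner IsCharacter IsIrrCharacter IrrCharacter IsClassFunction indFun
  extendByZero IsGeneralizedCharacter IsPModular principalBlock)
open Cfsg.Agent.Lib.Char
open Cfsg.Agent.Lib.Block hiding tr
open Cfsg.Agent.Lib.SmallSimple.BB

universe u

variable {G : Type u} [Group G] {p : ℕ} {z : G}

open Classical in
/-- The data of the principal block of a self-centralizing element of prime order in a perfect group. -/
structure BRD [Fintype G] (p : ℕ) (z : G) (t s n : ℕ) (Xs Ys : Finset (IrrCharacter G))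
    (δ : IrrCharacter G → ℤ) (ε : ℤ) (deg : IrrCharacter G → ℕ) : Prop where
  hp : p.Prime
  hp3 : 3 ≤ p
  hz : orderOf z = p
  hC : centralizer ({z} : Set G) = zpowers z
  hperf : commutator G = ⊤
  hst : s * t + 1 = p
  ht2 : 2 ≤ t
  hn1 : 1 ≤ n
  hn2 : 2 * n ≤ p + 1
  hcard : Nat.card G = p * t * (1 + n * p)
  hsyl : Nat.card (Sylow p G) = 1 + n * p
  hNcard : Nat.card (normalizer ((zpowers z : Subgroup G) : Set G)) = t * p
  hdeg : ∀ χ : IrrCharacter G, (χ : G → ℂ) 1 = deg χ ∧ deg χ ≠ 0 ∧ deg χ ∣ Nat.card G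
  hdeg1 : ∀ χ : IrrCharacter G, deg χ = 1 → χ = oneIrr G
  hdisj : Disjoint Xs Ys
  hXc : Xs.card = t
  hYc : Ys.card = s
  hone : oneIrr G ∈ Xs
  hδone : δ (oneIrr G) = 1
  hδ : ∀ χ ∈ Xs, δ χ = 1 ∨ δ χ = -1
  hXdeg : ∀ χ ∈ Xs, (deg χ : ℤ) ≡ δ χ [ZMOD p]
  hXval : ∀ χ ∈ Xs, ∀ u : G, u ∈ zpowers z → u ≠ 1 → (χ : G → ℂ) u = (δ χ : ℂ)
  hrest : ∀ χ : IrrCharacter G, χ ∉ Xs → χ ∉ Ys → ∀ u : G, u ∈ zpowers z → u ≠ 1 → (χ : G → ℂ) u = 0
  hε : ε = 1 ∨ ε = -1
  hYdeg : ∀ θ ∈ Ys, (deg θ : ℤ) ≡ ε * (t : ℤ) [ZMOD p]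
  hYeq : ∀ θ ∈ Ys, ∀ θ' ∈ Ys, ∀ g : G, ¬ p ∣ orderOf g → (θ : G → ℂ) g = (θ' : G → ℂ) g
  hrel : ∀ θ ∈ Ys, ∀ g : G, ¬ p ∣ orderOf g →
    (ε : ℂ) * (θ : G → ℂ) g = ∑ χ ∈ Xs, (δ χ : ℂ) * (χ : G → ℂ) g
  hYsum : ∀ θ ∈ Ys, ∑ u ∈ Finset.univ.filter (fun u : G => u ∈ zpowers z ∧ u ≠ 1), (θ : G → ℂ) u =
    -((ε : ℂ) * (t : ℂ))

section

variable [Fintype G]

open Classical in
/-- The number of non-trivial elements of the subgroup. -/
theorem card_Pn (hz : orderOf z = p) (hp : p.Prime) :
    (Finset.univ.filter (fun u : G => u ∈ zpowers z ∧ u ≠ 1)).card + 1 = p := by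
  have h1 : (Finset.univ.filter (fun u : G => u ∈ zpowers z)).card = p := by
    rw [← hz, ← Nat.card_zpowers, Nat.card_eq_fintype_card, Fintype.card_subtype]
  have h2 : Finset.univ.filter (fun u : G => u ∈ zpowers z) =
      insert 1 (Finset.univ.filter (fun u : G => u ∈ zpowers z ∧ u ≠ 1)) := by
    ext u
    simp only [Finset.mem_filter, Finset.mem_univ, true_and, Finset.mem_insert]
    constructor
    · intro h
      by_cases hu : u = 1
      · exact Or.inl hu
      · exact Or.inr ⟨h, hu⟩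
    · rintro (h | h)
      · rw [h]
        exact one_mem _
      · exact h.1
  rw [h2, Finset.card_insert_of_notMem (by simp)] at h1
  exact h1

/-- A generator of the same cyclic group has the same centralizer. -/
theorem centralizer_of_mem (hz : orderOf z = p) (hp : p.Prime) {u : G} (hu : u ∈ zpowers z) (hu1 : u ≠ 1) :
    centralizer ({u} : Set G) = centralizer ({z} : Set G) := by
  have hpz : Nat.card (zpowers z) = p := by rw [Nat.card_zpowers, hz]
  have h1 : zpowers u = zpowers z := by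
    apply Subgroup.eq_of_le_of_card_ge
    · rw [Subgroup.zpowers_le]
      exact hu
    · rw [hpz, Nat.card_zpowers]
      have h3 : orderOf u ∣ Nat.card (zpowers z) := by
        have := orderOf_dvd_natCard (⟨_, hu⟩ : zpowers z)
        rwa [Subgroup.orderOf_mk] at this
      rw [hpz] at h3
      rcases (Nat.dvd_prime hp).1 h3 with h4 | h4
      · exact absurd (orderOf_eq_one_iff.mp h4) hu1
      · exact h4.ge
  rw [← Lib.SmallSimple.BA.centralizer_zpowers', h1, Lib.SmallSimple.BA.centralizer_zpowers']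

open Classical in
/-- Characters outside the principal block vanish on the non-trivial elements. -/
theorem vanish_outside {M : Ideal Cfsg.AlgInt} [hp : Fact p.Prime] (hM : IsPModular p M) (hz : orderOf z = p)
    (hC : centralizer ({z} : Set G) = zpowers z) (hsyl : ¬ p ^ 2 ∣ Nat.card G)
    (χ : IrrCharacter G) (hχ : χ ∉ principalBlock M G) {u : G} (hu : u ∈ zpowers z) (hu1 : u ≠ 1) :
    (χ : G → ℂ) u = 0 := by
  have hpr := hp.out
  have h1 := section_sum_self hM hz hsyl hu hu1
  have h2 := second_orthogonality' u u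
  rw [if_pos (IsConj.refl u), centralizer_of_mem hz hpr hu hu1, hC, Nat.card_zpowers, hz] at h2
  have h3 : ∑ ψ : IrrCharacter G, (if ψ ∈ principalBlock M G then (0 : ℂ) else
      ((Complex.normSq ((ψ : G → ℂ) u) : ℝ) : ℂ)) = 0 := by
    have h4 : ∀ ψ : IrrCharacter G, (if ψ ∈ principalBlock M G then (0 : ℂ) else
        ((Complex.normSq ((ψ : G → ℂ) u) : ℝ) : ℂ)) =
        (ψ : G → ℂ) u * conj ((ψ : G → ℂ) u) -
          (if ψ ∈ principalBlock M G then conj ((ψ : G → ℂ) u) * (ψ : G → ℂ) u else 0) := by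
      intro ψ
      by_cases h : ψ ∈ principalBlock M G
      · rw [if_pos h, if_pos h]
        ring
      · rw [if_neg h, if_neg h, ← Complex.mul_conj]
        ring
    simp only [h4]
    rw [Finset.sum_sub_distrib, h2, h1, sub_self]
  have h5 : ∑ ψ : IrrCharacter G, (if ψ ∈ principalBlock M G then (0 : ℝ) else
      Complex.normSq ((ψ : G → ℂ) u)) = 0 := by
    have h6 : ((∑ ψ : IrrCharacter G, (if ψ ∈ principalBlock M G then (0 : ℝ) else
        Complex.normSq ((ψ : G → ℂ) u)) : ℝ) : ℂ) = 0 := by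
      rw [← h3]
      push_cast
      refine Finset.sum_congr rfl fun ψ _ => ?_
      split_ifs <;> simp
    exact_mod_cast h6
  have h7 := (Finset.sum_eq_zero_iff_of_nonneg (fun ψ _ => by
    split_ifs
    · exact le_rfl
    · exact Complex.normSq_nonneg _)).1 h5 χ (Finset.mem_univ _)
  rw [if_neg hχ] at h7
  exact Complex.normSq_eq_zero.mp h7

open Classical in
/-- **Existence of the block data.** -/
theorem brd_exists [hp : Fact p.Prime] (hperf : commutator G = ⊤) (hz : orderOf z = p)
    (hC : centralizer ({z} : Set G) = zpowers z)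
    (hn : 2 * Nat.card (Sylow p G) < (p + 1) * (p + 2)) :
    ∃ (t s n : ℕ) (Xs Ys : Finset (IrrCharacter G)) (δ : IrrCharacter G → ℤ) (ε : ℤ)
      (deg : IrrCharacter G → ℕ), BRD p z t s n Xs Ys δ ε deg := by
  have hpr := hp.out
  obtain ⟨Q, hQ⟩ := exists_sylow_eq hz hC
  obtain ⟨t, htd, ht1, hN⟩ := exists_t hperf hz hC
  have hsyl := not_sq_dvd hz hC
  obtain ⟨M, hM⟩ := exists_isPModular p hpr
  obtain ⟨X, Y, δ, ε, deg, hdeg, hB, hdisj, hXc, hYt, ht0, hXd, hε, hYdeg, hYeq, hrel, hYsum⟩ :=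
    block_ext hM hz hsyl t hN
  have ht2 : 2 ≤ t := by omega
  have hp2 := hpr.two_le
  have hst : Y.card * t + 1 = p := by omega
  have hY0 : 1 ≤ Y.card := by
    rcases Nat.eq_zero_or_pos Y.card with h | h
    · rw [h] at hst
      omega
    · exact h
  have hp3 : 3 ≤ p := by
    have : 2 * 1 ≤ t * Y.card := Nat.mul_le_mul ht2 hY0
    rw [mul_comm t] at this
    omega
  have hNc : Nat.card (normalizer ((zpowers z : Subgroup G) : Set G)) = t * p := by
    rw [hN, hC, Nat.card_zpowers, hz]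
  have hm1 : Nat.card (Sylow p G) ≡ 1 [MOD p] := card_sylow_modEq_one p G
  have hmne := sylow_ne_one hperf hz hC Q hQ
  have hm0 : 1 ≤ Nat.card (Sylow p G) := Nat.card_pos
  obtain ⟨n, hnm⟩ : ∃ n, Nat.card (Sylow p G) = 1 + n * p := by
    have h1 : p ∣ Nat.card (Sylow p G) - 1 :=
      (Nat.modEq_iff_dvd' hm0).1 hm1.symm
    obtain ⟨n, hn'⟩ := h1
    exact ⟨n, by rw [mul_comm n p, ← hn']; omega⟩
  have hn1 : 1 ≤ n := by
    rcases Nat.eq_zero_or_pos n with h | h
    · subst h
      exact absurd (by simpa using hnm) hmne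
    · exact h
  have hcard : Nat.card G = p * t * (1 + n * p) := by
    have h1 : Nat.card (Sylow p G) = (normalizer ((zpowers z : Subgroup G) : Set G)).index := by
      rw [← hQ]
      exact Sylow.card_eq_index_normalizer Q
    have h2 := (normalizer ((zpowers z : Subgroup G) : Set G)).card_mul_index
    rw [hNc, ← h1, hnm] at h2
    rw [← h2]
    ring
  have hn2 : 2 * n ≤ p + 1 := by
    rw [hnm] at hn
    have hodd : p % 2 = 1 := by
      rcases hpr.eq_two_or_odd with h | h
      · omega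
      · exact h
    have h3 : (2 * n) * p < (p + 3) * p := by nlinarith
    have h4 := Nat.lt_of_mul_lt_mul_right h3
    omega
  have hdeg1 : ∀ χ : IrrCharacter G, deg χ = 1 → χ = oneIrr G := by
    intro χ hd
    have h1 : (χ : G → ℂ) 1 = 1 := by
      rw [(hdeg χ).1, hd]
      simp
    apply Subtype.ext
    funext g
    exact Cfsg.Agent.Lib.Degree.irr_linear_commutator χ h1 (by rw [hperf]; trivial)
  have hrest : ∀ χ : IrrCharacter G, χ ∉ X → χ ∉ Y → ∀ u : G, u ∈ zpowers z → u ≠ 1 →
      (χ : G → ℂ) u = 0 := by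
    intro χ h1 h2 u hu hu1
    refine vanish_outside hM hz hC hsyl χ ?_ hu hu1
    rw [hB]
    rintro (h | h)
    · exact h1 h
    · exact h2 h
  haveI hMp : M.IsPrime := hM.2.1.isPrime
  have hone : oneIrr G ∈ X ∨ oneIrr G ∈ Y := (hB _).1 (mem_blockOf_self (oneIrr G))
  have hdeg_one : deg (oneIrr G) = 1 := by
    have h1 : ((oneIrr G : IrrCharacter G) : G → ℂ) 1 = 1 := rfl
    have h2 := (hdeg (oneIrr G)).1
    rw [h1] at h2
    exact_mod_cast h2.symm
  have hcontra : ¬ ((p : ℤ) ∣ 2) := by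
    intro h
    have h1 : p ∣ 2 := by exact_mod_cast h
    have := Nat.le_of_dvd (by norm_num) h1
    omega
  by_cases hX1 : oneIrr G ∈ X
  · refine ⟨t, Y.card, n, X, Y, δ, ε, deg, hpr, hp3, hz, hC, hperf, hst, ht2, hn1, hn2, hcard, hnm, hNc, hdeg,
      hdeg1, hdisj, hXc, rfl, hX1, ?_, fun χ hχ => (hXd χ hχ).1, fun χ hχ => (hXd χ hχ).2.1,
      fun χ hχ => (hXd χ hχ).2.2, hrest, hε, hYdeg, hYeq, hrel, hYsum⟩
    obtain ⟨h1, h2, -⟩ := hXd _ hX1
    rw [hdeg_one] at h2
    rcases h1 with h1 | h1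
    · exact h1
    · exfalso
      rw [h1] at h2
      apply hcontra
      have h3 := (Int.modEq_iff_dvd.mp h2.symm)
      have e : ((1 : ℕ) : ℤ) - -1 = 2 := by norm_num
      rwa [e] at h3
  · -- the swap
    have hY1 : oneIrr G ∈ Y := hone.resolve_left hX1
    have hYall : ∀ θ ∈ Y, θ = oneIrr G := by
      intro θ hθ
      apply hdeg1
      have h1 := hYeq θ hθ _ hY1 1 (by simpa using hpr.one_lt.ne')
      have h2 : ((oneIrr G : IrrCharacter G) : G → ℂ) 1 = 1 := rfl
      rw [h2, (hdeg θ).1] at h1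
      exact_mod_cast h1
    have hYs : Y = {oneIrr G} := by
      ext θ
      simp only [Finset.mem_singleton]
      exact ⟨hYall θ, fun h => h ▸ hY1⟩
    have hs1 : Y.card = 1 := by rw [hYs, Finset.card_singleton]
    have htp : t + 1 = p := by rw [hs1, one_mul] at hst; exact hst
    have hε1 : ε = -1 := by
      have h1 := hYdeg _ hY1
      rw [hdeg_one] at h1
      rcases hε with h | h
      · exfalso
        rw [h] at h1
        apply hcontra
        have h3 := Int.modEq_iff_dvd.mp h1
        have htz : (t : ℤ) + 1 = p := by exact_mod_cast htp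
        have e1 : (p : ℤ) ∣ p - (1 * (t : ℤ) - ((1 : ℕ) : ℤ)) := dvd_sub (dvd_refl _) h3
        have e2 : (p : ℤ) - (1 * (t : ℤ) - ((1 : ℕ) : ℤ)) = 2 := by
          rw [← htz]
          push_cast
          ring
        rwa [e2] at e1
      · exact h
    obtain ⟨χ₀, hχ₀⟩ : X.Nonempty := by
      rw [← Finset.card_pos, hXc]
      omega
    have hχ₀1 : χ₀ ≠ oneIrr G := fun h => hX1 (h ▸ hχ₀)
    have hupd : ∀ χ ∈ X, Function.update δ (oneIrr G) 1 χ = δ χ := by
      intro χ hχ
      apply Function.update_of_ne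
      intro h
      exact hX1 (h ▸ hχ)
    have hmemX : ∀ χ, χ ∈ insert (oneIrr G) (X.erase χ₀) → χ = oneIrr G ∨ χ ∈ X := by
      intro χ hχ
      rcases Finset.mem_insert.mp hχ with h | h
      · exact Or.inl h
      · exact Or.inr (Finset.mem_of_mem_erase h)
    have hone_val : ∀ g : G, ((oneIrr G : IrrCharacter G) : G → ℂ) g = 1 := fun g => rfl
    have hδ₀ := (hXd χ₀ hχ₀).1
    have hrel₀ : ∀ g : G, ¬ p ∣ orderOf g →
        ∑ χ ∈ X, (δ χ : ℂ) * (χ : G → ℂ) g = -1 := by
      intro g hg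
      rw [← hrel _ hY1 g hg, hone_val, hε1]
      push_cast
      ring
    refine ⟨t, 1, n, insert (oneIrr G) (X.erase χ₀), {χ₀}, Function.update δ (oneIrr G) 1, -δ χ₀, deg,
      hpr, hp3, hz, hC, hperf, by omega, ht2, hn1, hn2, hcard, hnm, hNc, hdeg, hdeg1, ?_, ?_,
      Finset.card_singleton _, Finset.mem_insert_self _ _, Function.update_self _ _ _, ?_, ?_, ?_, ?_, ?_, ?_,
      ?_, ?_, ?_⟩
    · rw [Finset.disjoint_singleton_right]
      intro h
      rcases Finset.mem_insert.mp h with h | h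
      · exact hχ₀1 h
      · exact (Finset.mem_erase.mp h).1 rfl
    · rw [Finset.card_insert_of_notMem (fun h => hX1 (Finset.mem_of_mem_erase h)),
        Finset.card_erase_of_mem hχ₀, hXc]
      omega
    · intro χ hχ
      rcases hmemX χ hχ with h | h
      · rw [h, Function.update_self]
        exact Or.inl rfl
      · rw [hupd χ h]
        exact (hXd χ h).1
    · intro χ hχ
      rcases hmemX χ hχ with h | h
      · rw [h, Function.update_self, hdeg_one]
        exact Int.ModEq.refl _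
      · rw [hupd χ h]
        exact (hXd χ h).2.1
    · intro χ hχ u hu hu1
      rcases hmemX χ hχ with h | h
      · rw [h, Function.update_self, hone_val]
        simp
      · rw [hupd χ h]
        exact (hXd χ h).2.2 u hu hu1
    · intro χ h1 h2 u hu hu1
      have hne1 : χ ≠ oneIrr G := fun h => h1 (h ▸ Finset.mem_insert_self _ _)
      have hne2 : χ ≠ χ₀ := fun h => h2 (h ▸ Finset.mem_singleton_self _)
      refine hrest χ ?_ ?_ u hu hu1
      · intro h
        exact h1 (Finset.mem_insert_of_mem (Finset.mem_erase.mpr ⟨hne2, h⟩))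
      · intro h
        exact hne1 (hYall χ h)
    · rcases hδ₀ with h | h
      · right
        rw [h]
      · left
        rw [h]
        norm_num
    · intro θ hθ
      rw [Finset.mem_singleton] at hθ
      subst hθ
      have h1 := (hXd θ hχ₀).2.1
      have htz : (t : ℤ) + 1 = p := by exact_mod_cast htp
      refine h1.trans ?_
      rw [Int.modEq_iff_dvd]
      refine ⟨-δ θ, ?_⟩
      linear_combination (-δ θ) * htz
    · intro θ hθ θ' hθ' g _
      rw [Finset.mem_singleton] at hθ hθ'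
      rw [hθ, hθ']
    · intro θ hθ g hg
      rw [Finset.mem_singleton] at hθ
      subst hθ
      rw [Finset.sum_insert (fun h => hX1 (Finset.mem_of_mem_erase h)), Function.update_self, hone_val]
      have h1 := hrel₀ g hg
      rw [← Finset.add_sum_erase X _ hχ₀] at h1
      have h2 : ∑ χ ∈ X.erase θ, (Function.update δ (oneIrr G) 1 χ : ℂ) * (χ : G → ℂ) g =
          ∑ χ ∈ X.erase θ, (δ χ : ℂ) * (χ : G → ℂ) g := by
        refine Finset.sum_congr rfl fun χ hχ => ?_
        rw [hupd χ (Finset.mem_of_mem_erase hχ)]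
      rw [h2]
      push_cast
      linear_combination -h1
    · intro θ hθ
      rw [Finset.mem_singleton] at hθ
      subst hθ
      have h1 : ∀ u ∈ Finset.univ.filter (fun u : G => u ∈ zpowers z ∧ u ≠ 1),
          (θ : G → ℂ) u = (δ θ : ℂ) := by
        intro u hu
        rw [Finset.mem_filter] at hu
        exact (hXd θ hχ₀).2.2 u hu.2.1 hu.2.2
      rw [Finset.sum_congr rfl h1, Finset.sum_const, nsmul_eq_mul]
      have h2 := card_Pn hz hpr
      have h3 : (Finset.univ.filter (fun u : G => u ∈ zpowers z ∧ u ≠ 1)).card = t := by omega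
      rw [h3]
      push_cast
      ring

end

end Cfsg.Agent.Lib.BR
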