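import Cfsg.Agent.Lib.BR.Invol
import Cfsg.Agent.Lib.CharExtra.FS

/-!
# The case of an involution in the normalizer
-/

set_option autoImplicit false
set_option linter.unusedSectionVars false
set_option linter.style.haveILetI false
set_option linter.unusedSimpArgs false
set_option linter.unnecessarySimpa false
set_option linter.unusedVariables false
set_option maxSynthPendingDepth 3

open scoped ComplexConjugate
open Subgroup

namespace Cfsg.Agent.Lib.BR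

open Cfsg (classInner IsCharacter IsIrrCharacter IrrCharacter IsClassFunction indFun
  extendByZero IsGeneralizedCharacter IsPModular principalBlock)
open Cfsg.Agent.Lib.Char
open Cfsg.Agent.Lib.Block hiding tr

universe u

variable {G : Type u} [Group G] [Fintype G] {p : ℕ} {z : G}
  {t s n : ℕ} {Xs Ys : Finset (IrrCharacter G)} {δ : IrrCharacter G → ℤ} {ε : ℤ}
  {deg : IrrCharacter G → ℕ}

/-- An arithmetic fact for the count of involutions. -/
theorem fs_arith {a s t p X m n b : ℤ} (ha : 1 ≤ a) (hs : 3 ≤ s) (ht : t = a * s + 2) (hp : p = s * t + 1)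
    (hX : X = p - t) (hm : m = s * X) (hn : n = s - 1) (hb : b = 1 + a * n)
    (h : 1 + p * X ≤ 1 + a * m + b * (p - 1) + s * X + p * n) : False := by
  obtain ⟨A, hA⟩ : ∃ A : ℤ, a = A + 1 := ⟨a - 1, by ring⟩
  obtain ⟨S, hS⟩ : ∃ S : ℤ, s = S + 3 := ⟨s - 3, by ring⟩
  have hA0 : 0 ≤ A := by omega
  have hS0 : 0 ≤ S := by omega
  subst hA hS hb hn hm hX hp ht
  have key : 1 + (((S + 3) * ((A + 1) * (S + 3) + 2) + 1) * ((S + 3) * ((A + 1) * (S + 3) + 2) + 1 - ((A + 1) * (S + 3) + 2))) -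
      (1 + (A + 1) * ((S + 3) * ((S + 3) * ((A + 1) * (S + 3) + 2) + 1 - ((A + 1) * (S + 3) + 2))) +
        (1 + (A + 1) * (S + 3 - 1)) * ((S + 3) * ((A + 1) * (S + 3) + 2) + 1 - 1) +
        (S + 3) * ((S + 3) * ((A + 1) * (S + 3) + 2) + 1 - ((A + 1) * (S + 3) + 2)) +
        ((S + 3) * ((A + 1) * (S + 3) + 2) + 1) * (S + 3 - 1)) =
      33 + 65 * S + 42 * S ^ 2 + 11 * S ^ 3 + S ^ 4 + 51 * A + 104 * (A * S) + 71 * (A * S ^ 2) +
        20 * (A * S ^ 3) + 2 * (A * S ^ 4) + 18 * A ^ 2 + 39 * (A ^ 2 * S) + 29 * (A ^ 2 * S ^ 2) +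
        9 * (A ^ 2 * S ^ 3) + A ^ 2 * S ^ 4 := by ring
  have hpos : 0 < 33 + 65 * S + 42 * S ^ 2 + 11 * S ^ 3 + S ^ 4 + 51 * A + 104 * (A * S) + 71 * (A * S ^ 2) +
        20 * (A * S ^ 3) + 2 * (A * S ^ 4) + 18 * A ^ 2 + 39 * (A ^ 2 * S) + 29 * (A ^ 2 * S ^ 2) +
        9 * (A ^ 2 * S ^ 3) + A ^ 2 * S ^ 4 := by positivity
  linarith

open Classical in
/-- The number of square roots of the identity is at most the sum of the degrees. -/
theorem card_sq_one_le (deg : IrrCharacter G → ℕ) (hdeg : ∀ χ : IrrCharacter G, (χ : G → ℂ) 1 = deg χ) :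
    (Finset.univ.filter (fun g : G => g * g = 1)).card ≤ ∑ χ : IrrCharacter G, deg χ := by
  have h1 := Cfsg.Agent.Lib.CharExtra.sum_fsInd_mul (G := G) (1 : G)
  have h2 : ∀ χ : IrrCharacter G, (Cfsg.Agent.Lib.CharExtra.fsInd (χ : G → ℂ) * (χ : G → ℂ) 1).re ≤ (deg χ : ℝ) := by
    intro χ
    have e0 : (Cfsg.Agent.Lib.CharExtra.fsInd (χ : G → ℂ) * (deg χ : ℂ)).re =
        (Cfsg.Agent.Lib.CharExtra.fsInd (χ : G → ℂ)).re * (deg χ : ℝ) := by
      simp [Complex.mul_re]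
    rw [hdeg χ, e0]
    have hd : (0 : ℝ) ≤ deg χ := by positivity
    have h3 : (Cfsg.Agent.Lib.CharExtra.fsInd (χ : G → ℂ)).re ≤ 1 := by
      by_cases h : ∀ g : G, ((χ : G → ℂ) g).im = 0
      · rcases Cfsg.Agent.Lib.CharExtra.fsInd_of_real χ h with h4 | h4 <;> rw [h4] <;> norm_num
      · rw [Cfsg.Agent.Lib.CharExtra.fsInd_of_not_real χ h]
        norm_num
    nlinarith
  have h3 := congrArg Complex.re h1
  rw [Complex.re_sum, Complex.natCast_re] at h3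
  have h4 : ((Finset.univ.filter (fun g : G => g * g = 1)).card : ℝ) ≤ ((∑ χ : IrrCharacter G, deg χ : ℕ) : ℝ) := by
    rw [← h3]
    push_cast
    exact Finset.sum_le_sum fun χ _ => h2 χ
  exact_mod_cast h4

namespace BRD

variable (D : BRD p z t s n Xs Ys δ ε deg)
include D

open Classical in
/-- The values of the characters at an involution of the normalizer. -/
theorem even_data {θ₀ : IrrCharacter G} (hθ₀ : θ₀ ∈ Ys)
    (hZ : ∑ χ ∈ Zs Xs Ys, (fx χ (zpowers z)) ^ 2 = n) {y : G} (hyN : y ∈ Nz z) (hy2 : y * y = 1)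
    (hy1 : y ≠ 1) :
    ∃ (v : IrrCharacter G → ℤ) (v₀ : ℤ), (∀ χ : IrrCharacter G, (χ : G → ℂ) y = (v χ : ℂ)) ∧
      (∀ χ ∈ As Xs δ, (v χ) ^ 2 ≤ ((n : ℤ) + 1) ^ 2) ∧ (∀ χ ∈ Bs Xs δ, v χ = 0) ∧
      (∀ θ ∈ Ys, v θ = v₀) ∧ v₀ ^ 2 ≤ (fx θ₀ (zpowers z) : ℤ) ^ 2 ∧
      (∑ χ ∈ As Xs δ, (v χ) ^ 2 + (s : ℤ) * v₀ ^ 2 = ((t : ℤ) - 1) * ((n : ℤ) + 1)) ∧
      ε * v₀ = 1 + ∑ χ ∈ As Xs δ, v χ ∧
      Nat.card (centralizer ({y} : Set G)) = t * (n + 1) := by
  have hy := D.inverts hyN hy2 hy1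
  obtain ⟨v, hvdef⟩ : ∃ v : IrrCharacter G → ℤ, ∀ χ, v χ = 2 * (fx χ (Hz z) : ℤ) - (fx χ (zpowers z) : ℤ) :=
    ⟨_, fun _ => rfl⟩
  have hv : ∀ χ : IrrCharacter G, (χ : G → ℂ) y = (v χ : ℂ) := fun χ => by
    rw [hvdef, D.val_inv hy hy2 χ]
  have hle1 : ∀ χ : IrrCharacter G, (fx χ (Hz z) : ℤ) ≤ fx χ (zpowers z) := fun χ => by
    exact_mod_cast fx_anti χ D.P_le_Hz
  have hle2 : ∀ χ : IrrCharacter G, (fx χ (Nz z) : ℤ) ≤ fx χ (Hz z) := fun χ => by
    exact_mod_cast fx_anti χ D.Hz_le_N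
  have hsq : ∀ χ : IrrCharacter G, (v χ) ^ 2 ≤ (fx χ (zpowers z) : ℤ) ^ 2 := by
    intro χ
    apply sq_le_sq'
    · rw [hvdef]
      have : (0 : ℤ) ≤ fx χ (Hz z) := by positivity
      linarith
    · rw [hvdef]
      linarith [hle1 χ]
  have hvone : v (oneIrr G) = 1 := by
    rw [hvdef, fx_oneIrr, fx_oneIrr]
    norm_num
  have hvB : ∀ χ ∈ Bs Xs δ, v χ = 0 := by
    intro χ hχ
    have h1 := hle1 χ
    rw [D.fx_Bs hχ] at h1
    push_cast at h1
    have h2 : (0 : ℤ) ≤ fx χ (Hz z) := by positivity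
    rw [hvdef, D.fx_Bs hχ]
    push_cast
    linarith
  have hvZ : ∀ χ ∈ Zs Xs Ys, v χ = fx χ (zpowers z) := by
    intro χ hχ
    have h1 := hle1 χ
    have h2 := hle2 χ
    rw [D.fN_Zs hZ hχ] at h2
    rw [hvdef]
    linarith
  have hpreg : ¬ p ∣ orderOf y := by
    have h2 : orderOf y = 2 := by
      apply orderOf_eq_prime
      · rw [sq]
        exact hy2
      · exact hy1
    rw [h2]
    intro h
    have := Nat.le_of_dvd (by norm_num) h
    have := D.hp3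
    omega
  have hvY : ∀ θ ∈ Ys, v θ = v θ₀ := by
    intro θ hθ
    have h1 := D.hYeq θ hθ θ₀ hθ₀ y hpreg
    rw [hv, hv] at h1
    exact_mod_cast h1
  have hcard : Nat.card (centralizer ({y} : Set G)) = t * (n + 1) := by
    have h1 := D.pi_y hyN hy2 hy1
    rw [D.ind_eq hZ y] at h1
    have h2 : ∑ χ ∈ Zs Xs Ys, (fx χ (zpowers z) : ℂ) * (χ : G → ℂ) y = (n : ℂ) := by
      rw [← hZ]
      push_cast
      refine Finset.sum_congr rfl fun χ hχ => ?_
      rw [hv, hvZ χ hχ]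
      push_cast
      ring
    rw [h2] at h1
    have h3 : ((t * (n + 1) : ℕ) : ℂ) = (Nat.card (centralizer ({y} : Set G)) : ℂ) := by
      rw [← h1]
      push_cast
      ring
    exact_mod_cast h3.symm
  refine ⟨v, v θ₀, hv, ?_, hvB, hvY, hsq θ₀, ?_, ?_, hcard⟩
  · intro χ hχ
    have := hsq χ
    rw [D.fx_As hχ] at this
    push_cast at this
    exact this
  · -- column orthogonality
    have h1 := second_orthogonality' y y
    rw [if_pos (IsConj.refl y), hcard] at h1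
    have h2 : ∀ χ : IrrCharacter G, (χ : G → ℂ) y * conj ((χ : G → ℂ) y) = (((v χ) ^ 2 : ℤ) : ℂ) := by
      intro χ
      rw [hv]
      simp only [map_intCast]
      push_cast
      ring
    simp only [h2] at h1
    have h3 : ∑ χ : IrrCharacter G, (v χ) ^ 2 = (t : ℤ) * ((n : ℤ) + 1) := by
      have h4 : ((∑ χ : IrrCharacter G, (v χ) ^ 2 : ℤ) : ℂ) = (((t : ℤ) * ((n : ℤ) + 1) : ℤ) : ℂ) := by
        rw [Int.cast_sum, h1]
        push_cast
        ring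
      exact_mod_cast h4
    rw [D.sum_all, D.sum_Xs, hvone] at h3
    have e1 : ∑ χ ∈ Bs Xs δ, (v χ) ^ 2 = 0 :=
      Finset.sum_eq_zero fun χ hχ => by rw [hvB χ hχ]; norm_num
    have e2 : ∑ χ ∈ Ys, (v χ) ^ 2 = (s : ℤ) * (v θ₀) ^ 2 := by
      rw [Finset.sum_congr rfl (fun χ hχ => by rw [hvY χ hχ]), Finset.sum_const, nsmul_eq_mul, D.hYc]
    have e3 : ∑ χ ∈ Zs Xs Ys, (v χ) ^ 2 = (n : ℤ) := by
      rw [← hZ]
      push_cast
      exact Finset.sum_congr rfl fun χ hχ => by rw [hvZ χ hχ]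
    rw [e1, e2, e3] at h3
    linarith
  · -- the relation
    have h1 := D.hrel θ₀ hθ₀ y hpreg
    rw [D.sum_Xs, hv θ₀, D.hδone, hv (oneIrr G), hvone] at h1
    have e1 : ∑ χ ∈ As Xs δ, (δ χ : ℂ) * (χ : G → ℂ) y = ((∑ χ ∈ As Xs δ, v χ : ℤ) : ℂ) := by
      rw [Int.cast_sum]
      refine Finset.sum_congr rfl fun χ hχ => ?_
      rw [hv, (D.mem_As hχ).2.2]
      push_cast
      ring
    have e2 : ∑ χ ∈ Bs Xs δ, (δ χ : ℂ) * (χ : G → ℂ) y = 0 :=
      Finset.sum_eq_zero fun χ hχ => by rw [hv, hvB χ hχ]; simp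
    rw [e1, e2] at h1
    have h3 : ((ε * v θ₀ : ℤ) : ℂ) = ((1 + ∑ χ ∈ As Xs δ, v χ : ℤ) : ℂ) := by
      push_cast
      push_cast at h1
      rw [h1]
      ring
    exact_mod_cast h3

/-- A square equal to the square of a natural number gives a divisibility. -/
theorem dvd_of_sq_eq {a b : ℤ} (h : a ^ 2 = b ^ 2) : b ∣ a := by
  rcases sq_eq_sq_iff_eq_or_eq_neg.mp h with h1 | h1
  · rw [h1]
  · rw [h1]
    exact (dvd_neg).2 (dvd_refl b)

open Classical in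
/-- **The analysis at an involution of the normalizer.** -/
theorem even_K {X : ℕ} {θ₀ : IrrCharacter G} (hθ₀ : θ₀ ∈ Ys) (hX : ∀ θ ∈ Ys, deg θ = X)
    {y : G} (hyN : y ∈ Nz z) (hy2 : y * y = 1) (hy1 : y ≠ 1) :
    ε = -1 ∧ X + t = p ∧ n + 1 = s ∧ s * X = 1 + n * p ∧ t = 1 + ((As Xs δ).card * s + 1) ∧
      (Bs Xs δ).card = 1 + (As Xs δ).card * n ∧ Nat.card (centralizer ({y} : Set G)) = t * (n + 1) := by
  obtain ⟨hZ, hK⟩ := D.struct hθ₀ hX
  obtain ⟨v, v₀, hv, hvA, hvB, hvY, hv0, hsum, hrel, hC⟩ := D.even_data hθ₀ hZ hyN hy2 hy1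
  have hcardAB := D.card_AB
  obtain ⟨a, ha⟩ : ∃ a, a = (As Xs δ).card := ⟨_, rfl⟩
  obtain ⟨b, hb⟩ : ∃ b, b = (Bs Xs δ).card := ⟨_, rfl⟩
  rw [← ha, ← hb] at hcardAB hK ⊢
  have htz : (a : ℤ) + b + 1 = t := by exact_mod_cast hcardAB
  have hpz0 : (p : ℤ) ≠ 0 := by exact_mod_cast D.hp.pos.ne'
  have hfY := D.fx_Ys hθ₀
  rw [hX θ₀ hθ₀] at hfY
  have hsumle : ∑ χ ∈ As Xs δ, (v χ) ^ 2 ≤ (a : ℤ) * ((n : ℤ) + 1) ^ 2 := by
    have := Finset.sum_le_card_nsmul _ _ _ hvA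
    rwa [← ha, nsmul_eq_mul] at this
  have hAeq : ∑ χ ∈ As Xs δ, (v χ) ^ 2 = (a : ℤ) * ((n : ℤ) + 1) ^ 2 →
      ((n : ℤ) + 1) ∣ ∑ χ ∈ As Xs δ, v χ := by
    intro h
    have h1 : ∑ χ ∈ As Xs δ, (v χ) ^ 2 = ∑ χ ∈ As Xs δ, ((n : ℤ) + 1) ^ 2 := by
      rw [h, Finset.sum_const, nsmul_eq_mul, ← ha]
    have h2 := (Finset.sum_eq_sum_iff_of_le hvA).1 h1
    exact Finset.dvd_sum fun χ hχ => D.dvd_of_sq_eq (h2 χ hχ)
  have hs0 : (1 : ℤ) ≤ s := by exact_mod_cast D.hs1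
  have hn1 : (1 : ℤ) ≤ n := by exact_mod_cast D.hn1
  rcases hK with ⟨hε, hXt, hab⟩ | ⟨K, hK1, hε, hXt, hnK, hsX, htK, hbK⟩
  · exfalso
    have hfz : (fx θ₀ (zpowers z) : ℤ) = 0 := by
      apply mul_left_cancel₀ hpz0
      rw [hfY, hε, hXt]
      ring
    rw [hfz] at hv0
    have hv00 : v₀ = 0 := by
      have : v₀ ^ 2 ≤ 0 := by simpa using hv0
      have h2 : v₀ ^ 2 = 0 := le_antisymm this (sq_nonneg _)
      exact pow_eq_zero_iff (by norm_num) |>.1 h2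
    rw [hv00] at hsum hrel
    have habz : (a : ℤ) * n = b := by exact_mod_cast hab
    have e1 : ∑ χ ∈ As Xs δ, (v χ) ^ 2 = (a : ℤ) * ((n : ℤ) + 1) ^ 2 := by
      have e2 : ((t : ℤ) - 1) = a * (n + 1) := by linarith
      rw [e2] at hsum
      linear_combination hsum
    have h1 := hAeq e1
    have h2 : ∑ χ ∈ As Xs δ, v χ = -1 := by linarith
    rw [h2] at h1
    have h3 : ((n : ℤ) + 1) ∣ 1 := (dvd_neg).1 h1
    have h4 := Int.le_of_dvd (by norm_num) h3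
    linarith
  · have hfz : (fx θ₀ (zpowers z) : ℤ) = K := by
      apply mul_left_cancel₀ hpz0
      have e : (X : ℤ) + t = K * p := by exact_mod_cast hXt
      rw [hfY, hε]
      linear_combination e
    rw [hfz] at hv0
    have hnKz : (n : ℤ) + 1 = s * K := by exact_mod_cast hnK
    have htKz : (t : ℤ) = 1 + K * (a * s + 1) := by exact_mod_cast htK
    have e0 : ((t : ℤ) - 1) * ((n : ℤ) + 1) = (a : ℤ) * ((n : ℤ) + 1) ^ 2 + (s : ℤ) * (K : ℤ) ^ 2 := by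
      rw [htKz, hnKz]
      ring
    have hv1 : (s : ℤ) * v₀ ^ 2 ≤ (s : ℤ) * (K : ℤ) ^ 2 :=
      mul_le_mul_of_nonneg_left hv0 (by linarith)
    have e1 : ∑ χ ∈ As Xs δ, (v χ) ^ 2 = (a : ℤ) * ((n : ℤ) + 1) ^ 2 := by
      rw [e0] at hsum
      linarith
    have e2 : v₀ ^ 2 = (K : ℤ) ^ 2 := by
      have e3 : (s : ℤ) * v₀ ^ 2 = (s : ℤ) * (K : ℤ) ^ 2 := by
        rw [e0, e1] at hsum
        linarith
      exact mul_left_cancel₀ (by omega : (s : ℤ) ≠ 0) e3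
    have e4 := hAeq e1
    have e5 : (K : ℤ) ∣ v₀ := D.dvd_of_sq_eq e2
    have e6 : (K : ℤ) ∣ (n : ℤ) + 1 := ⟨s, by rw [hnKz]; ring⟩
    have e7 : (K : ℤ) ∣ 1 := by
      have e8 : (1 : ℤ) = -v₀ - ∑ χ ∈ As Xs δ, v χ := by
        rw [hε] at hrel
        linarith
      rw [e8]
      exact dvd_sub ((dvd_neg).2 e5) (e6.trans e4)
    have hK1' : K = 1 := by
      have e8 := Int.le_of_dvd (by norm_num) e7
      have e9 : K ≤ 1 := by exact_mod_cast e8
      omega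
    subst hK1'
    refine ⟨hε, by simpa using hXt, by simpa using hnK, hsX, by simpa using htK, hbK, hC⟩

open Classical in
/-- **The final form at an involution of the normalizer.** -/
theorem even_final {X : ℕ} {θ₀ : IrrCharacter G} (hθ₀ : θ₀ ∈ Ys) (hX : ∀ θ ∈ Ys, deg θ = X)
    {y : G} (hyN : y ∈ Nz z) (hy2 : y * y = 1) (hy1 : y ≠ 1) :
    (n = 1 ∧ s = 2) ∨ (3 ≤ s ∧ n + 1 = s ∧ t = 2 ∧ X + 2 = p ∧ ε = -1 ∧ (As Xs δ).card = 0 ∧
      (Bs Xs δ).card = 1) := by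
  obtain ⟨hε, hXt, hns, hsX, hta, hb, hC⟩ := D.even_K hθ₀ hX hyN hy2 hy1
  obtain ⟨hZ, -⟩ := D.struct hθ₀ hX
  have hn1 := D.hn1
  by_cases hs2 : s = 2
  · left
    exact ⟨by omega, hs2⟩
  right
  have hs3 : 3 ≤ s := by omega
  obtain ⟨a, ha⟩ : ∃ a, a = (As Xs δ).card := ⟨_, rfl⟩
  obtain ⟨b, hb'⟩ : ∃ b, b = (Bs Xs δ).card := ⟨_, rfl⟩
  rw [← ha] at hta hb ⊢
  rw [← hb'] at hb ⊢
  have ha0 : a = 0 := by
    by_contra ha0
    -- the count of involutions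
    have h1 : 1 + p * X ≤ (Finset.univ.filter (fun g : G => g * g = 1)).card := by
      have hidx : (centralizer ({y} : Set G)).index = p * X := by
        have e1 := index_mul_card_centralizer y
        rw [hC, D.hcard, ← hsX, hns] at e1
        have ht0 : 0 < t * s := by
          have := D.ht2
          positivity
        apply Nat.eq_of_mul_eq_mul_right ht0
        rw [e1]
        ring
      have e2 := card_filter_isConj y
      rw [hidx] at e2
      rw [← e2, add_comm, ← Finset.card_insert_of_notMem (a := (1 : G))]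
      · apply Finset.card_le_card
        intro g hg
        rcases Finset.mem_insert.mp hg with h | h
        · rw [h]
          simp
        · simp only [Finset.mem_filter, Finset.mem_univ, true_and] at h ⊢
          obtain ⟨c, rfl⟩ := isConj_iff.mp h
          have e3 : (c * y * c⁻¹) * (c * y * c⁻¹) = c * (y * y) * c⁻¹ := by group
          rw [e3, hy2]
          group
      · simp only [Finset.mem_filter, Finset.mem_univ, true_and]
        intro h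
        exact hy1 (isConj_one_right.mp h.symm) 
    have h2 := card_sq_one_le deg (fun χ => (D.hdeg χ).1)
    rw [D.sum_all, D.sum_Xs, D.deg_one'] at h2
    have e1 : ∑ χ ∈ As Xs δ, deg χ = a * (1 + n * p) := by
      rw [Finset.sum_congr rfl (fun χ hχ => D.deg_As hχ), Finset.sum_const, smul_eq_mul, ← ha]
    have e2 : ∑ χ ∈ Ys, deg χ = s * X := by
      rw [Finset.sum_congr rfl (fun χ hχ => hX χ hχ), Finset.sum_const, smul_eq_mul, D.hYc]
    have e3 : ∑ χ ∈ Zs Xs Ys, deg χ ≤ p * n := by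
      rw [Finset.sum_congr rfl (fun χ hχ => D.fx_Zs hχ), ← Finset.mul_sum]
      apply Nat.mul_le_mul_left
      rw [← hZ]
      exact Finset.sum_le_sum fun χ _ => Nat.le_self_pow (by norm_num) _
    have e4 : ((∑ χ ∈ Bs Xs δ, deg χ : ℕ) : ℤ) = (b : ℤ) * ((p : ℤ) - 1) := by
      push_cast
      have e5 : ∀ χ ∈ Bs Xs δ, (deg χ : ℤ) = (p : ℤ) - 1 := by
        intro χ hχ
        have : (deg χ : ℤ) + 1 = p := by exact_mod_cast D.deg_Bs hχ
        linarith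
      rw [Finset.sum_congr rfl e5, Finset.sum_const, nsmul_eq_mul, ← hb']
    rw [e1, e2] at h2
    have h3 : 1 + p * X ≤ 1 + a * (1 + n * p) + ∑ χ ∈ Bs Xs δ, deg χ + s * X + p * n := by
      omega
    have h4 : (1 : ℤ) + p * X ≤ 1 + a * (1 + n * p) + (b : ℤ) * ((p : ℤ) - 1) + s * X + p * n := by
      rw [← e4]
      exact_mod_cast h3
    have ha1 : (1 : ℤ) ≤ a := by
      have : 1 ≤ a := Nat.pos_of_ne_zero ha0
      exact_mod_cast this
    have hs3z : (3 : ℤ) ≤ s := by exact_mod_cast hs3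
    have hXz : (X : ℤ) + t = p := by exact_mod_cast hXt
    have hnz : (n : ℤ) + 1 = s := by exact_mod_cast hns
    have hmz : (s : ℤ) * X = 1 + n * p := by exact_mod_cast hsX
    have htz : (t : ℤ) = 1 + (a * s + 1) := by exact_mod_cast hta
    have hbz : (b : ℤ) = 1 + a * n := by exact_mod_cast hb
    have hpz : (s : ℤ) * t + 1 = p := by exact_mod_cast D.hst
    refine fs_arith (a := a) (s := s) (t := t) (p := p) (X := X) (m := 1 + n * p) (n := n) (b := b)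
      ha1 hs3z (by linarith) hpz.symm (by linarith) hmz.symm (by linarith) hbz h4
  subst ha0
  have ht2 : t = 2 := by omega
  refine ⟨hs3, hns, ht2, by omega, hε, rfl, by omega⟩

end BRD

end Cfsg.Agent.Lib.BR
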