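import Cfsg.Agent.Lib.BR.Data
import Cfsg.Agent.Lib.Char.Invariants
import Cfsg.Agent.Lib.Char.Induced
import Cfsg.Agent.Lib.Char.Ops

/-!
# Dimensions of fixed spaces of subgroups as natural numbers
-/

set_option autoImplicit false
set_option linter.unusedSectionVars false
set_option linter.style.haveILetI false
set_option linter.unusedSimpArgs false
set_option linter.unnecessarySimpa false
set_option linter.unusedVariables false
set_option maxSynthPendingDepth 3

open scoped ComplexConjugate
open Subgroup

namespace Cfsg.Agent.Lib.BR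

open Cfsg (classInner IsCharacter IsIrrCharacter IrrCharacter IsClassFunction indFun
  extendByZero IsGeneralizedCharacter IsPModular principalBlock)
open Cfsg.Agent.Lib.Char
open Cfsg.Agent.Lib.Block hiding tr

universe u

variable {G : Type u} [Group G] [Fintype G]

open Classical in
/-- The sum of a function over the elements of a subgroup, as a sum over the subtype. -/
theorem sum_filter_subgroup (K : Subgroup G) [Fintype K] (F : G → ℂ) :
    ∑ g ∈ Finset.univ.filter (fun g : G => g ∈ K), F g = ∑ k : K, F k := by
  symm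
  refine Finset.sum_bij (fun k _ => (k : G)) ?_ ?_ ?_ ?_
  · intro k _
    simp
  · intro a _ b _ h
    exact Subtype.ext h
  · intro g hg
    simp only [Finset.mem_filter, Finset.mem_univ, true_and] at hg
    exact ⟨⟨g, hg⟩, Finset.mem_univ _, rfl⟩
  · intro k _
    rfl

open Classical in
/-- The dimensions of the fixed spaces of subgroups. -/
theorem exists_fix {χ : G → ℂ} (hχ : IsCharacter G χ) :
    ∃ f : Subgroup G → ℕ, (∀ K : Subgroup G, ∑ g ∈ Finset.univ.filter (fun g : G => g ∈ K), χ g =
      (Nat.card K : ℂ) * (f K : ℂ)) ∧ ∀ K₁ K₂ : Subgroup G, K₁ ≤ K₂ → f K₂ ≤ f K₁ := by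
  obtain ⟨n, ρ, rfl⟩ := hχ
  refine ⟨fun K => Module.finrank ℂ (Representation.invariants (MonoidHom.comp ρ K.subtype)), ?_, ?_⟩
  · intro K
    letI : Fintype K := Fintype.ofFinite K
    have h1 := classInner_restrict_one_eq_finrank ρ K
    rw [classInner_def] at h1
    simp only [map_one, mul_one] at h1
    rw [sum_filter_subgroup K, ← h1]
    have hc : (Nat.card K : ℂ) ≠ 0 := card_ne_zero_complex K
    field_simp
  · intro K₁ K₂ h
    apply Submodule.finrank_mono
    intro v hv k
    exact hv ⟨k, h k.2⟩

/-- The dimension of the fixed space of a subgroup in the space of an irreducible character. -/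
noncomputable def fx (χ : IrrCharacter G) (K : Subgroup G) : ℕ :=
  Classical.choose (exists_fix (IsIrrCharacter.isCharacter χ.2)) K

open Classical in
theorem fx_sum (χ : IrrCharacter G) (K : Subgroup G) :
    ∑ g ∈ Finset.univ.filter (fun g : G => g ∈ K), (χ : G → ℂ) g = (Nat.card K : ℂ) * (fx χ K : ℂ) := by
  have h := (Classical.choose_spec (exists_fix (IsIrrCharacter.isCharacter χ.2))).1 K
  unfold fx
  convert h

theorem fx_anti (χ : IrrCharacter G) {K₁ K₂ : Subgroup G} (h : K₁ ≤ K₂) : fx χ K₂ ≤ fx χ K₁ :=
  (Classical.choose_spec (exists_fix (IsIrrCharacter.isCharacter χ.2))).2 K₁ K₂ h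

open Classical in
/-- The induced principal character in terms of the fixed dimensions. -/
theorem ind_one_expansion (N : Subgroup G) (g : G) :
    indFun N (fun _ => 1) g = ∑ χ : IrrCharacter G, (fx χ N : ℂ) * (χ : G → ℂ) g := by
  letI : Fintype N := Fintype.ofFinite N
  have h1 := congrFun (classFunction_eq_sum _ (indFun_isClassFunction N (fun _ => 1))) g
  rw [h1]
  simp only [Finset.sum_apply, Pi.smul_apply, smul_eq_mul]
  refine Finset.sum_congr rfl fun χ _ => ?_
  congr 1
  rw [frobenius_reciprocity N _ _ (IsCharacter.isClassFunction (IsIrrCharacter.isCharacter χ.2)), classInner_def]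
  simp only [one_mul]
  rw [← map_sum, ← sum_filter_subgroup N (χ : G → ℂ), fx_sum]
  have hc : (Nat.card N : ℂ) ≠ 0 := card_ne_zero_complex N
  simp only [map_mul, map_natCast]
  field_simp

open Classical in
/-- The value of the induced principal character. -/
theorem ind_one_apply (N : Subgroup G) (g : G) :
    indFun N (fun _ => 1) g = (Nat.card N : ℂ)⁻¹ *
      ((Finset.univ.filter (fun x : G => x⁻¹ * g * x ∈ N)).card : ℂ) := by
  rw [indFun_apply]
  congr 1
  rw [Finset.card_filter]
  push_cast
  refine Finset.sum_congr rfl fun x _ => ?_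
  by_cases h : x⁻¹ * g * x ∈ N
  · rw [if_pos h, extendByZero_of_mem _ _ h]
  · rw [if_neg h, extendByZero_of_not_mem _ _ h]

end Cfsg.Agent.Lib.BR
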