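import Cfsg.Agent.Lib.BR.Perm

/-!
# Involutions in the normalizer of the cyclic subgroup
-/

set_option autoImplicit false
set_option linter.unusedSectionVars false
set_option linter.style.haveILetI false
set_option linter.unusedSimpArgs false
set_option linter.unnecessarySimpa false
set_option linter.unusedVariables false
set_option maxSynthPendingDepth 3

open scoped ComplexConjugate
open Subgroup

namespace Cfsg.Agent.Lib.BR

open Cfsg (classInner IsCharacter IsIrrCharacter IrrCharacter IsClassFunction indFun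
  extendByZero IsGeneralizedCharacter IsPModular principalBlock)
open Cfsg.Agent.Lib.Char
open Cfsg.Agent.Lib.Block hiding tr

universe u

variable {G : Type u} [Group G] [Fintype G] {p : ℕ} {z : G}
  {t s n : ℕ} {Xs Ys : Finset (IrrCharacter G)} {δ : IrrCharacter G → ℤ} {ε : ℤ}
  {deg : IrrCharacter G → ℕ}

/-- The subgroup of the elements acting on `z` by `±1`. -/
def Hz (z : G) : Subgroup G where
  carrier := {g | g * z * g⁻¹ = z ∨ g * z * g⁻¹ = z⁻¹}
  mul_mem' := by
    intro a b ha hb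
    have e : ∀ c : G, (a * b) * c * (a * b)⁻¹ = a * (b * c * b⁻¹) * a⁻¹ := by
      intro c
      group
    have e2 : a * z⁻¹ * a⁻¹ = (a * z * a⁻¹)⁻¹ := by group
    simp only [Set.mem_setOf_eq] at ha hb ⊢
    rw [e]
    rcases hb with hb | hb <;> rcases ha with ha | ha
    · left
      rw [hb, ha]
    · right
      rw [hb, ha]
    · right
      rw [hb, e2, ha]
    · left
      rw [hb, e2, ha, inv_inv]
  one_mem' := by
    left
    group
  inv_mem' := by
    intro a ha
    simp only [Set.mem_setOf_eq] at ha ⊢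
    rcases ha with ha | ha
    · left
      have : a⁻¹ * (a * z * a⁻¹) * a⁻¹⁻¹ = z := by group
      rw [ha] at this
      exact this
    · right
      have h1 : a⁻¹ * (a * z * a⁻¹) * a⁻¹⁻¹ = z := by group
      rw [ha] at h1
      have h2 : a⁻¹ * z * a⁻¹⁻¹ = (a⁻¹ * z⁻¹ * a⁻¹⁻¹)⁻¹ := by group
      rw [h2, h1]

theorem mem_Hz {g : G} : g ∈ Hz z ↔ g * z * g⁻¹ = z ∨ g * z * g⁻¹ = z⁻¹ := Iff.rfl

namespace BRD

variable (D : BRD p z t s n Xs Ys δ ε deg)
include D

theorem hp_odd : p ≠ 2 := by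
  have := D.hp3
  omega

theorem z_ne_inv : z ≠ z⁻¹ := by
  intro h
  have h1 : z ^ 2 = 1 := by
    rw [sq]
    nth_rewrite 1 [h]
    simp
  have h2 := orderOf_dvd_of_pow_eq_one h1
  rw [D.hz] at h2
  have := Nat.le_of_dvd (by norm_num) h2
  have := D.hp3
  omega

theorem mem_P_iff {g : G} : g ∈ zpowers z ↔ g * z * g⁻¹ = z := by
  rw [← D.hC, Subgroup.mem_centralizer_singleton_iff]
  constructor
  · intro h
    rw [h]
    group
  · intro h
    calc g * z = g * z * g⁻¹ * g := by group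
      _ = z * g := by rw [h]

/-- The normalizer contains the subgroup `Hz`. -/
theorem Hz_le_N : Hz z ≤ Nz z := by
  intro g hg
  refine Lib.SmallSimple.BB.mem_normalizer_of_conj' D.hp D.hz (mem_zpowers z) ?_ ?_
  · intro h
    have h2 := D.hz
    rw [h, orderOf_one] at h2
    have := D.hp3
    omega
  · rcases hg with h | h
    · rw [h]
      exact mem_zpowers z
    · rw [h]
      exact inv_mem (mem_zpowers z)

theorem P_le_Hz : zpowers z ≤ Hz z := by
  intro g hg
  left
  exact D.mem_P_iff.mp hg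

/-- An involution in the normalizer inverts `z`. -/
theorem inverts {y : G} (hy : y ∈ Nz z) (hy2 : y * y = 1) (hy1 : y ≠ 1) : y * z * y⁻¹ = z⁻¹ := by
  have hyi : y⁻¹ = y := by
    rw [inv_eq_iff_mul_eq_one]
    exact hy2
  obtain ⟨k, hk⟩ : ∃ k : ℤ, y * z * y⁻¹ = z ^ k := by
    have := (Subgroup.mem_normalizer_iff.mp hy z).mp (mem_zpowers z)
    obtain ⟨k, hk⟩ := Subgroup.mem_zpowers_iff.mp this
    exact ⟨k, hk.symm⟩
  have h1 : z ^ (k * k) = z := by
    have e1 : y * z ^ k * y⁻¹ = (z ^ k) ^ k := by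
      rw [← conj_zpow, hk]
    rw [zpow_mul, ← e1, ← hk]
    have e2 : y * (y * z * y⁻¹) * y⁻¹ = (y * y) * z * (y⁻¹ * y⁻¹) := by group
    rw [e2, hyi, hy2]
    group
  have h2 : z ^ (k * k - 1) = 1 := by
    rw [zpow_sub, h1, zpow_one, mul_inv_cancel]
  have h3 : (p : ℤ) ∣ k * k - 1 := by
    rw [← D.hz]
    exact orderOf_dvd_iff_zpow_eq_one.mpr h2
  have h4 : (p : ℤ) ∣ (k - 1) * (k + 1) := by
    have e : (k - 1) * (k + 1) = k * k - 1 := by ring
    rwa [e]
  have hpi : Prime (p : ℤ) := Nat.prime_iff_prime_int.mp D.hp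
  rcases hpi.dvd_or_dvd h4 with h5 | h5
  · exfalso
    have h6 : z ^ (k - 1) = 1 := by
      rw [← orderOf_dvd_iff_zpow_eq_one, D.hz]
      exact h5
    have h7 : z ^ k = z := by
      have : z ^ k = z ^ (k - 1) * z := by
        rw [← zpow_add_one]
        ring_nf
      rw [this, h6, one_mul]
    rw [h7] at hk
    have h8 : y ∈ zpowers z := D.mem_P_iff.mpr hk
    have h9 : orderOf y ∣ p := by
      have := orderOf_dvd_natCard (⟨y, h8⟩ : zpowers z)
      rwa [Subgroup.orderOf_mk, D.card_P] at this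
    have h10 : orderOf y = 2 := by
      apply orderOf_eq_prime
      · rw [sq]
        exact hy2
      · exact hy1
    rw [h10] at h9
    have h11 := (Nat.prime_dvd_prime_iff_eq Nat.prime_two D.hp).1 h9
    exact D.hp_odd h11.symm
  · have h6 : z ^ (k + 1) = 1 := by
      rw [← orderOf_dvd_iff_zpow_eq_one, D.hz]
      exact h5
    have h7 : z ^ k = z⁻¹ := by
      rw [eq_inv_iff_mul_eq_one, ← zpow_add_one]
      exact h6
    rw [hk, h7]

/-- Inverting `z` inverts all powers. -/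
theorem inverts_mem {y u : G} (hy : y * z * y⁻¹ = z⁻¹) (hu : u ∈ zpowers z) : y * u * y⁻¹ = u⁻¹ := by
  obtain ⟨k, rfl⟩ := Subgroup.mem_zpowers_iff.mp hu
  rw [← conj_zpow, hy, inv_zpow]

/-- Each element of the coset is conjugate to `y`. -/
theorem isConj_mul {y u : G} (hy : y * z * y⁻¹ = z⁻¹) (hy2 : y * y = 1) (hu : u ∈ zpowers z) :
    IsConj y (u * y) := by
  have hodd : Odd p := D.hp.odd_of_ne_two D.hp_odd
  obtain ⟨r, hr⟩ := hodd
  obtain ⟨v, hv⟩ : ∃ v, v = u ^ (r + 1) := ⟨_, rfl⟩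
  have hvP : v ∈ zpowers z := by
    rw [hv]
    exact pow_mem hu _
  have hvv : v * v = u := by
    have h1 : u ^ p = 1 := by
      have h2 : orderOf u ∣ p := by
        have := orderOf_dvd_natCard (⟨u, hu⟩ : zpowers z)
        rwa [Subgroup.orderOf_mk, D.card_P] at this
      exact orderOf_dvd_iff_pow_eq_one.mp h2
    rw [hv, ← pow_add]
    have e : r + 1 + (r + 1) = p + 1 := by omega
    rw [e, pow_succ, h1, one_mul]
  rw [isConj_iff]
  refine ⟨v, ?_⟩
  have h3 : y * v⁻¹ * y⁻¹ = v := by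
    have := inverts_mem D hy (inv_mem hvP)
    rwa [inv_inv] at this
  calc v * y * v⁻¹ = v * (y * v⁻¹ * y⁻¹) * y := by group
    _ = u * y := by rw [h3, mul_assoc, ← mul_assoc v v, hvv]

open Classical in
/-- The sum over the subgroup `Hz`. -/
theorem sum_Hz {y : G} (hy : y * z * y⁻¹ = z⁻¹) (F : G → ℂ) :
    ∑ g ∈ Finset.univ.filter (fun g : G => g ∈ Hz z), F g =
      ∑ u ∈ Finset.univ.filter (fun g : G => g ∈ zpowers z), F u +
        ∑ u ∈ Finset.univ.filter (fun g : G => g ∈ zpowers z), F (u * y) := by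
  have hinj : Function.Injective (fun u : G => u * y) := mul_left_injective y
  have hcoset : ∀ u : G, u ∈ zpowers z → (u * y) * z * (u * y)⁻¹ = z⁻¹ := by
    intro u hu
    have e : (u * y) * z * (u * y)⁻¹ = u * (y * z * y⁻¹) * u⁻¹ := by group
    have e2 : u * z⁻¹ * u⁻¹ = (u * z * u⁻¹)⁻¹ := by group
    rw [e, hy, e2, D.mem_P_iff.mp hu]
  have h1 : Finset.univ.filter (fun g : G => g ∈ Hz z) =
      Finset.univ.filter (fun g : G => g ∈ zpowers z) ∪
        (Finset.univ.filter (fun g : G => g ∈ zpowers z)).image (fun u => u * y) := by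
    ext g
    simp only [Finset.mem_filter, Finset.mem_univ, true_and, Finset.mem_union, Finset.mem_image]
    constructor
    · intro h
      rcases h with h | h
      · exact Or.inl (D.mem_P_iff.mpr h)
      · right
        refine ⟨g * y⁻¹, ?_, by group⟩
        rw [D.mem_P_iff]
        have e1 : y⁻¹ * z * y = z⁻¹ := by
          have e2 : y⁻¹ * (y * z * y⁻¹)⁻¹ * y = z⁻¹ := by group
          rw [hy, inv_inv] at e2
          exact e2
        have e : (g * y⁻¹) * z * (g * y⁻¹)⁻¹ = g * (y⁻¹ * z * y) * g⁻¹ := by group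
        have e2 : g * z⁻¹ * g⁻¹ = (g * z * g⁻¹)⁻¹ := by group
        rw [e, e1, e2, h, inv_inv]
    · rintro (h | ⟨u, hu, rfl⟩)
      · exact Or.inl (D.mem_P_iff.mp h)
      · exact Or.inr (hcoset u hu)
  rw [h1, Finset.sum_union, Finset.sum_image (fun a _ b _ h => hinj h)]
  rw [Finset.disjoint_left]
  intro g hg hg'
  simp only [Finset.mem_filter, Finset.mem_univ, true_and, Finset.mem_image] at hg hg'
  obtain ⟨u, hu, rfl⟩ := hg'
  have e1 := hcoset u hu
  rw [D.mem_P_iff.mp hg] at e1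
  exact D.z_ne_inv e1

open Classical in
theorem card_Hz {y : G} (hy : y * z * y⁻¹ = z⁻¹) : Nat.card (Hz z) = 2 * p := by
  have h1 := D.sum_Hz hy (fun _ => 1)
  simp only [Finset.sum_const, nsmul_eq_mul, mul_one] at h1
  have h2 : (Finset.univ.filter (fun g : G => g ∈ Hz z)).card = Nat.card (Hz z) := by
    rw [Nat.card_eq_fintype_card, Fintype.card_subtype]
  have h3 : (Finset.univ.filter (fun g : G => g ∈ zpowers z)).card = p := by
    rw [← D.card_P, Nat.card_eq_fintype_card, Fintype.card_subtype]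
  rw [h2, h3] at h1
  have h4 : ((Nat.card (Hz z) : ℕ) : ℂ) = ((2 * p : ℕ) : ℂ) := by
    rw [h1]
    push_cast
    ring
  exact_mod_cast h4

open Classical in
/-- The value of a character at an involution of the normalizer. -/
theorem val_inv {y : G} (hy : y * z * y⁻¹ = z⁻¹) (hy2 : y * y = 1) (χ : IrrCharacter G) :
    (χ : G → ℂ) y = ((2 * (fx χ (Hz z) : ℤ) - (fx χ (zpowers z) : ℤ) : ℤ) : ℂ) := by
  have h1 := D.sum_Hz hy (χ : G → ℂ)
  rw [fx_sum, fx_sum, D.card_Hz hy, D.card_P] at h1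
  have h2 : ∀ u ∈ Finset.univ.filter (fun g : G => g ∈ zpowers z), (χ : G → ℂ) (u * y) = (χ : G → ℂ) y := by
    intro u hu
    rw [Finset.mem_filter] at hu
    exact (IsCharacter.map_isConj (IsIrrCharacter.isCharacter χ.2) (D.isConj_mul hy hy2 hu.2)).symm
  rw [Finset.sum_congr rfl h2, Finset.sum_const, nsmul_eq_mul] at h1
  have h3 : (Finset.univ.filter (fun g : G => g ∈ zpowers z)).card = p := by
    rw [← D.card_P, Nat.card_eq_fintype_card, Fintype.card_subtype]
  rw [h3] at h1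
  have hp0 : (p : ℂ) ≠ 0 := D.hp1z
  push_cast at h1 ⊢
  apply mul_left_cancel₀ hp0
  linear_combination -h1

open Classical in
/-- The number of `x` conjugating `y` to `w`. -/
theorem card_conj_fiber (y w c : G) (hc : c⁻¹ * y * c = w) :
    (Finset.univ.filter (fun x : G => x⁻¹ * y * x = w)).card = Nat.card (centralizer ({y} : Set G)) := by
  rw [← Fintype.card_subtype, ← Nat.card_eq_fintype_card]
  refine Nat.card_congr ⟨fun x => ⟨x.1 * c⁻¹, ?_⟩, fun k => ⟨k.1 * c, ?_⟩, ?_, ?_⟩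
  · rw [Subgroup.mem_centralizer_singleton_iff]
    have h1 : x.1⁻¹ * y * x.1 = c⁻¹ * y * c := x.2.trans hc.symm
    have h2 : x.1 * (x.1⁻¹ * y * x.1) * c⁻¹ = x.1 * (c⁻¹ * y * c) * c⁻¹ := by rw [h1]
    have e1 : x.1 * (x.1⁻¹ * y * x.1) * c⁻¹ = y * (x.1 * c⁻¹) := by group
    have e2 : x.1 * (c⁻¹ * y * c) * c⁻¹ = (x.1 * c⁻¹) * y := by group
    rw [e1, e2] at h2
    exact h2.symm
  · have h1 := Subgroup.mem_centralizer_singleton_iff.mp k.2
    show (k.1 * c)⁻¹ * y * (k.1 * c) = w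
    have e1 : (k.1 * c)⁻¹ * y * (k.1 * c) = c⁻¹ * k.1⁻¹ * (y * k.1) * c := by group
    rw [e1, ← h1, ← hc]
    group
  · intro x
    apply Subtype.ext
    show x.1 * c⁻¹ * c = x.1
    group
  · intro k
    apply Subtype.ext
    show k.1 * c * c⁻¹ = k.1
    group

open Classical in
/-- The value of the permutation character at an involution. -/
theorem pi_y {y : G} (hyN : y ∈ Nz z) (hy2 : y * y = 1) (hy1 : y ≠ 1) :
    (t : ℂ) * indFun (Nz z) (fun _ => 1) y = (Nat.card (centralizer ({y} : Set G)) : ℂ) := by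
  rw [ind_one_apply, D.hNcard]
  have hy := D.inverts hyN hy2 hy1
  obtain ⟨B, hB⟩ : ∃ B, B = (Finset.univ.filter (fun g : G => g ∈ zpowers z)).image (fun u => u * y) := ⟨_, rfl⟩
  have hBc : B.card = p := by
    rw [hB, Finset.card_image_of_injective _ (mul_left_injective y), ← D.card_P,
      Nat.card_eq_fintype_card, Fintype.card_subtype]
  have hmaps : Set.MapsTo (fun x : G => x⁻¹ * y * x)
      (Finset.univ.filter (fun x : G => x⁻¹ * y * x ∈ Nz z) : Finset G) (B : Finset G) := by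
    intro x hx
    have hx' : x⁻¹ * y * x ∈ Nz z := by simpa using hx
    have e1 : (x⁻¹ * y * x) * (x⁻¹ * y * x) = 1 := by
      have e : (x⁻¹ * y * x) * (x⁻¹ * y * x) = x⁻¹ * (y * y) * x := by group
      rw [e, hy2]
      group
    have e2 : x⁻¹ * y * x ≠ 1 := by
      intro h
      apply hy1
      have e3 : y = x * (x⁻¹ * y * x) * x⁻¹ := by group
      rw [e3, h]
      group
    have e3 := D.inverts hx' e1 e2
    simp only [Finset.coe_image, hB, Set.mem_image, Finset.mem_coe, Finset.mem_filter, Finset.mem_univ, true_and]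
    refine ⟨(x⁻¹ * y * x) * y⁻¹, ?_, by group⟩
    rw [D.mem_P_iff]
    have e4 : y⁻¹ * z * y = z⁻¹ := by
      have e5 : y⁻¹ * (y * z * y⁻¹)⁻¹ * y = z⁻¹ := by group
      rw [hy, inv_inv] at e5
      exact e5
    have e : ((x⁻¹ * y * x) * y⁻¹) * z * ((x⁻¹ * y * x) * y⁻¹)⁻¹ =
        (x⁻¹ * y * x) * (y⁻¹ * z * y) * (x⁻¹ * y * x)⁻¹ := by group
    have e6 : (x⁻¹ * y * x) * z⁻¹ * (x⁻¹ * y * x)⁻¹ = ((x⁻¹ * y * x) * z * (x⁻¹ * y * x)⁻¹)⁻¹ := by group
    rw [e, e4, e6, e3, inv_inv]
  have hcount := Finset.card_eq_sum_card_fiberwise hmaps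
  have hfib : ∀ w ∈ B, ((Finset.univ.filter (fun x : G => x⁻¹ * y * x ∈ Nz z)).filter
      (fun x => x⁻¹ * y * x = w)).card = Nat.card (centralizer ({y} : Set G)) := by
    intro w hw
    rw [hB, Finset.mem_image] at hw
    obtain ⟨u, hu, rfl⟩ := hw
    rw [Finset.mem_filter] at hu
    obtain ⟨c, hc⟩ := isConj_iff.mp (D.isConj_mul hy hy2 hu.2)
    rw [← D.card_conj_fiber y (u * y) c⁻¹ (by rw [inv_inv, ← hc])]
    congr 1
    ext x
    simp only [Finset.mem_filter, Finset.mem_univ, true_and]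
    constructor
    · exact fun h => h.2
    · intro h
      refine ⟨?_, h⟩
      rw [h]
      exact mul_mem (D.P_le_N hu.2) hyN
  rw [Finset.sum_congr rfl hfib, Finset.sum_const, smul_eq_mul, hBc] at hcount
  rw [hcount]
  have hp0 : (p : ℂ) ≠ 0 := D.hp1z
  have ht0 : (t : ℂ) ≠ 0 := by
    have := D.ht2
    exact_mod_cast (by omega : t ≠ 0)
  push_cast
  field_simp

end BRD

end Cfsg.Agent.Lib.BR
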