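import Cfsg.Agent.Lib.BR.Even
import Cfsg.Agent.Lib.SmallSimple.BrauerB

/-!
# The case of a normalizer of odd order
-/

set_option autoImplicit false
set_option linter.unusedSectionVars false
set_option linter.style.haveILetI false
set_option linter.unusedSimpArgs false
set_option linter.unnecessarySimpa false
set_option linter.unusedVariables false
set_option maxSynthPendingDepth 3

open scoped ComplexConjugate
open Subgroup

namespace Cfsg.Agent.Lib.BR

open Cfsg (classInner IsCharacter IsIrrCharacter IrrCharacter IsClassFunction indFun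
  extendByZero IsGeneralizedCharacter IsPModular principalBlock)
open Cfsg.Agent.Lib.Char
open Cfsg.Agent.Lib.Block hiding tr

universe u

variable {G : Type u} [Group G] [Fintype G] {p : ℕ} {z : G}
  {t s n : ℕ} {Xs Ys : Finset (IrrCharacter G)} {δ : IrrCharacter G → ℤ} {ε : ℤ}
  {deg : IrrCharacter G → ℕ}

namespace BRD

variable (D : BRD p z t s n Xs Ys δ ε deg)
include D

theorem hdet (β : G →* ℂˣ) : β = 1 := by
  ext g
  have h1 : commutator G ≤ β.ker := Abelianization.commutator_subset_ker β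
  rw [D.hperf] at h1
  have h2 : g ∈ β.ker := h1 (by trivial)
  rw [MonoidHom.mem_ker] at h2
  rw [h2]
  rfl

open Classical in
/-- **No involution case.** If the normalizer has odd order, the sign `ε = -1` does not occur. -/
theorem odd_K {X K : ℕ} {θ₀ : IrrCharacter G} (hθ₀ : θ₀ ∈ Ys) (hX : ∀ θ ∈ Ys, deg θ = X)
    (hZ : ∑ χ ∈ Zs Xs Ys, (fx χ (zpowers z)) ^ 2 = n) (htodd : Odd t)
    (hK1 : 1 ≤ K) (hε : ε = -1) (hXt : X + t = K * p) (hnK : n + 1 = s * K) (hsX : s * X = 1 + n * p)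
    (htK : t = 1 + K * ((As Xs δ).card * s + 1)) : False := by
  have hpodd : Odd p := D.hp.odd_of_ne_two D.hp_odd
  have hseven : Even s := by
    have h1 : Even (s * t) := by
      have h2 : s * t + 1 = p := D.hst
      rcases hpodd with ⟨r, hr⟩
      exact ⟨r, by omega⟩
    rcases Nat.even_mul.1 h1 with h | h
    · exact h
    · exact absurd h (Nat.not_even_iff_odd.mpr htodd)
  have hmeven : Even (1 + n * p) := by
    rw [← hsX]
    exact hseven.mul_right _
  -- the group has even order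
  have hGeven : 2 ∣ Nat.card G := by
    rw [D.hcard]
    exact Dvd.dvd.mul_left hmeven.two_dvd _
  haveI : Fact (Nat.Prime 2) := ⟨Nat.prime_two⟩
  obtain ⟨x, hx⟩ := exists_prime_orderOf_dvd_card' 2 hGeven
  have hx2 : x ^ 2 = 1 := by rw [← hx]; exact pow_orderOf_eq_one x
  have hxx : x * x = 1 := by rw [← sq]; exact hx2
  have hx1 : x ≠ 1 := by
    rintro rfl
    simp at hx
  -- no involution in the normalizer
  have hNodd : ∀ w : G, w ∈ Nz z → w * w = 1 → w = 1 := by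
    intro w hw hww
    by_contra hw1
    have ho : orderOf w = 2 := by
      apply orderOf_eq_prime
      · rw [sq]
        exact hww
      · exact hw1
    have h1 := orderOf_dvd_natCard (⟨w, hw⟩ : Nz z)
    rw [Subgroup.orderOf_mk, ho, D.hNcard] at h1
    have h2 : Odd (t * p) := htodd.mul hpodd
    exact (Nat.not_even_iff_odd.mpr h2) (even_iff_two_dvd.mpr h1)
  have hpi0 : indFun (Nz z) (fun _ => 1) x = 0 := by
    rw [ind_one_apply]
    have h1 : Finset.univ.filter (fun c : G => c⁻¹ * x * c ∈ Nz z) = ∅ := by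
      apply Finset.eq_empty_of_forall_notMem
      intro c hc
      simp only [Finset.mem_filter, Finset.mem_univ, true_and] at hc
      have e1 : (c⁻¹ * x * c) * (c⁻¹ * x * c) = 1 := by
        have e : (c⁻¹ * x * c) * (c⁻¹ * x * c) = c⁻¹ * (x * x) * c := by group
        rw [e, hxx]
        group
      have e2 := hNodd _ hc e1
      apply hx1
      have e3 : x = c * (c⁻¹ * x * c) * c⁻¹ := by group
      rw [e3, e2]
      group
    rw [h1]
    simp
  have hsum0 : ∑ χ ∈ Zs Xs Ys, (fx χ (zpowers z) : ℂ) * (χ : G → ℂ) x = -1 := by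
    have h1 := D.ind_eq hZ x
    rw [hpi0] at h1
    linear_combination -h1
  -- integer values with parity
  have hval : ∀ χ : IrrCharacter G, ∃ w : ℤ, (χ : G → ℂ) x = w ∧ (2 : ℤ) ∣ (deg χ : ℤ) - w := by
    intro χ
    obtain ⟨a, d, h1, h2, h3, h4⟩ := Lib.SmallSimple.BB.exists_even_of_involution
      (IsIrrCharacter.isCharacter χ.2) D.hdet hx2
    have hd : d = deg χ := by
      rw [(D.hdeg χ).1] at h1
      exact_mod_cast h1.symm
    refine ⟨(d : ℤ) - 2 * a, ?_, ?_⟩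
    · push_cast
      rw [← h1]
      linear_combination -h2
    · rw [hd]
      exact ⟨a, by ring⟩
  choose w hw hwpar using hval
  -- the relation at `x`
  have hpreg : ¬ p ∣ orderOf x := by
    rw [hx]
    intro h
    have := Nat.le_of_dvd (by norm_num) h
    have := D.hp3
    omega
  have hwY : ∀ θ ∈ Ys, w θ = w θ₀ := by
    intro θ hθ
    have h1 := D.hYeq θ hθ θ₀ hθ₀ x hpreg
    rw [hw, hw] at h1
    exact_mod_cast h1
  have hone : w (oneIrr G) = 1 := by
    have h1 := hw (oneIrr G)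
    have h2 : ((oneIrr G : IrrCharacter G) : G → ℂ) x = 1 := rfl
    rw [h2] at h1
    exact_mod_cast h1.symm
  obtain ⟨Psi, hPsi⟩ : ∃ P, P = ∑ χ ∈ As Xs δ, w χ := ⟨_, rfl⟩
  obtain ⟨U, hU⟩ : ∃ U, U = ∑ χ ∈ Bs Xs δ, w χ := ⟨_, rfl⟩
  have hR : -w θ₀ = 1 + Psi - U := by
    have h1 := D.hrel θ₀ hθ₀ x hpreg
    rw [D.sum_Xs, hw θ₀, hε, D.hδone, hw (oneIrr G), hone] at h1
    have e1 : ∑ χ ∈ As Xs δ, (δ χ : ℂ) * (χ : G → ℂ) x = (Psi : ℂ) := by
      rw [hPsi, Int.cast_sum]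
      refine Finset.sum_congr rfl fun χ hχ => ?_
      rw [hw, (D.mem_As hχ).2.2]
      push_cast
      ring
    have e2 : ∑ χ ∈ Bs Xs δ, (δ χ : ℂ) * (χ : G → ℂ) x = -(U : ℂ) := by
      rw [hU, Int.cast_sum, ← Finset.sum_neg_distrib]
      refine Finset.sum_congr rfl fun χ hχ => ?_
      rw [hw, (D.mem_Bs hχ).2]
      push_cast
      ring
    rw [e1, e2] at h1
    have h3 : ((-w θ₀ : ℤ) : ℂ) = ((1 + Psi - U : ℤ) : ℂ) := by
      push_cast
      push_cast at h1
      linear_combination h1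
    exact_mod_cast h3
  -- orthogonality with the identity
  have hO : 1 + (1 + (n : ℤ) * p) * Psi + ((p : ℤ) - 1) * U + (1 + (n : ℤ) * p) * w θ₀ - p = 0 := by
    have h1 := second_orthogonality' x (1 : G)
    have hnc : ¬ IsConj x 1 := by
      intro h
      exact hx1 (isConj_one_right.mp h.symm)
    rw [if_neg hnc] at h1
    have h2 : ∀ χ : IrrCharacter G, (χ : G → ℂ) x * conj ((χ : G → ℂ) 1) = ((w χ * (deg χ : ℤ) : ℤ) : ℂ) := by
      intro χ
      rw [hw, (D.hdeg χ).1, map_natCast]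
      push_cast
      ring
    simp only [h2] at h1
    have h3 : ∑ χ : IrrCharacter G, w χ * (deg χ : ℤ) = 0 := by
      have : ((∑ χ : IrrCharacter G, w χ * (deg χ : ℤ) : ℤ) : ℂ) = 0 := by
        rw [Int.cast_sum]
        exact h1
      exact_mod_cast this
    rw [D.sum_all, D.sum_Xs, hone, D.deg_one'] at h3
    have e1 : ∑ χ ∈ As Xs δ, w χ * (deg χ : ℤ) = (1 + (n : ℤ) * p) * Psi := by
      rw [hPsi, Finset.mul_sum]
      refine Finset.sum_congr rfl fun χ hχ => ?_
      rw [D.deg_As hχ]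
      push_cast
      ring
    have e2 : ∑ χ ∈ Bs Xs δ, w χ * (deg χ : ℤ) = ((p : ℤ) - 1) * U := by
      rw [hU, Finset.mul_sum]
      refine Finset.sum_congr rfl fun χ hχ => ?_
      have e3 : (deg χ : ℤ) + 1 = p := by exact_mod_cast D.deg_Bs hχ
      rw [← e3]
      ring
    have e3 : ∑ χ ∈ Ys, w χ * (deg χ : ℤ) = (1 + (n : ℤ) * p) * w θ₀ := by
      have e4 : ∀ χ ∈ Ys, w χ * (deg χ : ℤ) = w θ₀ * (X : ℤ) := by
        intro χ hχ
        rw [hwY χ hχ, hX χ hχ]
      rw [Finset.sum_congr rfl e4, Finset.sum_const, nsmul_eq_mul, D.hYc]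
      have e5 : (s : ℤ) * X = 1 + n * p := by exact_mod_cast hsX
      rw [← e5]
      ring
    have e4 : ∑ χ ∈ Zs Xs Ys, w χ * (deg χ : ℤ) = -(p : ℤ) := by
      have e5 : ∑ χ ∈ Zs Xs Ys, (fx χ (zpowers z) : ℤ) * w χ = -1 := by
        have e6 : ((∑ χ ∈ Zs Xs Ys, (fx χ (zpowers z) : ℤ) * w χ : ℤ) : ℂ) = ((-1 : ℤ) : ℂ) := by
          push_cast
          rw [← hsum0]
          refine Finset.sum_congr rfl fun χ _ => ?_
          rw [hw]
        exact_mod_cast e6
      have e7 : ∑ χ ∈ Zs Xs Ys, w χ * (deg χ : ℤ) = p * ∑ χ ∈ Zs Xs Ys, (fx χ (zpowers z) : ℤ) * w χ := by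
        rw [Finset.mul_sum]
        refine Finset.sum_congr rfl fun χ hχ => ?_
        rw [D.fx_Zs hχ]
        push_cast
        ring
      rw [e7, e5]
      ring
    rw [e1, e2, e3, e4] at h3
    push_cast at h3
    linarith
  have hzero : Psi + w θ₀ = 0 := by
    have h1 : ((p : ℤ) - 1 + (1 + (n : ℤ) * p)) * (Psi + w θ₀) = 0 := by
      have hU' : U = 1 + Psi + w θ₀ := by linarith
      rw [hU'] at hO
      linear_combination hO
    have h2 : ((p : ℤ) - 1 + (1 + (n : ℤ) * p)) ≠ 0 := by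
      have h3 : (3 : ℤ) ≤ p := by exact_mod_cast D.hp3
      have h4 : (0 : ℤ) ≤ (n : ℤ) * p := by positivity
      linarith
    rcases mul_eq_zero.mp h1 with h3 | h3
    · exact absurd h3 h2
    · exact h3
  -- parity
  have hXodd : Odd X := by
    have hKeven : Even K := by
      have h1 : Even (t - 1) := Odd.tsub_odd htodd odd_one
      have h2 : t - 1 = K * ((As Xs δ).card * s + 1) := by omega
      rw [h2] at h1
      rcases Nat.even_mul.1 h1 with h | h
      · exact h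
      · exfalso
        have h3 : Even ((As Xs δ).card * s) := hseven.mul_left _
        exact (Nat.not_even_iff_odd.mpr h3.add_one) h
    have h1 : Even (K * p) := hKeven.mul_right _
    rw [← hXt] at h1
    by_contra h
    rw [Nat.not_odd_iff_even] at h
    exact (Nat.not_even_iff_odd.mpr (h.add_odd htodd)) h1
  have hPar : (2 : ℤ) ∣ Psi := by
    rw [hPsi]
    refine Finset.dvd_sum fun χ hχ => ?_
    have h1 := hwpar χ
    rw [D.deg_As hχ] at h1
    have h2 : (2 : ℤ) ∣ ((1 + n * p : ℕ) : ℤ) := by exact_mod_cast hmeven.two_dvd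
    have h3 := dvd_sub h2 h1
    simpa using h3
  have hPar2 : (2 : ℤ) ∣ w θ₀ := by
    have h1 : (2 : ℤ) ∣ -Psi := (dvd_neg).2 hPar
    have h2 : w θ₀ = -Psi := by linarith
    rw [h2]
    exact h1
  have h3 := hwpar θ₀
  rw [hX θ₀ hθ₀] at h3
  have h4 : (2 : ℤ) ∣ (X : ℤ) := by
    have := dvd_add h3 hPar2
    simpa using this
  have h5 : 2 ∣ X := by exact_mod_cast h4
  exact (Nat.not_even_iff_odd.mpr hXodd) (even_iff_two_dvd.mpr h5)

open Classical in
/-- The column at a non-trivial element of the cyclic group for the exceptional characters. -/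
theorem sum_Ys_col {u : G} (hu : u ∈ zpowers z) (hu1 : u ≠ 1) :
    ∑ θ ∈ Ys, (θ : G → ℂ) u * conj ((θ : G → ℂ) u) = (p : ℂ) - t := by
  have h1 := second_orthogonality' u u
  rw [if_pos (IsConj.refl u), centralizer_of_mem D.hz D.hp hu hu1, D.hC, D.card_P, D.sum_all] at h1
  have e1 : ∑ χ ∈ Xs, (χ : G → ℂ) u * conj ((χ : G → ℂ) u) = (t : ℂ) := by
    have e2 : ∀ χ ∈ Xs, (χ : G → ℂ) u * conj ((χ : G → ℂ) u) = 1 := by
      intro χ hχ
      rw [D.hXval χ hχ u hu hu1]
      rcases D.hδ χ hχ with h | h <;> rw [h] <;> simp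
    rw [Finset.sum_congr rfl e2, Finset.sum_const, D.hXc]
    simp
  have e3 : ∑ χ ∈ Zs Xs Ys, (χ : G → ℂ) u * conj ((χ : G → ℂ) u) = 0 :=
    Finset.sum_eq_zero fun χ hχ => by
      rw [D.hrest χ (D.mem_Zs hχ).1 (D.mem_Zs hχ).2 u hu hu1]
      simp
  rw [e1, e3] at h1
  linear_combination h1

/-- The ratio of the fixed dimension to the degree. -/
theorem ratio (hn2 : 2 ≤ n) (hY0 : ∀ θ ∈ Ys, fx θ (zpowers z) = 0) {ψ : IrrCharacter G} (hψ : ψ ≠ oneIrr G) :
    (p + 1) * fx ψ (zpowers z) + 1 ≤ 2 * deg ψ := by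
  classical
  have hp3 := D.hp3
  have hd0 : 1 ≤ deg ψ := Nat.pos_of_ne_zero (D.hdeg ψ).2.1
  by_cases hX : ψ ∈ Xs
  · rcases D.hδ ψ hX with h | h
    · have hA : ψ ∈ As Xs δ := by
        simp only [As, Finset.mem_filter]
        exact ⟨hX, hψ, h⟩
      rw [D.fx_As hA, D.deg_As hA]
      obtain ⟨n', rfl⟩ : ∃ n', n = n' + 2 := ⟨n - 2, by omega⟩
      obtain ⟨p', rfl⟩ : ∃ p', p = p' + 3 := ⟨p - 3, by omega⟩
      ring_nf
      nlinarith [Nat.zero_le (n' * p')]
    · have hB : ψ ∈ Bs Xs δ := by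
        simp only [Bs, Finset.mem_filter]
        exact ⟨hX, h⟩
      rw [D.fx_Bs hB]
      omega
  · by_cases hY : ψ ∈ Ys
    · rw [hY0 ψ hY]
      omega
    · have hZ := D.mem_Zs_of hX hY
      have h1 := D.fx_Zs hZ
      rw [h1] at hd0 ⊢
      have hf : 1 ≤ fx ψ (zpowers z) := by
        rcases Nat.eq_zero_or_pos (fx ψ (zpowers z)) with h | h
        · rw [h, mul_zero] at hd0
          omega
        · exact h
      obtain ⟨f', hf'⟩ : ∃ f', fx ψ (zpowers z) = f' + 1 := ⟨fx ψ (zpowers z) - 1, by omega⟩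
      rw [hf']
      obtain ⟨p', rfl⟩ : ∃ p', p = p' + 3 := ⟨p - 3, by omega⟩
      ring_nf
      nlinarith [Nat.zero_le (f' * p')]

open Classical in
/-- **The tensor square argument.** -/
theorem tensor (hn2 : 2 ≤ n) (hX : ∀ θ ∈ Ys, deg θ = t) (hY0 : ∀ θ ∈ Ys, fx θ (zpowers z) = 0) : s = 1 := by
  have hp3 := D.hp3
  have ht2 := D.ht2
  have hs1 := D.hs1
  obtain ⟨Λ, hΛ⟩ : ∃ Λ : G → ℂ, Λ = ∑ θ ∈ Ys, fun g => (θ : G → ℂ) g * conj ((θ : G → ℂ) g) := ⟨_, rfl⟩
  have hΛc : IsCharacter G Λ := by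
    rw [hΛ]
    exact IsCharacter.sum Ys fun θ _ => IsCharacter.mul (IsIrrCharacter.isCharacter θ.2)
      (IsCharacter.conj_char (IsIrrCharacter.isCharacter θ.2))
  have hΛv : ∀ g, Λ g = ∑ θ ∈ Ys, (θ : G → ℂ) g * conj ((θ : G → ℂ) g) := by
    intro g
    rw [hΛ, Finset.sum_apply]
  obtain ⟨c, hc⟩ := character_eq_sum_nat hΛc
  have hcv : ∀ g, Λ g = ∑ ψ : IrrCharacter G, (c ψ : ℂ) * (ψ : G → ℂ) g := by
    intro g
    rw [hc, Finset.sum_apply]
    rfl
  -- the multiplicity of the principal character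
  have hc1 : c (oneIrr G) = s := by
    have h1 : classInner Λ (fun _ => (1 : ℂ)) = (s : ℂ) := by
      rw [hΛ, classInner_sum_left]
      have h2 : ∀ θ ∈ Ys, classInner (fun g => (θ : G → ℂ) g * conj ((θ : G → ℂ) g)) (fun _ => (1 : ℂ)) = 1 := by
        intro θ _
        have h3 := classInner_irr_self θ.2
        rw [classInner_def] at h3 ⊢
        simpa using h3
      rw [Finset.sum_congr rfl h2, Finset.sum_const, D.hYc]
      simp
    rw [hc, classInner_sum_left] at h1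
    have h2 : ∀ ψ : IrrCharacter G, classInner ((c ψ : ℂ) • (ψ : G → ℂ)) (fun _ => (1 : ℂ)) =
        if ψ = oneIrr G then (c ψ : ℂ) else 0 := by
      intro ψ
      rw [classInner_smul_left, classInner_irr ψ.2 isIrrCharacter_one]
      by_cases h : ψ = oneIrr G
      · rw [if_pos h, if_pos (show (ψ : G → ℂ) = fun _ => 1 by rw [h]; rfl), mul_one]
      · rw [if_neg h, if_neg (show ¬ ((ψ : G → ℂ) = fun _ => 1) from fun h' => h (Subtype.ext h')), mul_zero]
    simp only [h2] at h1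
    rw [Finset.sum_ite_eq' , if_pos (Finset.mem_univ _)] at h1
    exact_mod_cast h1
  -- the degree
  have hI1 : ∑ ψ : IrrCharacter G, c ψ * deg ψ = s * t ^ 2 := by
    have h1 := hcv 1
    rw [hΛv] at h1
    have h2 : ∀ θ ∈ Ys, (θ : G → ℂ) 1 * conj ((θ : G → ℂ) 1) = ((t ^ 2 : ℕ) : ℂ) := by
      intro θ hθ
      rw [(D.hdeg θ).1, hX θ hθ, map_natCast]
      push_cast
      ring
    rw [Finset.sum_congr rfl h2, Finset.sum_const, D.hYc] at h1
    have h3 : ∀ ψ : IrrCharacter G, (c ψ : ℂ) * (ψ : G → ℂ) 1 = ((c ψ * deg ψ : ℕ) : ℂ) := by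
      intro ψ
      rw [(D.hdeg ψ).1]
      push_cast
      rfl
    simp only [h3] at h1
    have h4 : ((s * t ^ 2 : ℕ) : ℂ) = ((∑ ψ : IrrCharacter G, c ψ * deg ψ : ℕ) : ℂ) := by
      rw [Nat.cast_sum, ← h1]
      simp
    exact_mod_cast h4.symm
  -- the fixed dimension
  have hI2 : ∑ ψ : IrrCharacter G, c ψ * fx ψ (zpowers z) + 1 = p := by
    have h1 : ∑ g ∈ Finset.univ.filter (fun g : G => g ∈ zpowers z), Λ g =
        (p : ℂ) * ∑ ψ : IrrCharacter G, (c ψ : ℂ) * (fx ψ (zpowers z) : ℂ) := by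
      simp only [hcv]
      rw [Finset.sum_comm, Finset.mul_sum]
      refine Finset.sum_congr rfl fun ψ _ => ?_
      rw [← Finset.mul_sum, fx_sum, D.card_P]
      ring
    have h2 : Finset.univ.filter (fun g : G => g ∈ zpowers z) =
        insert 1 (Finset.univ.filter (fun u : G => u ∈ zpowers z ∧ u ≠ 1)) := by
      ext u
      simp only [Finset.mem_filter, Finset.mem_univ, true_and, Finset.mem_insert]
      constructor
      · intro h
        by_cases hu : u = 1
        · exact Or.inl hu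
        · exact Or.inr ⟨h, hu⟩
      · rintro (h | h)
        · rw [h]
          exact one_mem _
        · exact h.1
    rw [h2, Finset.sum_insert (by simp)] at h1
    have e1 : Λ 1 = (s : ℂ) * (t : ℂ) ^ 2 := by
      rw [hΛv]
      have h3 : ∀ θ ∈ Ys, (θ : G → ℂ) 1 * conj ((θ : G → ℂ) 1) = (t : ℂ) ^ 2 := by
        intro θ hθ
        rw [(D.hdeg θ).1, hX θ hθ, map_natCast]
        ring
      rw [Finset.sum_congr rfl h3, Finset.sum_const, D.hYc]
      simp
    have e2 : ∑ u ∈ Finset.univ.filter (fun u : G => u ∈ zpowers z ∧ u ≠ 1), Λ u =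
        ((p : ℂ) - 1) * ((p : ℂ) - t) := by
      have h3 : ∀ u ∈ Finset.univ.filter (fun u : G => u ∈ zpowers z ∧ u ≠ 1), Λ u = (p : ℂ) - t := by
        intro u hu
        rw [Finset.mem_filter] at hu
        rw [hΛv, D.sum_Ys_col hu.2.1 hu.2.2]
      rw [Finset.sum_congr rfl h3, Finset.sum_const, nsmul_eq_mul]
      have h4 := card_Pn D.hz D.hp
      have h5 : ((Finset.univ.filter (fun u : G => u ∈ zpowers z ∧ u ≠ 1)).card : ℂ) = (p : ℂ) - 1 := by
        rw [← h4]
        push_cast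
        ring
      rw [h5]
    rw [e1, e2] at h1
    have hst : (s : ℂ) * t + 1 = p := by exact_mod_cast D.hst
    have hp0 : (p : ℂ) ≠ 0 := D.hp1z
    have h3 : ∑ ψ : IrrCharacter G, (c ψ : ℂ) * (fx ψ (zpowers z) : ℂ) = (p : ℂ) - 1 := by
      apply mul_left_cancel₀ hp0
      rw [← h1]
      have e3 : (p : ℂ) - 1 = (s : ℂ) * t := by rw [← hst]; ring
      rw [e3]
      rw [← hst]
      ring
    have h4 : ((∑ ψ : IrrCharacter G, c ψ * fx ψ (zpowers z) + 1 : ℕ) : ℂ) = (p : ℂ) := by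
      push_cast
      rw [h3]
      ring
    exact_mod_cast h4
  -- removing the principal character
  obtain ⟨E, hE⟩ : ∃ E, E = (Finset.univ : Finset (IrrCharacter G)).erase (oneIrr G) := ⟨_, rfl⟩
  have hsplit : ∀ f : IrrCharacter G → ℕ, ∑ ψ, f ψ = f (oneIrr G) + ∑ ψ ∈ E, f ψ := by
    intro f
    rw [hE, Finset.add_sum_erase _ _ (Finset.mem_univ _)]
  rw [hsplit, hc1, D.deg_one', mul_one] at hI1
  rw [hsplit, hc1, D.fx_one, mul_one] at hI2
  have hbound : ∑ ψ ∈ E, c ψ * ((p + 1) * fx ψ (zpowers z) + 1) ≤ ∑ ψ ∈ E, c ψ * (2 * deg ψ) := by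
    refine Finset.sum_le_sum fun ψ hψ => Nat.mul_le_mul_left _ ?_
    rw [hE] at hψ
    exact D.ratio hn2 hY0 (Finset.ne_of_mem_erase hψ)
  have e1 : ∑ ψ ∈ E, c ψ * ((p + 1) * fx ψ (zpowers z) + 1) =
      (p + 1) * ∑ ψ ∈ E, c ψ * fx ψ (zpowers z) + ∑ ψ ∈ E, c ψ := by
    rw [Finset.mul_sum, ← Finset.sum_add_distrib]
    refine Finset.sum_congr rfl fun ψ _ => ?_
    ring
  have e2 : ∑ ψ ∈ E, c ψ * (2 * deg ψ) = 2 * ∑ ψ ∈ E, c ψ * deg ψ := by
    rw [Finset.mul_sum]
    refine Finset.sum_congr rfl fun ψ _ => ?_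
    ring
  rw [e1, e2] at hbound
  have hC1 : 1 ≤ ∑ ψ ∈ E, c ψ := by
    by_contra hlt
    have h0 : ∑ ψ ∈ E, c ψ = 0 := by omega
    have h1 := Finset.sum_eq_zero_iff.mp h0
    have h2 : ∑ ψ ∈ E, c ψ * deg ψ = 0 :=
      Finset.sum_eq_zero fun ψ hψ => by rw [h1 ψ hψ, zero_mul]
    rw [h2, add_zero] at hI1
    have h3 : s * 1 < s * t ^ 2 := by
      apply Nat.mul_lt_mul_of_pos_left _ (by omega)
      nlinarith
    omega
  -- the arithmetic
  by_contra hs2
  have hs2' : 2 ≤ s := by omega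
  have hsz : (2 : ℤ) ≤ s := by exact_mod_cast hs2'
  have htz : (2 : ℤ) ≤ t := by exact_mod_cast ht2
  have hpz : (p : ℤ) = s * t + 1 := by exact_mod_cast D.hst.symm
  obtain ⟨F, hF⟩ : ∃ F, F = ∑ ψ ∈ E, c ψ * fx ψ (zpowers z) := ⟨_, rfl⟩
  obtain ⟨Dd, hDd⟩ : ∃ Dd, Dd = ∑ ψ ∈ E, c ψ * deg ψ := ⟨_, rfl⟩
  rw [← hF] at hbound hI2
  rw [← hDd] at hbound hI1
  have h1 : (s : ℤ) + F + 1 = p := by exact_mod_cast hI2
  have h2 : (s : ℤ) + Dd = s * t ^ 2 := by exact_mod_cast hI1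
  have h3 : ((p : ℤ) + 1) * F + 1 ≤ 2 * Dd := by
    have : (p + 1) * F + 1 ≤ 2 * Dd := by omega
    exact_mod_cast this
  have hFz : (F : ℤ) = s * (t - 1) := by linarith
  have hDz : (Dd : ℤ) = s * (t ^ 2 - 1) := by linarith
  rw [hFz, hDz, hpz] at h3
  have h4 : (0 : ℤ) ≤ (s : ℤ) * (t - 1) * t * (s - 2) := by
    apply mul_nonneg (mul_nonneg (mul_nonneg _ _) _) <;> linarith
  nlinarith

open Classical in
/-- **The main dichotomy.** -/
theorem dichotomy {X : ℕ} {θ₀ : IrrCharacter G} (hθ₀ : θ₀ ∈ Ys) (hX : ∀ θ ∈ Ys, deg θ = X) :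
    (n = 1 ∧ 2 ≤ s) ∨ (3 ≤ s ∧ n + 1 = s ∧ t = 2 ∧ X + 2 = p ∧ ε = -1 ∧ (As Xs δ).card = 0 ∧
      (Bs Xs δ).card = 1) := by
  obtain ⟨hZ, hK⟩ := D.struct hθ₀ hX
  have hn1 := D.hn1
  by_cases htodd : Odd t
  · -- the normalizer has odd order
    rcases hK with ⟨hε, hXt, hab⟩ | ⟨K, hK1, hε, hXt, hnK, hsX, htK, hbK⟩
    · left
      have hpodd : Odd p := D.hp.odd_of_ne_two D.hp_odd
      have hs1 : s ≠ 1 := by
        rintro rfl
        have h1 := D.hst
        rw [one_mul] at h1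
        have h2 : Even (t + 1) := htodd.add_one
        rw [h1] at h2
        exact (Nat.not_even_iff_odd.mpr hpodd) h2
      have hs2 : 2 ≤ s := by
        have := D.hs1
        omega
      refine ⟨?_, hs2⟩
      by_contra hn
      have hn2 : 2 ≤ n := by omega
      apply hs1
      refine D.tensor hn2 (fun θ hθ => by rw [hX θ hθ, hXt]) (fun θ hθ => ?_)
      have h1 := D.fx_Ys hθ
      rw [hX θ hθ, hε, hXt] at h1
      have h2 : (p : ℤ) * (fx θ (zpowers z) : ℤ) = p * 0 := by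
        rw [h1]
        ring
      have hp0 : (p : ℤ) ≠ 0 := by exact_mod_cast D.hp.pos.ne'
      have h3 := mul_left_cancel₀ hp0 h2
      exact_mod_cast h3
    · exact (D.odd_K hθ₀ hX hZ htodd hK1 hε hXt hnK hsX htK).elim
  · -- an involution in the normalizer
    rw [Nat.not_odd_iff_even] at htodd
    have h2N : 2 ∣ Nat.card (Nz z) := by
      rw [D.hNcard]
      exact Dvd.dvd.mul_right htodd.two_dvd _
    haveI : Fact (Nat.Prime 2) := ⟨Nat.prime_two⟩
    obtain ⟨y, hy⟩ := exists_prime_orderOf_dvd_card' 2 h2N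
    have hyo : orderOf (y : G) = 2 := by
      rw [Subgroup.orderOf_coe]
      exact hy
    have hy2 : (y : G) * y = 1 := by
      rw [← sq, ← hyo]
      exact pow_orderOf_eq_one _
    have hy1 : (y : G) ≠ 1 := by
      intro h
      rw [h, orderOf_one] at hyo
      omega
    rcases D.even_final hθ₀ hX y.2 hy2 hy1 with ⟨h1, h2⟩ | h
    · left
      exact ⟨h1, by omega⟩
    · exact Or.inr h

end BRD

end Cfsg.Agent.Lib.BR
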