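import Cfsg.Agent.Lib.BR.Tens2

/-!
# The block data for the groups of order `p * r * q ^ b`
-/

set_option autoImplicit false
set_option linter.unusedSectionVars false
set_option linter.style.haveILetI false
set_option linter.unusedSimpArgs false
set_option linter.unnecessarySimpa false
set_option linter.unusedVariables false
set_option maxSynthPendingDepth 3

open scoped ComplexConjugate
open Subgroup

namespace Cfsg.Agent.Lib.BR

open Cfsg (classInner IsCharacter IsIrrCharacter IrrCharacter IsClassFunction indFun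
  extendByZero IsGeneralizedCharacter IsPModular principalBlock)
open Cfsg.Agent.Lib.Char
open Cfsg.Agent.Lib.Block hiding tr
open Cfsg.Agent.Lib.SmallSimple.BB
open Cfsg.Agent.Lib.FF

universe u

variable {G : Type u} [Group G] {p : ℕ} {z : G}

/-- The cyclic group generated by an element of order `p` is a Sylow subgroup if `p ^ 2` does not divide the order. -/
theorem exists_sylow_of_sq [Finite G] [hfp : Fact p.Prime] (hz : orderOf z = p) (hsq : ¬ p ^ 2 ∣ Nat.card G) :
    ∃ Q : Sylow p G, (Q : Subgroup G) = zpowers z ∧ Nat.card (Q : Subgroup G) = p := by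
  have hpr := hfp.out
  have hzp : IsPGroup p (zpowers z) := by
    apply IsPGroup.of_card (n := 1)
    rw [Nat.card_zpowers, hz, pow_one]
  obtain ⟨Q, hQ⟩ := hzp.exists_le_sylow
  obtain ⟨k, hk⟩ := IsPGroup.iff_card.mp Q.isPGroup'
  have hk1 : k ≤ 1 := by
    by_contra h
    apply hsq
    refine dvd_trans (pow_dvd_pow p (by omega : 2 ≤ k)) ?_
    rw [← hk]
    exact Subgroup.card_subgroup_dvd_card _
  have hle : Nat.card (Q : Subgroup G) ≤ p := by
    rw [hk]
    calc p ^ k ≤ p ^ 1 := Nat.pow_le_pow_right hpr.pos hk1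
      _ = p := pow_one p
  have h1 : zpowers z = (Q : Subgroup G) := by
    apply Subgroup.eq_of_le_of_card_ge hQ
    rw [Nat.card_zpowers, hz]
    exact hle
  refine ⟨Q, h1.symm, ?_⟩
  rw [← h1, Nat.card_zpowers, hz]

section Main

variable [Fintype G] [IsSimpleGroup G] {q r b : ℕ}

open _root_.Classical in
/-- **The block data** of a simple group of order `p * r * q ^ b`. -/
theorem main_data (hnc : ¬ IsMulCommutative G) (hp : p.Prime) (hq : q.Prime) (hr : r.Prime) (hqr : q < r) (hrp : r < p)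
    (hcard : Nat.card G = p * r * q ^ b) (hz : orderOf z = p) :
    ∃ (t s : ℕ) (X Y : Finset (IrrCharacter G)) (δ : IrrCharacter G → ℤ) (ε : ℤ) (deg : IrrCharacter G → ℕ)
      (M : Ideal Cfsg.AlgInt), IsPModular p M ∧ BD0 p z t s X Y δ ε deg ∧
        (∀ χ : IrrCharacter G, χ ∈ principalBlock M G ↔ χ ∈ X ∨ χ ∈ Y) ∧
        (∀ θ ∈ Y, deg θ = r) ∧ ((ε = 1 ∧ r = t) ∨ (ε = -1 ∧ r + t = p)) ∧ 2 ≤ t ∧ 2 ≤ s ∧
        (∀ χ ∈ X, χ ≠ oneIrr G → q ∣ deg χ) ∧
        Nat.card (normalizer ((zpowers z : Subgroup G) : Set G)) = t * p := by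
  haveI hfp : Fact p.Prime := ⟨hp⟩
  have hq2 := hq.two_le
  have hr3 : 3 ≤ r := by omega
  have hrodd : r % 2 = 1 := by
    rcases hr.eq_two_or_odd with h | h
    · omega
    · exact h
  have hpodd : p % 2 = 1 := by
    rcases hp.eq_two_or_odd with h | h
    · omega
    · exact h
  have hrp1 : r + 1 < p := by omega
  have hcopq : Nat.Coprime p q := (Nat.coprime_primes hp hq).2 (by omega)
  have hcoppr : Nat.Coprime p r := (Nat.coprime_primes hp hr).2 (by omega)
  have hsq : ¬ p ^ 2 ∣ Nat.card G := by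
    rw [hcard, pow_two, mul_assoc]
    intro h
    have h1 : p ∣ r * q ^ b := Nat.dvd_of_mul_dvd_mul_left hp.pos h
    have h2 : Nat.Coprime p (r * q ^ b) := Nat.Coprime.mul_right hcoppr (hcopq.pow_right b)
    have h3 := Nat.Coprime.eq_one_of_dvd h2 h1
    exact hp.one_lt.ne h3.symm
  obtain ⟨Q, hQ, hQc⟩ := exists_sylow_of_sq hz hsq
  obtain ⟨e, he1, he2, hN⟩ := Lib.SmallSimple.BA.norm_data hnc Q hQc hz hQ.symm
  obtain ⟨M, hM⟩ := exists_isPModular p hp
  obtain ⟨X, Y, δ, ε, deg, hdeg, hB, hdisj, hXc, hYt, he0, hXd, hε, hYdeg, hYeq, hrel, hYsum⟩ :=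
    block_ext hM hz hsq e hN
  have he22 : 2 ≤ e := by omega
  have hst : Y.card * e + 1 = p := by
    have := hp.two_le
    omega
  have hY0 : 1 ≤ Y.card := by
    rcases Nat.eq_zero_or_pos Y.card with h | h
    · rw [h] at hst
      omega
    · exact h
  have hep : e < p := by
    have : 1 * e ≤ Y.card * e := Nat.mul_le_mul_right e hY0
    omega
  have hdeg1 : ∀ χ : IrrCharacter G, deg χ = 1 → χ = oneIrr G := by
    intro χ hd
    by_contra h
    apply Lib.SmallSimple.QC.deg_ne_one hnc h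
    rw [(hdeg χ).1, hd]
    simp
  have hdegone : deg (oneIrr G) = 1 := by
    have h1 : ((oneIrr G : IrrCharacter G) : G → ℂ) 1 = 1 := rfl
    have h2 := (hdeg (oneIrr G)).1
    rw [h1] at h2
    exact_mod_cast h2.symm
  -- degrees prime to `q` and to `p`
  have hdvdr : ∀ χ : IrrCharacter G, ¬ q ∣ deg χ → ¬ p ∣ deg χ → deg χ = 1 ∨ deg χ = r := by
    intro χ h1 h2
    have h3 := (hdeg χ).2.2
    rw [hcard] at h3
    have h4 : Nat.Coprime (deg χ) (q ^ b) := Nat.Coprime.pow_right b (((Nat.Prime.coprime_iff_not_dvd hq).2 h1).symm)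
    have h5 : deg χ ∣ p * r := h4.dvd_of_dvd_mul_right h3
    have h6 : Nat.Coprime (deg χ) p := ((Nat.Prime.coprime_iff_not_dvd hp).2 h2).symm
    have h7 : deg χ ∣ r := h6.dvd_of_dvd_mul_left h5
    exact (Nat.dvd_prime hr).1 h7
  have hpz : (2 : ℤ) < p := by
    have : 2 < p := by omega
    exact_mod_cast this
  have hXq : ∀ χ ∈ X, χ ≠ oneIrr G → q ∣ deg χ := by
    intro χ hχ h1
    by_contra hnq
    obtain ⟨h2, h3, -⟩ := hXd χ hχ
    have h4 : ¬ p ∣ deg χ := by
      intro hd
      have h5 : (p : ℤ) ∣ (deg χ : ℤ) := by exact_mod_cast hd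
      have h6 : (p : ℤ) ∣ δ χ := (Int.ModEq.dvd_iff h3).1 h5
      rcases h2 with h7 | h7 <;> rw [h7] at h6
      · have := Int.le_of_dvd (by norm_num) h6
        omega
      · have := Int.le_of_dvd (by norm_num) ((dvd_neg).2 h6)
        omega
    rcases hdvdr χ hnq h4 with h5 | h5
    · exact h1 (hdeg1 χ h5)
    · rw [h5] at h3
      have h6 := Int.modEq_iff_dvd.mp h3
      rcases h2 with h7 | h7 <;> rw [h7] at h6
      · have h8 : (p : ℤ) ∣ (r : ℤ) - 1 := by
          have e1 : (r : ℤ) - 1 = -(1 - (r : ℤ)) := by ring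
          rw [e1]
          exact (dvd_neg).2 h6
        have h9 : (0 : ℤ) < (r : ℤ) - 1 := by
          have : (3 : ℤ) ≤ r := by exact_mod_cast hr3
          omega
        have := Int.le_of_dvd h9 h8
        have h10 : (r : ℤ) < p := by exact_mod_cast hrp
        omega
      · have h8 : (p : ℤ) ∣ (r : ℤ) + 1 := by
          have e1 : (r : ℤ) + 1 = -(-1 - (r : ℤ)) := by ring
          rw [e1]
          exact (dvd_neg).2 h6
        have h9 : (0 : ℤ) < (r : ℤ) + 1 := by
          have : (3 : ℤ) ≤ r := by exact_mod_cast hr3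
          omega
        have := Int.le_of_dvd h9 h8
        have h10 : (r : ℤ) + 1 < p := by exact_mod_cast hrp1
        omega
  -- the relation at the identity
  have hrel1 : ∀ θ ∈ Y, ε * (deg θ : ℤ) = ∑ χ ∈ X, δ χ * (deg χ : ℤ) := by
    intro θ hθ
    have h1 := hrel θ hθ 1 (by simpa using hp.one_lt.ne')
    rw [(hdeg θ).1] at h1
    have h2 : ∀ χ ∈ X, (δ χ : ℂ) * (χ : G → ℂ) 1 = ((δ χ * (deg χ : ℤ) : ℤ) : ℂ) := by
      intro χ _
      rw [(hdeg χ).1]
      push_cast
      ring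
    rw [Finset.sum_congr rfl h2] at h1
    have h3 : ((ε * (deg θ : ℤ) : ℤ) : ℂ) = ((∑ χ ∈ X, δ χ * (deg χ : ℤ) : ℤ) : ℂ) := by
      push_cast at h1 ⊢
      exact h1
    exact_mod_cast h3
  have hqz : ∀ (A : Finset (IrrCharacter G)), (∀ χ ∈ A, χ ≠ oneIrr G) → A ⊆ X →
      (q : ℤ) ∣ ∑ χ ∈ A, δ χ * (deg χ : ℤ) := by
    intro A hA hAX
    apply Finset.dvd_sum
    intro χ hχ
    apply Dvd.dvd.mul_left
    exact_mod_cast hXq χ (hAX hχ) (hA χ hχ)
  have hε1' : ∀ n : ℤ, (q : ℤ) ∣ ε * n → (q : ℤ) ∣ n := by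
    intro n h
    rcases hε with h1 | h1 <;> rw [h1] at h
    · simpa using h
    · simpa using h
  have hqnu : ¬ (q : ℤ) ∣ 1 := by
    intro h
    have := Int.le_of_dvd (by norm_num) h
    have h2 : (2 : ℤ) ≤ q := by exact_mod_cast hq2
    omega
  -- the trivial character is non-exceptional
  haveI hMp : M.IsPrime := hM.2.1.isPrime
  have hX1 : oneIrr G ∈ X := by
    by_contra hX1
    have hY1 : oneIrr G ∈ Y := ((hB _).1 (mem_blockOf_self (oneIrr G))).resolve_left hX1
    have h1 := hrel1 _ hY1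
    rw [hdegone] at h1
    have h2 := hqz X (fun χ hχ h => hX1 (h ▸ hχ)) (Finset.Subset.refl _)
    rw [← h1] at h2
    have h3 := hε1' _ h2
    exact hqnu (by simpa using h3)
  have hδ1 : δ (oneIrr G) = 1 := by
    obtain ⟨h1, h2, -⟩ := hXd _ hX1
    rw [hdegone] at h2
    rcases h1 with h1 | h1
    · exact h1
    · exfalso
      rw [h1] at h2
      have h3 := Int.modEq_iff_dvd.mp h2.symm
      have e1 : ((1 : ℕ) : ℤ) - -1 = 2 := by norm_num
      rw [e1] at h3
      have := Int.le_of_dvd (by norm_num) h3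
      omega
  -- the degree of the exceptional characters
  have hYd : ∀ θ ∈ Y, deg θ = r := by
    intro θ hθ
    have h1 := hrel1 θ hθ
    rw [← Finset.add_sum_erase _ _ hX1, hδ1, hdegone] at h1
    have h2 := hqz (X.erase (oneIrr G)) (fun χ hχ => Finset.ne_of_mem_erase hχ) (Finset.erase_subset _ _)
    have h3 : ¬ q ∣ deg θ := by
      intro hd
      have h4 : (q : ℤ) ∣ ε * (deg θ : ℤ) := Dvd.dvd.mul_left (by exact_mod_cast hd) _
      rw [h1] at h4
      have h5 := (Int.dvd_add_left h2).1 h4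
      simp at h5
      exact hqnu (by simpa using h5)
    have h4 : ¬ p ∣ deg θ := by
      intro hd
      have h5 : (p : ℤ) ∣ (deg θ : ℤ) := by exact_mod_cast hd
      have h6 : (p : ℤ) ∣ ε * (e : ℤ) := (Int.ModEq.dvd_iff (hYdeg θ hθ)).1 h5
      have h7 : (p : ℤ) ∣ (e : ℤ) := by
        rcases hε with h8 | h8 <;> rw [h8] at h6
        · simpa using h6
        · simpa using h6
      have h8 : p ∣ e := by exact_mod_cast h7
      have := Nat.le_of_dvd he0 h8
      omega
    rcases hdvdr θ h3 h4 with h5 | h5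
    · exfalso
      have h6 := hdeg1 θ h5
      rw [h6] at hθ
      exact (Finset.disjoint_left.mp hdisj hX1) hθ
    · exact h5
  obtain ⟨θ₀, hθ₀⟩ : Y.Nonempty := by
    rw [← Finset.card_pos]
    exact hY0
  -- the sign
  have hsign : (ε = 1 ∧ r = e) ∨ (ε = -1 ∧ r + e = p) := by
    have h1 := hYdeg θ₀ hθ₀
    rw [hYd θ₀ hθ₀] at h1
    have h2 := Int.modEq_iff_dvd.mp h1
    have hez : (e : ℤ) < p := by exact_mod_cast hep
    have hrz : (r : ℤ) < p := by exact_mod_cast hrp
    have he0z : (0 : ℤ) < e := by exact_mod_cast he0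
    have hr0z : (0 : ℤ) < r := by exact_mod_cast hr.pos
    rcases hε with h3 | h3
    · left
      refine ⟨h3, ?_⟩
      rw [h3, one_mul] at h2
      obtain ⟨c, hc⟩ := h2
      have h4 : c = 0 := by
        by_contra h5
        rcases lt_or_gt_of_ne h5 with h6 | h6
        · have h7 : c ≤ -1 := by omega
          have h8 : (p : ℤ) * c ≤ p * (-1) := mul_le_mul_of_nonneg_left h7 (by omega)
          omega
        · have h7 : 1 ≤ c := by omega
          have h8 : (p : ℤ) * 1 ≤ p * c := mul_le_mul_of_nonneg_left h7 (by omega)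
          omega
      rw [h4, mul_zero] at hc
      have h5 : (r : ℤ) = e := by omega
      exact_mod_cast h5
    · right
      refine ⟨h3, ?_⟩
      rw [h3] at h2
      obtain ⟨c, hc⟩ := h2
      have hc' : (e : ℤ) + r = (p : ℤ) * -c := by linear_combination -hc
      have h4 : -c = 1 := by
        by_contra h5
        rcases lt_or_gt_of_ne h5 with h6 | h6
        · have h7 : -c ≤ 0 := by omega
          have h8 : (p : ℤ) * (-c) ≤ p * 0 := mul_le_mul_of_nonneg_left h7 (by omega)
          omega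
        · have h7 : 2 ≤ -c := by omega
          have h8 : (p : ℤ) * 2 ≤ p * (-c) := mul_le_mul_of_nonneg_left h7 (by omega)
          omega
      rw [h4, mul_one] at hc'
      have h5 : (r : ℤ) + e = p := by omega
      exact_mod_cast h5
  have hs2 : 2 ≤ Y.card := by
    by_contra h
    have h1 : Y.card = 1 := by omega
    rw [h1, one_mul] at hst
    rcases hsign with ⟨-, h2⟩ | ⟨-, h2⟩ <;> omega
  -- the centralizer
  have hθ₀1 : θ₀ ≠ oneIrr G := by
    intro h
    rw [h] at hθ₀
    exact (Finset.disjoint_left.mp hdisj hX1) hθ₀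
  have hC : centralizer ({z} : Set G) = zpowers z := by
    apply cent_of_reg hp hz hsq
    intro y hy hyo
    refine reg_of_exceptional (e := e) hM hz hsq θ₀ ((hB θ₀).2 (Or.inr hθ₀)) hθ₀1 (D := r) (by
      rw [(hdeg θ₀).1, hYd θ₀ hθ₀]) ?_ y hy hyo
    rw [hYsum θ₀ hθ₀]
    rcases hsign with ⟨h1, h2⟩ | ⟨h1, h2⟩
    · left
      rw [h1, h2]
      simp
    · right
      rw [h1]
      refine ⟨by simp, h2, he0⟩
  have hrest : ∀ χ : IrrCharacter G, χ ∉ X → χ ∉ Y → ∀ u : G, u ∈ zpowers z → u ≠ 1 →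
      (χ : G → ℂ) u = 0 := by
    intro χ h1 h2 u hu hu1
    refine vanish_outside hM hz hC hsq χ ?_ hu hu1
    rw [hB]
    rintro (h | h)
    · exact h1 h
    · exact h2 h
  have hNc : Nat.card (normalizer ((zpowers z : Subgroup G) : Set G)) = e * p := by
    rw [hN, hC, Nat.card_zpowers, hz]
  refine ⟨e, Y.card, X, Y, δ, ε, deg, M, hM, ⟨hp, hz, hC, hst, hdeg, hdeg1, hdisj, hXc, rfl, hX1, hδ1,
    fun χ hχ => (hXd χ hχ).1, fun χ hχ => (hXd χ hχ).2.1, fun χ hχ => (hXd χ hχ).2.2, hrest, hε, hYdeg, hYeq, hrel,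
    hYsum⟩, hB, hYd, ?_, he22, hs2, hXq, hNc⟩
  rcases hsign with h | h
  · exact Or.inl h
  · exact Or.inr h

end Main

end Cfsg.Agent.Lib.BR
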