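import Cfsg.Agent.S0999
import Cfsg.Agent.Lib.BR.Tens3
import Cfsg.Agent.Lib.Classical.Basic
import Mathlib

/-!
# Perfect groups of order less than `p ^ 3`

The reduction of the theorem of Brauer and Reynolds for perfect groups to the simple case.
-/

set_option autoImplicit false
set_option linter.unusedSectionVars false
set_option linter.style.haveILetI false
set_option linter.unusedSimpArgs false
set_option linter.unnecessarySimpa false
set_option linter.unusedVariables false

open Cfsg

namespace Cfsg.Agent.Lib.BR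

open Subgroup
open scoped commutatorElement

universe u

/-- A perfect group whose order is divisible by `p` at most once has no abelian normal subgroup of
order divisible by `p`. -/
theorem no_abelian_normal {Y : Type*} [Group Y] [Finite Y] (hperf : commutator Y = ⊤) {p : ℕ}
    [hfp : Fact p.Prime] (hsq : ¬ p ^ 2 ∣ Nat.card Y) (L : Subgroup Y) [hL : L.Normal]
    (hab : ∀ a ∈ L, ∀ b ∈ L, a * b = b * a) (hd : p ∣ Nat.card L) : False := by
  classical
  obtain ⟨w, hw⟩ := exists_prime_orderOf_dvd_card' p hd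
  have hz : orderOf (w : Y) = p := by rw [Subgroup.orderOf_coe]; exact hw
  obtain ⟨Q, hQ, hQc⟩ := exists_sylow_of_sq hz hsq
  have hQL : (Q : Subgroup Y) ≤ L := by
    rw [hQ, zpowers_le]
    exact w.2
  have hN : normalizer ((Q : Subgroup Y) : Set Y) = ⊤ := by
    have h1 : normalizer ((Q : Subgroup Y) : Set Y) ⊔ L = ⊤ := Sylow.normalizer_sup_eq_top' Q hQL
    have h2 : L ≤ normalizer ((Q : Subgroup Y) : Set Y) := by
      intro l hl
      rw [mem_normalizer_iff]
      intro h
      constructor
      · intro hh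
        have h3 : l * h * l⁻¹ = h := by
          rw [hab l hl h (hQL hh)]
          group
        rw [h3]
        exact hh
      · intro hh
        have h5 : l⁻¹ * (l * h * l⁻¹) * l = h := by group
        have h4 : h ∈ L := by
          rw [← h5]
          exact L.mul_mem (L.mul_mem (L.inv_mem hl) (hQL hh)) hl
        have h6 : l * h * l⁻¹ = h := by
          rw [hab l hl h h4]
          group
        rw [h6] at hh
        exact hh
    rw [sup_eq_left.mpr h2] at h1
    exact h1
  have hQn : (Q : Subgroup Y).Normal := normalizer_eq_top_iff.mp hN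
  have hcyc : IsCyclic (Q : Subgroup Y) := by
    rw [hQ]
    infer_instance
  have hMC : ∀ α β : MulAut (Q : Subgroup Y), α * β = β * α := by
    intro α β
    apply (IsCyclic.mulAutMulEquiv (Q : Subgroup Y)).injective
    rw [map_mul, map_mul, mul_comm]
  have hcent : ∀ y : Y, ∀ q ∈ (Q : Subgroup Y), y * q * y⁻¹ = q := by
    intro y q hq
    have h1 : commutator Y ≤ (MulAut.conjNormal (H := (Q : Subgroup Y))).ker := by
      rw [_root_.commutator_def, Subgroup.commutator_le]
      intro a _ b _
      rw [MonoidHom.mem_ker, map_commutatorElement, commutatorElement_eq_one_iff_commute]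
      exact hMC _ _
    rw [hperf] at h1
    have h2 : y ∈ (MulAut.conjNormal (H := (Q : Subgroup Y))).ker := h1 (mem_top y)
    rw [MonoidHom.mem_ker] at h2
    have h3 := congrArg (fun f : MulAut (Q : Subgroup Y) => ((f ⟨q, hq⟩ : (Q : Subgroup Y)) : Y)) h2
    simpa using h3
  have hNC : normalizer ((Q : Subgroup Y) : Set Y) ≤ centralizer ((Q : Subgroup Y) : Set Y) := by
    intro y _
    rw [Subgroup.mem_centralizer_iff]
    intro q hq
    have h1 := hcent y q hq
    calc q * y = (y * q * y⁻¹) * y := by rw [h1]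
      _ = y * q := by group
  have hcomp := MonoidHom.ker_transferSylow_isComplement' Q hNC
  have hcommQ : ∀ a b : (Q : Subgroup Y), a * b = b * a := by
    intro a b
    apply Subtype.ext
    have h1 := hcent (a : Y) b b.2
    push_cast
    calc (a : Y) * (b : Y) = ((a : Y) * b * (a : Y)⁻¹) * a := by group
      _ = b * a := by rw [h1]
  have hk : commutator Y ≤ (MonoidHom.transferSylow Q hNC).ker := by
    rw [_root_.commutator_def, Subgroup.commutator_le]
    intro a _ b _
    rw [MonoidHom.mem_ker, map_commutatorElement, commutatorElement_eq_one_iff_commute]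
    exact hcommQ _ _
  rw [hperf, top_le_iff] at hk
  have h5 := hcomp.card_mul_card
  rw [hk, Subgroup.card_top, hQc] at h5
  have hpos : 0 < Nat.card Y := Nat.card_pos
  have h6 := hfp.out.two_le
  have h7 : Nat.card Y * 1 < Nat.card Y * p := Nat.mul_lt_mul_of_pos_left (by omega) hpos
  omega

/-- Quotients of perfect groups are perfect. -/
theorem perfect_quot {X : Type*} [Group X] (hperf : commutator X = ⊤) (D : Subgroup X) [D.Normal] :
    commutator (X ⧸ D) = ⊤ := by
  have h1 : (⊤ : Subgroup X).map (QuotientGroup.mk' D) = ⊤ :=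
    Subgroup.map_top_of_surjective _ (QuotientGroup.mk'_surjective D)
  rw [_root_.commutator_def, ← h1, ← Subgroup.map_commutator, ← _root_.commutator_def, hperf]

/-- A normal subgroup with abelian quotient by a `p'`-group cannot have order divisible by `p`. -/
theorem dvd_card_commutator {X : Type*} [Group X] [Finite X] (hperf : commutator X = ⊤) {p : ℕ}
    [hfp : Fact p.Prime] (hsq : ¬ p ^ 2 ∣ Nat.card X) (L : Subgroup X) [hL : L.Normal]
    (hd : p ∣ Nat.card L) : p ∣ Nat.card (⁅L, L⁆ : Subgroup X) := by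
  by_contra hnd
  set D : Subgroup X := ⁅L, L⁆ with hD
  haveI hDn : D.Normal := Subgroup.commutator_normal L L
  have hY := perfect_quot hperf D
  have hsqY : ¬ p ^ 2 ∣ Nat.card (X ⧸ D) := by
    intro h
    apply hsq
    rw [Subgroup.card_eq_card_quotient_mul_card_subgroup D]
    exact Dvd.dvd.mul_right h _
  haveI hLb : (L.map (QuotientGroup.mk' D)).Normal :=
    Subgroup.Normal.map hL _ (QuotientGroup.mk'_surjective D)
  refine no_abelian_normal hY hsqY (L.map (QuotientGroup.mk' D)) ?_ ?_
  · rintro _ ⟨a, ha, rfl⟩ _ ⟨b, hb, rfl⟩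
    have h1 : ⁅a, b⁆ ∈ D := Subgroup.commutator_mem_commutator ha hb
    have h2 : (QuotientGroup.mk' D) ⁅a, b⁆ = 1 := by
      rw [MonoidHom.mem_ker.mp (by rw [QuotientGroup.ker_mk']; exact h1)]
    rw [map_commutatorElement, commutatorElement_eq_one_iff_commute] at h2
    exact h2
  · obtain ⟨w, hw⟩ := exists_prime_orderOf_dvd_card' p hd
    have hwo : orderOf (w : X) = p := by rw [Subgroup.orderOf_coe]; exact hw
    have hwD : (w : X) ∉ D := by
      intro hmem
      apply hnd
      rw [← hwo, ← Subgroup.orderOf_mk _ hmem]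
      exact orderOf_dvd_natCard _
    have hne : QuotientGroup.mk' D (w : X) ≠ 1 := by
      intro h
      apply hwD
      have h2 := MonoidHom.mem_ker.mpr h
      rwa [QuotientGroup.ker_mk'] at h2
    have hord : orderOf (QuotientGroup.mk' D (w : X)) = p := by
      apply orderOf_eq_prime _ hne
      rw [← map_pow, ← hwo, pow_orderOf_eq_one, map_one]
    have hmem : QuotientGroup.mk' D (w : X) ∈ L.map (QuotientGroup.mk' D) := ⟨w, w.2, rfl⟩
    rw [← hord, ← Subgroup.orderOf_mk _ hmem]
    exact orderOf_dvd_natCard _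

/-- The perfect form of a normal subgroup minimal with order divisible by `p`. -/
theorem perfect_of_minimal {X : Type*} [Group X] [Finite X] (hperf : commutator X = ⊤) {p : ℕ}
    [hfp : Fact p.Prime] (hsq : ¬ p ^ 2 ∣ Nat.card X) (L : Subgroup X) [hL : L.Normal]
    (hd : p ∣ Nat.card L) (hmin : ∀ N : Subgroup X, N.Normal → p ∣ Nat.card N → N ≤ L → N = L) :
    commutator L = ⊤ := by
  have h1 := dvd_card_commutator hperf hsq L hd
  have h2 : ⁅L, L⁆ = L := hmin _ (Subgroup.commutator_normal L L) h1 (Subgroup.commutator_le_right L L)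
  apply Subgroup.map_injective L.subtype_injective
  rw [Subgroup.map_subtype_commutator, h2, ← MonoidHom.range_eq_map, Subgroup.range_subtype]

/-- Existence of a normal subgroup minimal with order divisible by `p`. -/
theorem exists_minimal_normal {X : Type*} [Group X] [Finite X] {p : ℕ} (hd : p ∣ Nat.card X) :
    ∃ L : Subgroup X, L.Normal ∧ p ∣ Nat.card L ∧
      ∀ N : Subgroup X, N.Normal → p ∣ Nat.card N → N ≤ L → N = L := by
  classical
  have hfin : ({N : Subgroup X | N.Normal ∧ p ∣ Nat.card N}).Finite := Set.toFinite _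
  have hne : ({N : Subgroup X | N.Normal ∧ p ∣ Nat.card N}).Nonempty :=
    ⟨⊤, inferInstance, by rw [Subgroup.card_top]; exact hd⟩
  obtain ⟨L, hL⟩ := hfin.exists_minimal hne
  refine ⟨L, hL.prop.1, hL.prop.2, fun N hN hNd hNL => ?_⟩
  exact le_antisymm hNL (hL.le_of_le ⟨hN, hNd⟩ hNL)

/-- Existence of a maximal proper normal subgroup, with simple quotient. -/
theorem exists_simple_quot {X : Type*} [Group X] [Finite X] [Nontrivial X] :
    ∃ M : Subgroup X, M.Normal ∧ M ≠ ⊤ ∧ (∀ N : Subgroup X, N.Normal → M ≤ N → N = M ∨ N = ⊤) := by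
  classical
  have hfin : ({N : Subgroup X | N.Normal ∧ N ≠ ⊤}).Finite := Set.toFinite _
  have hne : ({N : Subgroup X | N.Normal ∧ N ≠ ⊤}).Nonempty := ⟨⊥, inferInstance, bot_ne_top⟩
  obtain ⟨M, hM⟩ := hfin.exists_maximal hne
  refine ⟨M, hM.prop.1, hM.prop.2, fun N hN hMN => ?_⟩
  by_cases h : N = ⊤
  · exact Or.inr h
  · exact Or.inl (le_antisymm (hM.le_of_ge ⟨hN, h⟩ hMN) hMN)

theorem simple_quot {X : Type*} [Group X] {M : Subgroup X} [hMn : M.Normal] (hM : M ≠ ⊤)
    (hmax : ∀ N : Subgroup X, N.Normal → M ≤ N → N = M ∨ N = ⊤) : IsSimpleGroup (X ⧸ M) := by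
  haveI : Nontrivial (X ⧸ M) := QuotientGroup.nontrivial_iff.mpr hM
  refine ⟨fun N hN => ?_⟩
  have h1 : (N.comap (QuotientGroup.mk' M)).Normal := Subgroup.Normal.comap hN _
  have h2 : M ≤ N.comap (QuotientGroup.mk' M) := by
    intro x hx
    rw [Subgroup.mem_comap]
    have : QuotientGroup.mk' M x = 1 := by
      rw [QuotientGroup.mk'_apply, QuotientGroup.eq_one_iff]
      exact hx
    rw [this]
    exact one_mem _
  rcases hmax _ h1 h2 with h3 | h3
  · left
    rw [eq_bot_iff]
    intro y hy
    obtain ⟨x, rfl⟩ := QuotientGroup.mk'_surjective M y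
    have h4 : x ∈ N.comap (QuotientGroup.mk' M) := hy
    rw [h3] at h4
    rw [Subgroup.mem_bot, QuotientGroup.mk'_apply, QuotientGroup.eq_one_iff]
    exact h4
  · right
    rw [eq_top_iff]
    intro y _
    obtain ⟨x, rfl⟩ := QuotientGroup.mk'_surjective M y
    have h4 : x ∈ N.comap (QuotientGroup.mk' M) := by rw [h3]; trivial
    exact h4

/-- Lower bound of the order in the conclusion of the simple case. -/
theorem card_bound {S : Type*} [Group S] {p : ℕ} (hp : p.Prime)
    (h : (∃ (F : Type) (_ : Field F) (_ : Fintype F), Fintype.card F = p ∧ 3 < p ∧ Nonempty (S ≃* Matrix.ProjectiveSpecialLinearGroup (Fin 2) F)) ∨ (∃ (m : ℕ) (F : Type) (_ : Field F) (_ : Fintype F), Fintype.card F = 2 ^ m ∧ p = 2 ^ m + 1 ∧ 3 < p ∧ Nonempty (S ≃* Matrix.ProjectiveSpecialLinearGroup (Fin 2) F))) :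
    3 < p ∧ p * (p ^ 2 - 1) ≤ 2 * Nat.card S := by
  rcases h with ⟨F, hF, hFf, hc, hp3, ⟨φ⟩⟩ | ⟨m, F, hF, hFf, hc, hpm, hp3, ⟨φ⟩⟩
  · refine ⟨hp3, ?_⟩
    have h1 := Lib.Classical.card_PSL hc 2 (by norm_num)
    rw [Fin.prod_univ_two] at h1
    simp only [Fin.val_zero, Fin.val_one, pow_zero, pow_one] at h1
    have hodd : p % 2 = 1 := by
      rcases hp.eq_two_or_odd with h | h
      · omega
      · exact h
    have hg : Nat.gcd 2 (p - 1) = 2 := by
      apply Nat.gcd_eq_left
      omega
    rw [hg] at h1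
    rw [Nat.card_congr φ.toEquiv]
    have h2 : p ^ 2 - p = p * (p - 1) := by
      rw [Nat.mul_sub, pow_two, mul_one]
    rw [h2] at h1
    have hp1 : 0 < p - 1 := by omega
    have h3 : (p - 1) * (2 * Nat.card (Matrix.ProjectiveSpecialLinearGroup (Fin 2) F)) = (p - 1) * ((p ^ 2 - 1) * p) := by
      calc _ = 2 * ((p - 1) * Nat.card (Matrix.ProjectiveSpecialLinearGroup (Fin 2) F)) := by ring
        _ = (p ^ 2 - 1) * (p * (p - 1)) := h1
        _ = _ := by ring
    have h4 := Nat.eq_of_mul_eq_mul_left hp1 h3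
    rw [h4, mul_comm]
  · refine ⟨hp3, ?_⟩
    have h1 := Lib.Classical.card_PSL hc 2 (by norm_num)
    rw [Fin.prod_univ_two] at h1
    simp only [Fin.val_zero, Fin.val_one, pow_zero, pow_one] at h1
    have hm0 : m ≠ 0 := by
      rintro rfl
      simp at hpm
      omega
    set q := 2 ^ m with hq
    have hq2 : 2 ≤ q := by
      rw [hq]
      calc 2 = 2 ^ 1 := rfl
        _ ≤ 2 ^ m := Nat.pow_le_pow_right (by norm_num) (Nat.pos_of_ne_zero hm0)
    have hqeven : 2 ∣ q := dvd_pow_self 2 hm0
    have hg : Nat.gcd 2 (q - 1) = 1 := by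
      apply (Nat.Prime.coprime_iff_not_dvd Nat.prime_two).mpr
      omega
    rw [hg, one_mul] at h1
    rw [Nat.card_congr φ.toEquiv]
    have h2 : q ^ 2 - q = q * (q - 1) := by
      rw [Nat.mul_sub, pow_two, mul_one]
    rw [h2] at h1
    have hp1 : 0 < q - 1 := by omega
    have h3 : (q - 1) * Nat.card (Matrix.ProjectiveSpecialLinearGroup (Fin 2) F) = (q - 1) * ((q ^ 2 - 1) * q) := by
      calc _ = (q ^ 2 - 1) * (q * (q - 1)) := h1
        _ = _ := by ring
    have h4 := Nat.eq_of_mul_eq_mul_left hp1 h3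
    rw [h4]
    -- `p = q + 1`
    subst hpm
    have e1 : (q + 1) ^ 2 - 1 = q * (q + 2) := by
      have : (q + 1) ^ 2 = q * (q + 2) + 1 := by ring
      omega
    have e2 : q ^ 2 - 1 = (q - 1) * (q + 1) := by
      obtain ⟨r, hr⟩ : ∃ r, q = r + 1 := ⟨q - 1, by omega⟩
      rw [hr]
      have : (r + 1) ^ 2 = (r + 1 - 1) * (r + 1 + 1) + 1 := by
        simp only [Nat.add_sub_cancel]
        ring
      omega
    rw [e1, e2]
    have hq4 : 4 ≤ q := by omega
    obtain ⟨r, hr⟩ : ∃ r, q = r + 4 := ⟨q - 4, by omega⟩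
    rw [hr]
    simp only [show r + 4 - 1 = r + 3 by omega]
    have e3 : 2 * ((r + 3) * (r + 4 + 1) * (r + 4)) = (r + 4 + 1) * ((r + 4) * (r + 4 + 2)) + (r + 5) * (r + 4) * r := by
      ring
    omega


/-- In a group of order less than `p ^ 3` with more than one Sylow `p`-subgroup, the square of `p` does not divide the order. -/
theorem sq_not_dvd {X : Type*} [Group X] [Finite X] {p : ℕ} [hfp : Fact p.Prime] (hbig : Nat.card X < p ^ 3)
    (hn : Nat.card (Sylow p X) ≠ 1) : ¬ p ^ 2 ∣ Nat.card X := by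
  rintro ⟨k, hk⟩
  have hpr := hfp.out
  have hX := Nat.card_pos (α := X)
  have hk0 : 0 < k := by
    rcases Nat.eq_zero_or_pos k with h | h
    · rw [h, mul_zero] at hk
      omega
    · exact h
  have hkp : k < p := by
    rw [hk, pow_succ p 2] at hbig
    exact Nat.lt_of_mul_lt_mul_left hbig
  obtain ⟨P⟩ : Nonempty (Sylow p X) := inferInstance
  have h1 : p ^ 2 ∣ Nat.card (P : Subgroup X) := Sylow.pow_dvd_card_of_pow_dvd_card P ⟨k, hk⟩
  obtain ⟨c, hc⟩ := h1
  have h2 := (P : Subgroup X).card_mul_index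
  rw [hc, hk, mul_assoc] at h2
  have h3 : c * (P : Subgroup X).index = k := Nat.eq_of_mul_eq_mul_left (pow_pos hpr.pos 2) h2
  have h4 : Nat.card (Sylow p X) ∣ k := dvd_trans P.card_dvd_index (Dvd.intro_left c h3)
  have h5 := card_sylow_modEq_one p X
  have h6 := Nat.le_of_dvd hk0 h4
  have h7 : Nat.card (Sylow p X) % p = 1 % p := h5
  rw [Nat.mod_eq_of_lt (by omega), Nat.mod_eq_of_lt hpr.one_lt] at h7
  exact hn h7

/-- If a normal subgroup of order divisible by `p` has just one Sylow `p`-subgroup, so has the group. -/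
theorem sylow_one_of_sub {X : Type*} [Group X] [Finite X] {p : ℕ} [hfp : Fact p.Prime]
    (hsq : ¬ p ^ 2 ∣ Nat.card X) (L : Subgroup X) [hL : L.Normal] (hd : p ∣ Nat.card L)
    (hone : Nat.card (Sylow p L) = 1) : Nat.card (Sylow p X) = 1 := by
  classical
  have hpr := hfp.out
  haveI hsub : Subsingleton (Sylow p L) := (Nat.card_eq_one_iff_unique.mp hone).1
  obtain ⟨w, hw⟩ := exists_prime_orderOf_dvd_card' p hd
  have hz : orderOf (w : X) = p := by rw [Subgroup.orderOf_coe]; exact hw
  obtain ⟨Q, hQ, hQc⟩ := exists_sylow_of_sq hz hsq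
  -- elements of order `p` in `L` generate the same subgroup
  obtain ⟨R₀⟩ : Nonempty (Sylow p L) := inferInstance
  have hR : ∀ l : L, orderOf l = p → zpowers l = (R₀ : Subgroup L) := by
    intro l hl
    have hp1 : IsPGroup p (zpowers l) := by
      apply IsPGroup.of_card (n := 1)
      rw [Nat.card_zpowers, hl, pow_one]
    obtain ⟨R, hR⟩ := hp1.exists_le_sylow
    have h1 : R = R₀ := Subsingleton.elim _ _
    subst h1
    apply Subgroup.eq_of_le_of_card_ge hR
    rw [Nat.card_zpowers, hl]
    obtain ⟨k, hk⟩ := IsPGroup.iff_card.mp R.isPGroup'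
    rw [hk]
    rcases k with _ | k
    · simpa using hpr.one_le
    · rcases k with _ | k
      · simp
      · exfalso
        apply hsq
        have h2 : p ^ (k + 1 + 1) ∣ Nat.card L := by
          rw [← hk]
          exact Subgroup.card_subgroup_dvd_card _
        have h3 : p ^ 2 ∣ Nat.card L := dvd_trans (pow_dvd_pow p (by omega)) h2
        exact dvd_trans h3 (Subgroup.card_subgroup_dvd_card _)
  have hnorm : (Q : Subgroup X).Normal := by
    rw [hQ]
    refine ⟨fun n hn g => ?_⟩
    obtain ⟨j, rfl⟩ := Subgroup.mem_zpowers_iff.mp hn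
    have h1 : g * (w : X) * g⁻¹ ∈ L := hL.conj_mem _ w.2 g
    have h2 : orderOf (⟨g * (w : X) * g⁻¹, h1⟩ : L) = p := by
      rw [← Subgroup.orderOf_coe]
      have h3 := MulEquiv.orderOf_eq (MulAut.conj g) (w : X)
      simp only [MulAut.conj_apply] at h3
      simpa [hz] using h3
    have h3 := hR _ h2
    have h4 := hR w hw
    have h5 : (⟨g * (w : X) * g⁻¹, h1⟩ : L) ∈ zpowers w := by
      rw [h4, ← h3]
      exact Subgroup.mem_zpowers _
    obtain ⟨k, hk⟩ := Subgroup.mem_zpowers_iff.mp h5
    have h6 : (w : X) ^ k = g * (w : X) * g⁻¹ := by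
      have := congrArg (Subtype.val) hk
      simpa using this
    have h7 : g * (w : X) ^ j * g⁻¹ = (g * (w : X) * g⁻¹) ^ j := (conj_zpow).symm
    rw [h7, ← h6, ← zpow_mul]
    exact Subgroup.zpow_mem_zpowers _ _
  letI := Sylow.unique_of_normal Q hnorm
  exact Nat.card_unique

/-- A perfect nontrivial group is not cyclic. -/
theorem not_cyclic_of_perfect {X : Type*} [Group X] [Nontrivial X] (hperf : commutator X = ⊤) : ¬ IsCyclic X := by
  intro h
  have hcomm : ∀ a b : X, a * b = b * a := (IsCyclic.commGroup (α := X)).mul_comm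
  have h1 : commutator X ≤ ⊥ := by
    rw [_root_.commutator_def, Subgroup.commutator_le]
    intro a _ b _
    rw [Subgroup.mem_bot, commutatorElement_eq_one_iff_commute]
    exact hcomm a b
  rw [hperf] at h1
  exact bot_ne_top (le_bot_iff.mp h1).symm

/-- The lower bound of the order for perfect groups of order less than `p ^ 3`. -/
theorem perfect_bound {p : ℕ} [hfp : Fact p.Prime] : ∀ (n : ℕ) (X : Type u) [Group X] [Finite X], Nat.card X = n →
    commutator X = ⊤ → p ∣ n → n < p ^ 3 → Nat.card (Sylow p X) ≠ 1 → 3 < p ∧ p * (p ^ 2 - 1) ≤ 2 * n := by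
  intro n
  induction n using Nat.strong_induction_on with
  | _ n ih =>
    intro X _ _ hn hperf hd hbig hsyl
    subst hn
    have hpr := hfp.out
    have hsq := sq_not_dvd hbig hsyl
    obtain ⟨L, hLn, hLd, hmin⟩ := exists_minimal_normal hd
    haveI := hLn
    by_cases hLt : L = ⊤
    · haveI hnt : Nontrivial X := by
        apply Finite.one_lt_card_iff_nontrivial.mp
        have := Nat.le_of_dvd Nat.card_pos hd
        have := hpr.two_le
        omega
      obtain ⟨M, hMn, hMt, hmax⟩ := exists_simple_quot (X := X)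
      haveI := hMn
      haveI hsimple : IsSimpleGroup (X ⧸ M) := simple_quot hMt hmax
      have hMd : ¬ p ∣ Nat.card M := by
        intro h
        apply hMt
        have := hmin M hMn h (by rw [hLt]; exact le_top)
        rw [this, hLt]
      have hcard := Subgroup.card_eq_card_quotient_mul_card_subgroup M
      have hSd : p ∣ Nat.card (X ⧸ M) := by
        rw [hcard] at hd
        rcases (Nat.Prime.dvd_mul hpr).mp hd with h | h
        · exact h
        · exact absurd h hMd
      have hMpos : 0 < Nat.card M := Nat.card_pos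
      have hSle : Nat.card (X ⧸ M) ≤ Nat.card X := by
        rw [hcard]
        exact Nat.le_mul_of_pos_right _ hMpos
      have hcyc := not_cyclic_of_perfect (perfect_quot hperf M)
      have h1 := Cfsg.Agent.S0999.result hcyc p hpr hSd (lt_of_le_of_lt hSle hbig)
      obtain ⟨h3, h4⟩ := card_bound hpr h1
      exact ⟨h3, by omega⟩
    · have hLlt : Nat.card L < Nat.card X :=
        Nat.lt_of_le_of_ne (Subgroup.card_le_card_group L) (fun h => hLt (Subgroup.eq_top_of_card_eq L h))
      have hLperf := perfect_of_minimal hperf hsq L hLd hmin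
      have hLs : Nat.card (Sylow p L) ≠ 1 := fun h => hsyl (sylow_one_of_sub hsq L hLd h)
      obtain ⟨h3, h4⟩ := ih _ hLlt L rfl hLperf hLd (lt_trans hLlt hbig) hLs
      exact ⟨h3, by omega⟩

/-- Numerical end of the reduction. -/
theorem arith_three {p a : ℕ} (h3 : 3 < p) (h1 : p * (p ^ 2 - 1) ≤ 2 * a) (h2 : 3 * a < p ^ 3) : False := by
  have hp2 : 1 ≤ p ^ 2 := Nat.one_le_pow _ _ (by omega)
  obtain ⟨s, hs⟩ : ∃ s, p ^ 2 = s + 1 := ⟨p ^ 2 - 1, by omega⟩
  rw [hs, Nat.add_sub_cancel] at h1
  have e : p ^ 3 = p * s + p := by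
    rw [pow_succ, hs]
    ring
  rw [e] at h2
  have h4 : a < p := by omega
  have h5 : p * s < p * 2 := by omega
  have h6 : s < 2 := Nat.lt_of_mul_lt_mul_left h5
  have h7 : 4 * 4 ≤ p * p := Nat.mul_le_mul (by omega) (by omega)
  rw [pow_two] at hs
  omega

end Cfsg.Agent.Lib.BR
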