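import Cfsg.Agent.Lib.BR.Core

/-!
# The permutation character on the Sylow subgroups
-/

set_option autoImplicit false
set_option linter.unusedSectionVars false
set_option linter.style.haveILetI false
set_option linter.unusedSimpArgs false
set_option linter.unnecessarySimpa false
set_option linter.unusedVariables false
set_option maxSynthPendingDepth 3

open scoped ComplexConjugate
open Subgroup

namespace Cfsg.Agent.Lib.BR

open Cfsg (classInner IsCharacter IsIrrCharacter IrrCharacter IsClassFunction indFun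
  extendByZero IsGeneralizedCharacter IsPModular principalBlock)
open Cfsg.Agent.Lib.Char
open Cfsg.Agent.Lib.Block hiding tr

universe u

variable {G : Type u} [Group G] [Fintype G] {p : ℕ} {z : G}
  {t s n : ℕ} {Xs Ys : Finset (IrrCharacter G)} {δ : IrrCharacter G → ℤ} {ε : ℤ}
  {deg : IrrCharacter G → ℕ}

/-- The normalizer of the cyclic subgroup. -/
abbrev Nz (z : G) : Subgroup G := normalizer ((zpowers z : Subgroup G) : Set G)

theorem fx_oneIrr (K : Subgroup G) : fx (oneIrr G) K = 1 := by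
  classical
  have h1 := fx_sum (oneIrr G) K
  have h2 : ∀ g ∈ Finset.univ.filter (fun g : G => g ∈ K), ((oneIrr G : IrrCharacter G) : G → ℂ) g = 1 :=
    fun g _ => rfl
  rw [Finset.sum_congr rfl h2, Finset.sum_const, nsmul_eq_mul, mul_one] at h1
  have h3 : (Finset.univ.filter (fun g : G => g ∈ K)).card = Nat.card K := by
    rw [Nat.card_eq_fintype_card, Fintype.card_subtype]
  rw [h3] at h1
  have hc : (Nat.card K : ℂ) ≠ 0 := card_ne_zero_complex K
  have h4 : (Nat.card K : ℂ) * (fx (oneIrr G) K : ℂ) = (Nat.card K : ℂ) * 1 := by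
    rw [← h1, mul_one]
  have h5 := mul_left_cancel₀ hc h4
  exact_mod_cast h5

namespace BRD

variable (D : BRD p z t s n Xs Ys δ ε deg)
include D

theorem P_le_N : zpowers z ≤ Nz z := Subgroup.le_normalizer

/-- Elements of order `p` in the normalizer lie in the cyclic subgroup. -/
theorem mem_P_of_order {w : G} (hw : w ∈ Nz z) (ho : orderOf w = p) : w ∈ zpowers z := by
  haveI := D.fact_p
  obtain ⟨Q, hQ⟩ := exists_sylow_eq D.hz D.hC
  have hpw : IsPGroup p (zpowers w) := by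
    apply IsPGroup.of_card (n := 1)
    rw [Nat.card_zpowers, ho, pow_one]
  have h1 := hpw.inf_normalizer_sylow Q
  have h2 : w ∈ zpowers w ⊓ normalizer ((Q : Subgroup G) : Set G) := by
    refine ⟨mem_zpowers w, ?_⟩
    rw [hQ]
    exact hw
  have h3 : w ∈ zpowers w ⊓ (Q : Subgroup G) := h1.le h2
  have h4 := h3.2
  rwa [hQ] at h4

open Classical in
theorem pi_one : indFun (Nz z) (fun _ => 1) (1 : G) = 1 + (n : ℂ) * p := by
  rw [ind_one_apply]
  have h1 : Finset.univ.filter (fun x : G => x⁻¹ * 1 * x ∈ Nz z) = Finset.univ := by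
    ext x
    simp [one_mem]
  rw [h1, Finset.card_univ, ← Nat.card_eq_fintype_card, D.hcard, D.hNcard]
  have hp0 : (p : ℂ) ≠ 0 := D.hp1z
  have ht0 : (t : ℂ) ≠ 0 := by
    have := D.ht2
    exact_mod_cast (by omega : t ≠ 0)
  push_cast
  field_simp

open Classical in
theorem pi_u {u : G} (hu : u ∈ zpowers z) (hu1 : u ≠ 1) : indFun (Nz z) (fun _ => 1) u = 1 := by
  rw [ind_one_apply]
  have h1 : Finset.univ.filter (fun x : G => x⁻¹ * u * x ∈ Nz z) =
      Finset.univ.filter (fun x : G => x ∈ Nz z) := by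
    ext x
    simp only [Finset.mem_filter, Finset.mem_univ, true_and]
    constructor
    · intro h
      have ho : orderOf (x⁻¹ * u * x) = p := by
        have h2 : orderOf u = p := Lib.SmallSimple.BB.orderOf_of_mem D.hp D.hz hu hu1
        have h3 : x⁻¹ * u * x = (MulAut.conj x⁻¹) u := by
          simp [MulAut.conj_apply]
        rw [h3, MulEquiv.orderOf_eq, h2]
      have h4 := D.mem_P_of_order h ho
      have h5 : x⁻¹ ∈ normalizer ((zpowers z : Subgroup G) : Set G) :=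
        Lib.SmallSimple.BB.mem_normalizer_of_conj' D.hp D.hz hu hu1 (by simpa using h4)
      simpa using inv_mem h5
    · intro h
      exact mul_mem (mul_mem (inv_mem h) (D.P_le_N hu)) h
  rw [h1]
  have h2 : (Finset.univ.filter (fun g : G => g ∈ Nz z)).card = Nat.card (Nz z) := by
    rw [Nat.card_eq_fintype_card, Fintype.card_subtype]
  rw [h2]
  have hc : (Nat.card (Nz z) : ℂ) ≠ 0 := card_ne_zero_complex _
  field_simp

/-- The expansion of the degree of the permutation character. -/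
theorem pi_deg : ∑ χ : IrrCharacter G, fx χ (Nz z) * deg χ = 1 + n * p := by
  classical
  have h1 := ind_one_expansion (Nz z) (1 : G)
  rw [D.pi_one] at h1
  have h2 : ∀ χ : IrrCharacter G, (fx χ (Nz z) : ℂ) * (χ : G → ℂ) 1 = ((fx χ (Nz z) * deg χ : ℕ) : ℂ) := by
    intro χ
    rw [(D.hdeg χ).1]
    push_cast
    rfl
  simp only [h2] at h1
  exact_mod_cast h1.symm

theorem deg_one' : deg (oneIrr G) = 1 := by
  have h2 : ((oneIrr G : IrrCharacter G) : G → ℂ) 1 = 1 := rfl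
  have h3 := (D.hdeg (oneIrr G)).1
  rw [h2] at h3
  exact_mod_cast h3.symm

theorem fN_As {χ : IrrCharacter G} (hχ : χ ∈ As Xs δ) : fx χ (Nz z) = 0 := by
  have h1 := D.pi_deg
  rw [D.sum_all, D.sum_Xs, fx_oneIrr, D.deg_one'] at h1
  have h2 := Finset.single_le_sum (f := fun χ : IrrCharacter G => fx χ (Nz z) * deg χ)
    (fun χ _ => Nat.zero_le _) hχ
  rw [D.deg_As hχ] at h2
  by_contra hc
  have h3 : 1 * (1 + n * p) ≤ fx χ (Nz z) * (1 + n * p) :=
    Nat.mul_le_mul_right _ (Nat.pos_of_ne_zero hc)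
  omega

theorem fN_Bs {χ : IrrCharacter G} (hχ : χ ∈ Bs Xs δ) : fx χ (Nz z) = 0 := by
  have h1 := fx_anti χ (D.P_le_N)
  rw [D.fx_Bs hχ] at h1
  omega

open Classical in
theorem fN_Ys {θ : IrrCharacter G} (hθ : θ ∈ Ys) : fx θ (Nz z) = 0 := by
  have hu : ∀ u : G, u ∈ zpowers z → u ≠ 1 →
      ∑ χ ∈ Ys, (fx χ (Nz z) : ℂ) * (χ : G → ℂ) u = 0 := by
    intro u hu hu1
    have h1 := ind_one_expansion (Nz z) u
    rw [D.pi_u hu hu1, D.sum_all, D.sum_Xs, fx_oneIrr] at h1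
    have e1 : ∑ χ ∈ As Xs δ, (fx χ (Nz z) : ℂ) * (χ : G → ℂ) u = 0 :=
      Finset.sum_eq_zero fun χ hχ => by rw [D.fN_As hχ]; simp
    have e2 : ∑ χ ∈ Bs Xs δ, (fx χ (Nz z) : ℂ) * (χ : G → ℂ) u = 0 :=
      Finset.sum_eq_zero fun χ hχ => by rw [D.fN_Bs hχ]; simp
    have e3 : ∑ χ ∈ Zs Xs Ys, (fx χ (Nz z) : ℂ) * (χ : G → ℂ) u = 0 :=
      Finset.sum_eq_zero fun χ hχ => by
        rw [D.hrest χ (D.mem_Zs hχ).1 (D.mem_Zs hχ).2 u hu hu1, mul_zero]
    rw [e1, e2, e3] at h1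
    have e4 : ((oneIrr G : IrrCharacter G) : G → ℂ) u = 1 := rfl
    rw [e4] at h1
    push_cast at h1
    linear_combination -h1
  have h2 : ∑ u ∈ Finset.univ.filter (fun u : G => u ∈ zpowers z ∧ u ≠ 1),
      ∑ χ ∈ Ys, (fx χ (Nz z) : ℂ) * (χ : G → ℂ) u = 0 :=
    Finset.sum_eq_zero fun u h => by
      rw [Finset.mem_filter] at h
      exact hu u h.2.1 h.2.2
  rw [Finset.sum_comm] at h2
  have h3 : ∀ χ ∈ Ys, ∑ u ∈ Finset.univ.filter (fun u : G => u ∈ zpowers z ∧ u ≠ 1),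
      (fx χ (Nz z) : ℂ) * (χ : G → ℂ) u = (fx χ (Nz z) : ℂ) * (-((ε : ℂ) * (t : ℂ))) := by
    intro χ hχ
    rw [← Finset.mul_sum, D.hYsum χ hχ]
  rw [Finset.sum_congr rfl h3, ← Finset.sum_mul] at h2
  have hε0 : (ε : ℂ) ≠ 0 := by
    rcases D.hε with h | h <;> rw [h] <;> norm_num
  have ht0 : (t : ℂ) ≠ 0 := by
    have := D.ht2
    exact_mod_cast (by omega : t ≠ 0)
  have h4 : ∑ χ ∈ Ys, (fx χ (Nz z) : ℂ) = 0 := by
    rcases mul_eq_zero.mp h2 with h | h
    · exact h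
    · exact absurd (neg_eq_zero.mp h) (mul_ne_zero hε0 ht0)
  have h5 : ∑ χ ∈ Ys, fx χ (Nz z) = 0 := by exact_mod_cast h4
  exact (Finset.sum_eq_zero_iff.mp h5) θ hθ

/-- On the characters outside the block, the fixed dimensions of the normalizer and the cyclic group agree. -/
theorem fN_Zs (hZ : ∑ χ ∈ Zs Xs Ys, (fx χ (zpowers z)) ^ 2 = n) {χ : IrrCharacter G} (hχ : χ ∈ Zs Xs Ys) :
    fx χ (Nz z) = fx χ (zpowers z) := by
  have h1 := D.pi_deg
  rw [D.sum_all, D.sum_Xs, fx_oneIrr, D.deg_one'] at h1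
  have e1 : ∑ χ ∈ As Xs δ, fx χ (Nz z) * deg χ = 0 :=
    Finset.sum_eq_zero fun χ hχ => by rw [D.fN_As hχ, zero_mul]
  have e2 : ∑ χ ∈ Bs Xs δ, fx χ (Nz z) * deg χ = 0 :=
    Finset.sum_eq_zero fun χ hχ => by rw [D.fN_Bs hχ, zero_mul]
  have e3 : ∑ χ ∈ Ys, fx χ (Nz z) * deg χ = 0 :=
    Finset.sum_eq_zero fun χ hχ => by rw [D.fN_Ys hχ, zero_mul]
  have e4 : ∑ χ ∈ Zs Xs Ys, fx χ (Nz z) * deg χ =
      p * ∑ χ ∈ Zs Xs Ys, fx χ (Nz z) * fx χ (zpowers z) := by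
    rw [Finset.mul_sum]
    refine Finset.sum_congr rfl fun χ hχ => ?_
    rw [D.fx_Zs hχ]
    ring
  rw [e1, e2, e3, e4] at h1
  have h2 : ∑ χ ∈ Zs Xs Ys, fx χ (Nz z) * fx χ (zpowers z) = n := by
    have h3 : p * ∑ χ ∈ Zs Xs Ys, fx χ (Nz z) * fx χ (zpowers z) = p * n := by
      simp only [mul_one, add_zero] at h1
      have h4 : p * n = n * p := mul_comm _ _
      omega
    exact Nat.eq_of_mul_eq_mul_left D.hp.pos h3
  have h5 : ∑ χ ∈ Zs Xs Ys, fx χ (Nz z) * fx χ (zpowers z) =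
      ∑ χ ∈ Zs Xs Ys, fx χ (zpowers z) * fx χ (zpowers z) := by
    rw [h2, ← hZ]
    refine Finset.sum_congr rfl fun χ _ => ?_
    ring
  have hle : ∀ χ ∈ Zs Xs Ys, fx χ (Nz z) * fx χ (zpowers z) ≤ fx χ (zpowers z) * fx χ (zpowers z) :=
    fun χ _ => Nat.mul_le_mul_right _ (fx_anti χ D.P_le_N)
  have h6 := (Finset.sum_eq_sum_iff_of_le hle).1 h5 χ hχ
  have hd : 0 < fx χ (zpowers z) := by
    have h7 := D.fx_Zs hχ
    have h8 := (D.hdeg χ).2.1
    rw [h7] at h8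
    exact Nat.pos_of_ne_zero (fun h => h8 (by rw [h, mul_zero]))
  exact Nat.eq_of_mul_eq_mul_right hd h6

/-- **The expansion of the permutation character.** -/
theorem ind_eq (hZ : ∑ χ ∈ Zs Xs Ys, (fx χ (zpowers z)) ^ 2 = n) (g : G) :
    indFun (Nz z) (fun _ => 1) g = 1 + ∑ χ ∈ Zs Xs Ys, (fx χ (zpowers z) : ℂ) * (χ : G → ℂ) g := by
  have h1 := ind_one_expansion (Nz z) g
  rw [D.sum_all, D.sum_Xs, fx_oneIrr] at h1
  have e1 : ∑ χ ∈ As Xs δ, (fx χ (Nz z) : ℂ) * (χ : G → ℂ) g = 0 :=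
    Finset.sum_eq_zero fun χ hχ => by rw [D.fN_As hχ]; simp
  have e2 : ∑ χ ∈ Bs Xs δ, (fx χ (Nz z) : ℂ) * (χ : G → ℂ) g = 0 :=
    Finset.sum_eq_zero fun χ hχ => by rw [D.fN_Bs hχ]; simp
  have e3 : ∑ χ ∈ Ys, (fx χ (Nz z) : ℂ) * (χ : G → ℂ) g = 0 :=
    Finset.sum_eq_zero fun χ hχ => by rw [D.fN_Ys hχ]; simp
  have e4 : ∑ χ ∈ Zs Xs Ys, (fx χ (Nz z) : ℂ) * (χ : G → ℂ) g =
      ∑ χ ∈ Zs Xs Ys, (fx χ (zpowers z) : ℂ) * (χ : G → ℂ) g :=
    Finset.sum_congr rfl fun χ hχ => by rw [D.fN_Zs hZ hχ]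
  rw [e1, e2, e3, e4] at h1
  have e5 : ((oneIrr G : IrrCharacter G) : G → ℂ) g = 1 := rfl
  rw [e5] at h1
  rw [h1]
  push_cast
  ring

end BRD

end Cfsg.Agent.Lib.BR
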