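import Cfsg.Agent.Lib.BR.BlockExt
import Cfsg.Agent.Lib.BR.Arith
import Cfsg.Agent.Lib.SmallSimple.BlockApply
import Cfsg.Agent.Lib.SmallSimple.Tools
import Cfsg.Agent.Lib.Transfer.Comp
import Cfsg.Agent.Lib.Degree.Linear

/-!
# Self-centralizing elements of prime order: preliminaries
-/

set_option autoImplicit false
set_option linter.unusedSectionVars false
set_option linter.style.haveILetI false
set_option linter.unusedSimpArgs false
set_option linter.unnecessarySimpa false
set_option linter.unusedVariables false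
set_option maxSynthPendingDepth 3

open scoped ComplexConjugate
open Subgroup

namespace Cfsg.Agent.Lib.BR

open Cfsg (classInner IsCharacter IsIrrCharacter IrrCharacter IsClassFunction indFun
  extendByZero IsGeneralizedCharacter IsPModular principalBlock)
open Cfsg.Agent.Lib.Char
open Cfsg.Agent.Lib.Block hiding tr

universe u

variable {G : Type u} [Group G] {p : ℕ} {z : G}

section Prelim

variable [Finite G]

/-- The order of a Sylow subgroup when the centralizer of an element of order `p` is cyclic generated by it. -/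
theorem sylow_eq_zpowers [hp : Fact p.Prime] (hz : orderOf z = p)
    (hC : centralizer ({z} : Set G) = zpowers z) (Q : Sylow p G) (hzQ : z ∈ (Q : Subgroup G)) :
    (Q : Subgroup G) = zpowers z := by
  have hpr := hp.out
  haveI : Nontrivial (Q : Subgroup G) := by
    refine ⟨⟨1, ⟨z, hzQ⟩, ?_⟩⟩
    intro h
    have h1 : z = 1 := (congrArg Subtype.val h).symm
    rw [h1, orderOf_one] at hz
    exact hpr.one_lt.ne hz
  haveI : Nontrivial (center (Q : Subgroup G)) := Q.isPGroup'.center_nontrivial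
  obtain ⟨c, hc⟩ := exists_ne (1 : center (Q : Subgroup G))
  have hcz : ((c : (Q : Subgroup G)) : G) ∈ centralizer ({z} : Set G) := by
    rw [Subgroup.mem_centralizer_singleton_iff]
    have h1 := Subgroup.mem_center_iff.mp c.2 ⟨z, hzQ⟩
    exact (congrArg Subtype.val h1).symm
  rw [hC] at hcz
  have hc1 : ((c : (Q : Subgroup G)) : G) ≠ 1 := by
    intro h
    exact hc (Subtype.ext (Subtype.ext h))
  -- `c` generates
  have hpz : Nat.card (zpowers z) = p := by rw [Nat.card_zpowers, hz]
  haveI : Fact (Nat.card (zpowers z)).Prime := ⟨by rw [hpz]; exact hpr⟩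
  have hz' : z ∈ zpowers ((c : (Q : Subgroup G)) : G) := by
    have h2 : zpowers ((c : (Q : Subgroup G)) : G) = zpowers z := by
      apply Subgroup.eq_of_le_of_card_ge
      · rw [Subgroup.zpowers_le]
        exact hcz
      · rw [hpz, Nat.card_zpowers]
        have h3 : orderOf ((c : (Q : Subgroup G)) : G) ∣ Nat.card (zpowers z) := by
          have := orderOf_dvd_natCard (⟨_, hcz⟩ : zpowers z)
          rwa [Subgroup.orderOf_mk] at this
        rw [hpz] at h3
        rcases (Nat.dvd_prime hpr).1 h3 with h4 | h4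
        · exact absurd (orderOf_eq_one_iff.mp h4) hc1
        · exact h4.ge
    rw [h2]
    exact mem_zpowers z
  -- hence `z` is central in `Q`
  have hle : (Q : Subgroup G) ≤ zpowers z := by
    intro q hq
    rw [← hC, Subgroup.mem_centralizer_singleton_iff]
    obtain ⟨k, hk⟩ := Subgroup.mem_zpowers_iff.mp hz'
    rw [← hk]
    have h5 : Commute q ((c : (Q : Subgroup G)) : G) := by
      have h1 := Subgroup.mem_center_iff.mp c.2 ⟨q, hq⟩
      show q * ((c : (Q : Subgroup G)) : G) = ((c : (Q : Subgroup G)) : G) * q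
      exact congrArg Subtype.val h1
    exact (h5.zpow_right k).eq
  apply le_antisymm hle
  rw [Subgroup.zpowers_le]
  exact hzQ

/-- The group order is not divisible by `p ^ 2`. -/
theorem not_sq_dvd [hp : Fact p.Prime] (hz : orderOf z = p)
    (hC : centralizer ({z} : Set G) = zpowers z) : ¬ p ^ 2 ∣ Nat.card G := by
  have hpr := hp.out
  have hzp : IsPGroup p (zpowers z) := by
    apply IsPGroup.of_card (n := 1)
    rw [Nat.card_zpowers, hz, pow_one]
  obtain ⟨Q, hQ⟩ := hzp.exists_le_sylow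
  have h1 := sylow_eq_zpowers hz hC Q (hQ (mem_zpowers z))
  have h2 : Nat.card (Q : Subgroup G) = p := by rw [h1, Nat.card_zpowers, hz]
  intro h3
  have h4 := Q.pow_dvd_card_of_pow_dvd_card h3
  rw [h2] at h4
  have h5 := Nat.le_of_dvd hpr.pos h4
  have := hpr.two_le
  nlinarith

/-- The cyclic subgroup generated by `z` as a Sylow subgroup. -/
theorem exists_sylow_eq [hp : Fact p.Prime] (hz : orderOf z = p)
    (hC : centralizer ({z} : Set G) = zpowers z) :
    ∃ Q : Sylow p G, (Q : Subgroup G) = zpowers z := by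
  have hzp : IsPGroup p (zpowers z) := by
    apply IsPGroup.of_card (n := 1)
    rw [Nat.card_zpowers, hz, pow_one]
  obtain ⟨Q, hQ⟩ := hzp.exists_le_sylow
  exact ⟨Q, sylow_eq_zpowers hz hC Q (hQ (mem_zpowers z))⟩

/-- The number `t` for a perfect group. -/
theorem exists_t [hp : Fact p.Prime] (hperf : commutator G = ⊤) (hz : orderOf z = p)
    (hC : centralizer ({z} : Set G) = zpowers z) :
    ∃ t, t ∣ p - 1 ∧ t ≠ 1 ∧ Nat.card (normalizer ((zpowers z : Subgroup G) : Set G)) =
      t * Nat.card (centralizer ({z} : Set G)) := by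
  have hpr := hp.out
  haveI : Fact (Nat.card (zpowers z)).Prime := ⟨by rw [Nat.card_zpowers, hz]; exact hpr⟩
  haveI hcyc : IsCyclic (zpowers z) := isCyclic_of_prime_card rfl
  have h1 := Lib.SmallSimple.relIndex_centralizer_normalizer_dvd (zpowers z)
  rw [Nat.card_zpowers, hz, Nat.totient_prime hpr, Lib.SmallSimple.BA.centralizer_zpowers'] at h1
  have hle : centralizer ({z} : Set G) ≤ normalizer ((zpowers z : Subgroup G) : Set G) := by
    rw [← Lib.SmallSimple.BA.centralizer_zpowers']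
    exact Subgroup.centralizer_le_normalizer _
  refine ⟨_, h1, ?_, ?_⟩
  · intro h2
    rw [relIndex_eq_one] at h2
    obtain ⟨Q, hQ⟩ := exists_sylow_eq hz hC
    have h3 : normalizer (((Q : Subgroup G) : Set G)) ≤ centralizer ((Q : Subgroup G) : Set G) := by
      rw [hQ, Lib.SmallSimple.BA.centralizer_zpowers']
      exact h2
    obtain ⟨K, hK⟩ : ∃ K : Subgroup G, K = (MonoidHom.transferSylow Q h3).ker := ⟨_, rfl⟩
    have hcomp := MonoidHom.ker_transferSylow_isComplement' Q h3
    have hcard := hcomp.card_mul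
    have hQc : Nat.card (Q : Subgroup G) = p := by rw [hQ, Nat.card_zpowers, hz]
    rw [hQc] at hcard
    have hcomm : ∀ a b : (Q : Subgroup G), a * b = b * a := by
      intro a b
      apply Subtype.ext
      have ha : (a : G) ∈ zpowers z := by rw [← hQ]; exact a.2
      have hb : (b : G) ∈ zpowers z := by rw [← hQ]; exact b.2
      obtain ⟨i, hi⟩ := Subgroup.mem_zpowers_iff.mp ha
      obtain ⟨j, hj⟩ := Subgroup.mem_zpowers_iff.mp hb
      show (a : G) * b = b * a
      rw [← hi, ← hj]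
      exact ((Commute.refl z).zpow_zpow i j).eq
    -- `G` modulo the kernel embeds in `Q`, which is abelian
    have h4 : commutator G ≤ (MonoidHom.transferSylow Q h3).ker := by
      rw [commutator_def, Subgroup.commutator_le]
      intro g _ g' _
      rw [MonoidHom.mem_ker, map_commutatorElement, commutatorElement_eq_one_iff_commute]
      exact hcomm _ _
    rw [hperf, top_le_iff] at h4
    have h5 : Nat.card (MonoidHom.transferSylow Q h3).ker = Nat.card G := by
      rw [h4]
      exact Nat.card_congr Subgroup.topEquiv.toEquiv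
    rw [h5] at hcard
    have h6 : 0 < Nat.card G := Nat.card_pos
    have h7 := hpr.one_lt
    nlinarith
  · have h2 := (((centralizer ({z} : Set G)).subgroupOf
      (normalizer ((zpowers z : Subgroup G) : Set G)))).card_mul_index
    have h3 : Nat.card ((centralizer ({z} : Set G)).subgroupOf
        (normalizer ((zpowers z : Subgroup G) : Set G))) = Nat.card (centralizer ({z} : Set G)) :=
      Nat.card_congr (Subgroup.subgroupOfEquivOfLe hle).toEquiv
    rw [h3] at h2
    rw [← h2, mul_comm]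
    rfl

/-- Elements of the normalizer act by powers, so that their commutators centralize `z`. -/
theorem commutator_mem_centralizer {x₁ x₂ : G} (h1 : x₁ ∈ normalizer ((zpowers z : Subgroup G) : Set G))
    (h2 : x₂ ∈ normalizer ((zpowers z : Subgroup G) : Set G)) :
    x₁ * x₂ * x₁⁻¹ * x₂⁻¹ ∈ centralizer ({z} : Set G) := by
  obtain ⟨y₁, hy₁⟩ : ∃ y, y = x₁⁻¹ := ⟨_, rfl⟩
  obtain ⟨y₂, hy₂⟩ : ∃ y, y = x₂⁻¹ := ⟨_, rfl⟩
  have h1' : y₁ ∈ normalizer ((zpowers z : Subgroup G) : Set G) := by rw [hy₁]; exact inv_mem h1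
  have h2' : y₂ ∈ normalizer ((zpowers z : Subgroup G) : Set G) := by rw [hy₂]; exact inv_mem h2
  obtain ⟨k₁, hk₁⟩ : ∃ k : ℤ, y₁ * z * y₁⁻¹ = z ^ k := by
    have := (Subgroup.mem_normalizer_iff.mp h1' z).mp (mem_zpowers z)
    obtain ⟨k, hk⟩ := Subgroup.mem_zpowers_iff.mp this
    exact ⟨k, hk.symm⟩
  obtain ⟨k₂, hk₂⟩ : ∃ k : ℤ, y₂ * z * y₂⁻¹ = z ^ k := by
    have := (Subgroup.mem_normalizer_iff.mp h2' z).mp (mem_zpowers z)
    obtain ⟨k, hk⟩ := Subgroup.mem_zpowers_iff.mp this
    exact ⟨k, hk.symm⟩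
  have hz1 : ∀ k : ℤ, y₁ * z ^ k * y₁⁻¹ = (z ^ k₁) ^ k := by
    intro k
    rw [← hk₁, conj_zpow]
  have hz2 : ∀ k : ℤ, y₂ * z ^ k * y₂⁻¹ = (z ^ k₂) ^ k := by
    intro k
    rw [← hk₂, conj_zpow]
  have e1 : (y₁ * y₂) * z * (y₁ * y₂)⁻¹ = z ^ (k₂ * k₁) := by
    have : (y₁ * y₂) * z * (y₁ * y₂)⁻¹ = y₁ * (y₂ * z * y₂⁻¹) * y₁⁻¹ := by group
    rw [this, hk₂, hz1, ← zpow_mul, mul_comm]
  have e2 : (y₂ * y₁) * z * (y₂ * y₁)⁻¹ = z ^ (k₁ * k₂) := by
    have : (y₂ * y₁) * z * (y₂ * y₁)⁻¹ = y₂ * (y₁ * z * y₁⁻¹) * y₂⁻¹ := by group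
    rw [this, hk₁, hz2, ← zpow_mul, mul_comm]
  have e3 : (y₁ * y₂) * z * (y₁ * y₂)⁻¹ = (y₂ * y₁) * z * (y₂ * y₁)⁻¹ := by
    rw [e1, e2, mul_comm]
  obtain ⟨c, hc⟩ : ∃ c, c = x₁ * x₂ * x₁⁻¹ * x₂⁻¹ := ⟨_, rfl⟩
  rw [← hc]
  have e4 : c = (y₂ * y₁)⁻¹ * (y₁ * y₂) := by
    rw [hc, hy₁, hy₂]
    group
  have e5 : c * z * c⁻¹ = z := by
    have e6 : c * z * c⁻¹ = (y₂ * y₁)⁻¹ * ((y₁ * y₂) * z * (y₁ * y₂)⁻¹) * (y₂ * y₁) := by
      rw [e4]
      group
    rw [e6, e3]
    group
  rw [Subgroup.mem_centralizer_singleton_iff]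
  calc c * z = c * z * c⁻¹ * c := by group
    _ = z * c := by rw [e5]

/-- The number of Sylow subgroups is not one. -/
theorem sylow_ne_one [hp : Fact p.Prime] (hperf : commutator G = ⊤) (hz : orderOf z = p)
    (hC : centralizer ({z} : Set G) = zpowers z) (Q : Sylow p G) (hQ : (Q : Subgroup G) = zpowers z) :
    Nat.card (Sylow p G) ≠ 1 := by
  intro h1
  have hpr := hp.out
  have hnorm : normalizer ((zpowers z : Subgroup G) : Set G) = ⊤ := by
    rw [← hQ]
    have h2 := Sylow.card_eq_index_normalizer Q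
    rw [h1] at h2
    exact Subgroup.index_eq_one.mp h2.symm
  have h3 : commutator G ≤ zpowers z := by
    rw [commutator_def, Subgroup.commutator_le]
    intro g _ g' _
    rw [← hC, commutatorElement_def]
    exact commutator_mem_centralizer (by rw [hnorm]; trivial) (by rw [hnorm]; trivial)
  rw [hperf, top_le_iff] at h3
  have h4 : commutator G = ⊥ := by
    rw [commutator_def, Subgroup.commutator_eq_bot_iff_le_centralizer]
    intro a _
    rw [Subgroup.mem_centralizer_iff]
    intro b _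
    have ha : a ∈ zpowers z := by rw [h3]; trivial
    have hb : b ∈ zpowers z := by rw [h3]; trivial
    obtain ⟨i, hi⟩ := Subgroup.mem_zpowers_iff.mp ha
    obtain ⟨j, hj⟩ := Subgroup.mem_zpowers_iff.mp hb
    rw [← hi, ← hj]
    exact ((Commute.refl z).zpow_zpow j i).eq
  rw [hperf] at h4
  have h5 : z ∈ (⊥ : Subgroup G) := by rw [← h4]; trivial
  have h6 : z = 1 := Subgroup.mem_bot.mp h5
  rw [h6, orderOf_one] at hz
  exact hpr.one_lt.ne hz

end Prelim

end Cfsg.Agent.Lib.BR
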