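import Cfsg.Agent.Lib.BR.CaseB
import Cfsg.Agent.S0996
import Cfsg.Agent.Lib.Char.Integral

/-!
# Simple groups of order less than `p ^ 3`
-/

set_option autoImplicit false
set_option linter.unusedSectionVars false
set_option linter.style.haveILetI false
set_option linter.unusedSimpArgs false
set_option linter.unnecessarySimpa false
set_option linter.unusedVariables false
set_option maxSynthPendingDepth 3

open scoped ComplexConjugate
open Subgroup

namespace Cfsg.Agent.Lib.BR

open Cfsg (classInner IsCharacter IsIrrCharacter IrrCharacter IsClassFunction indFun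
  extendByZero IsGeneralizedCharacter IsPModular principalBlock)
open Cfsg.Agent.Lib.Char
open Cfsg.Agent.Lib.Block hiding tr
open Cfsg.Agent.Lib.SmallSimple.BB
open Cfsg.Agent.Lib.FF

universe u

variable {G : Type u} [Group G] {p : ℕ} {z : G}

section One

variable [Finite G] [hp : Fact p.Prime]

/-- A non-trivial element of the cyclic Sylow subgroup fixes only one Sylow subgroup. -/
theorem fix_unique' (hz : orderOf z = p) {Q₀ : Sylow p G} (hQ₀ : (Q₀ : Subgroup G) = zpowers z) {u : G}
    (hu : u ∈ zpowers z) (hu1 : u ≠ 1) {Q : Sylow p G} (h : u • Q = Q) : Q = Q₀ := by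
  have ho : orderOf u = p := orderOf_of_mem hp.out hz hu hu1
  have hpu : IsPGroup p (zpowers u) := by
    apply IsPGroup.of_card (n := 1)
    rw [Nat.card_zpowers, ho, pow_one]
  have h1 := hpu.inf_normalizer_sylow Q
  have h2 : u ∈ zpowers u ⊓ normalizer ((Q : Subgroup G) : Set G) :=
    ⟨mem_zpowers u, Sylow.smul_eq_iff_mem_normalizer.mp h⟩
  have h3 : u ∈ zpowers u ⊓ (Q : Subgroup G) := h1.le h2
  have hP : Nat.card (zpowers z) = p := by rw [Nat.card_zpowers, hz]
  have hcQ : Nat.card (Q : Subgroup G) = p := by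
    rw [Sylow.card_eq_multiplicity, ← Sylow.card_eq_multiplicity Q₀, hQ₀, hP]
  have h4 : zpowers u = (Q : Subgroup G) := by
    apply Subgroup.eq_of_le_of_card_ge
    · rw [Subgroup.zpowers_le]
      exact h3.2
    · rw [hcQ, Nat.card_zpowers, ho]
  have h5 : zpowers u = zpowers z := by
    apply Subgroup.eq_of_le_of_card_ge
    · rw [Subgroup.zpowers_le]
      exact hu
    · rw [hP, Nat.card_zpowers, ho]
  apply Sylow.ext
  rw [← h4, h5, hQ₀]

/-- With `p + 1` Sylow subgroups on which the group acts faithfully, elements of order `p` are self-centralizing. -/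
theorem cent_eq_of_one (hz : orderOf z = p) {Q₀ : Sylow p G} (hQ₀ : (Q₀ : Subgroup G) = zpowers z)
    (hn : Nat.card (Sylow p G) = p + 1) (hfaith : ∀ g : G, (∀ Q : Sylow p G, g • Q = Q) → g = 1) :
    centralizer ({z} : Set G) = zpowers z := by
  classical
  have hpr := hp.out
  have hz1 : z ≠ 1 := by
    intro h
    rw [h, orderOf_one] at hz
    exact hpr.one_lt.ne hz
  have hP : Nat.card (zpowers z) = p := by rw [Nat.card_zpowers, hz]
  -- a second point
  obtain ⟨Q₁, hQ₁⟩ : ∃ Q₁ : Sylow p G, Q₁ ≠ Q₀ := by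
    haveI : Nontrivial (Sylow p G) := by
      rw [← Finite.one_lt_card_iff_nontrivial, hn]
      have := hpr.pos
      omega
    exact exists_ne Q₀
  -- the action of the cyclic group on the other points is transitive
  have htrans : ∀ Q : Sylow p G, Q ≠ Q₀ → ∃ u ∈ zpowers z, u • Q₁ = Q := by
    let f : zpowers z → {Q : Sylow p G // Q ≠ Q₀} := fun u => ⟨(u : G) • Q₁, by
      intro h
      have h1 : (u : G) • Q₀ = Q₀ := by
        rw [Sylow.smul_eq_iff_mem_normalizer]
        have h2 : (u : G) ∈ (Q₀ : Subgroup G) := by rw [hQ₀]; exact u.2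
        exact Subgroup.le_normalizer h2
      rw [← h1] at h
      exact hQ₁ (smul_left_cancel _ h)⟩
    have hinj : Function.Injective f := by
      intro a b hab
      have h1 : (a : G) • Q₁ = (b : G) • Q₁ := congrArg Subtype.val hab
      have h2 : ((b : G)⁻¹ * (a : G)) • Q₁ = Q₁ := by
        rw [mul_smul, h1, inv_smul_smul]
      by_contra hne
      have h3 : (b : G)⁻¹ * (a : G) ≠ 1 := by
        intro h
        apply hne
        apply Subtype.ext
        exact (inv_mul_eq_one.mp h).symm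
      exact hQ₁ (fix_unique' hz hQ₀ (mul_mem (inv_mem b.2) a.2) h3 h2)
    have hcard : Nat.card {Q : Sylow p G // Q ≠ Q₀} = p := by
      have h1 := Nat.card_congr (Equiv.sumCompl (fun Q : Sylow p G => Q = Q₀))
      rw [Nat.card_sum, hn] at h1
      have h2 : Nat.card {Q : Sylow p G // Q = Q₀} = 1 := by
        rw [Nat.card_unique]
      rw [h2] at h1
      have h3 : Nat.card {Q : Sylow p G // ¬ Q = Q₀} = p := by omega
      exact h3
    have hbij : Function.Bijective f := by
      rw [Nat.bijective_iff_injective_and_card]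
      exact ⟨hinj, by rw [hP, hcard]⟩
    intro Q hQ
    obtain ⟨u, hu⟩ := hbij.2 ⟨Q, hQ⟩
    exact ⟨u, u.2, congrArg Subtype.val hu⟩
  apply le_antisymm _ (by
    rw [Subgroup.zpowers_le, Subgroup.mem_centralizer_singleton_iff])
  intro v hv
  have hcomm : ∀ u ∈ zpowers z, Commute v u := by
    intro u hu
    obtain ⟨k, rfl⟩ := Subgroup.mem_zpowers_iff.mp hu
    exact Commute.zpow_right (Subgroup.mem_centralizer_singleton_iff.mp hv) k
  have hv0 : v • Q₀ = Q₀ := by
    apply fix_unique' hz hQ₀ (mem_zpowers z) hz1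
    rw [← mul_smul, ← (hcomm z (mem_zpowers z)).eq, mul_smul]
    have h1 : z • Q₀ = Q₀ := by
      rw [Sylow.smul_eq_iff_mem_normalizer]
      have h2 : z ∈ (Q₀ : Subgroup G) := by rw [hQ₀]; exact mem_zpowers z
      exact Subgroup.le_normalizer h2
    rw [h1]
  have hv1 : v • Q₁ ≠ Q₀ := by
    intro h
    rw [← hv0] at h
    exact hQ₁ (smul_left_cancel _ h)
  obtain ⟨u, hu, hvu⟩ := htrans _ hv1
  have hw : u⁻¹ * v = 1 := by
    apply hfaith
    intro Q
    have hcw : ∀ u' ∈ zpowers z, Commute (u⁻¹ * v) u' := by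
      intro u' hu'
      refine Commute.mul_left ?_ (hcomm u' hu')
      obtain ⟨i, rfl⟩ := Subgroup.mem_zpowers_iff.mp hu
      obtain ⟨j, rfl⟩ := Subgroup.mem_zpowers_iff.mp hu'
      exact ((Commute.refl z).zpow_zpow i j).inv_left
    by_cases hQ : Q = Q₀
    · rw [hQ, mul_smul, hv0, inv_smul_eq_iff]
      have h1 : u • Q₀ = Q₀ := by
        rw [Sylow.smul_eq_iff_mem_normalizer]
        have h2 : u ∈ (Q₀ : Subgroup G) := by rw [hQ₀]; exact hu
        exact Subgroup.le_normalizer h2
      exact h1.symm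
    · obtain ⟨u', hu', rfl⟩ := htrans Q hQ
      rw [← mul_smul, (hcw u' hu').eq, mul_smul]
      congr 1
      rw [mul_smul, ← hvu, inv_smul_smul]
  have : v = u := (inv_mul_eq_one.mp hw).symm
  rw [this]
  exact hu

end One

section Two

/-- The degree `k p + 1`. -/
theorem plus2 {p E n k : ℕ} (hE0 : 0 < E) (hE : E < p) (hEn : E * n < p) (hk : 1 ≤ k)
    (hd : (k * p + 1) ∣ E * (1 + n * p)) : k = n := by
  have hdz : ((k : ℤ) * p + 1) ∣ (E : ℤ) * (1 + n * p) := by exact_mod_cast hd
  have h1 : ((k : ℤ) * p + 1) ∣ (E : ℤ) * (n - k) * p := by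
    have h2 : (E : ℤ) * (n - k) * p = (E : ℤ) * (1 + n * p) - E * ((k : ℤ) * p + 1) := by ring
    rw [h2]
    exact dvd_sub hdz (dvd_mul_left _ _)
  have hcop : IsCoprime ((k : ℤ) * p + 1) (p : ℤ) := ⟨1, -(k : ℤ), by ring⟩
  have h2 : ((k : ℤ) * p + 1) ∣ (E : ℤ) * (n - k) := hcop.dvd_of_dvd_mul_right h1
  have hkz : (1 : ℤ) ≤ k := by exact_mod_cast hk
  have hEz : (1 : ℤ) ≤ E := by exact_mod_cast hE0
  have hEpz : (E : ℤ) < p := by exact_mod_cast hE
  have hEnz : (E : ℤ) * n < p := by exact_mod_cast hEn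
  have hp0 : (0 : ℤ) < p := by linarith
  have hn0 : (0 : ℤ) ≤ n := by positivity
  rcases lt_trichotomy k n with hlt | heq | hgt
  · exfalso
    have hlt' : (k : ℤ) + 1 ≤ n := by exact_mod_cast hlt
    have h3 := Int.le_of_dvd (mul_pos (by linarith) (by linarith)) h2
    have h4 : (E : ℤ) * (n - k) ≤ E * n := by nlinarith
    have h5 : (p : ℤ) * 1 ≤ k * p := by nlinarith
    linarith
  · exact heq
  · exfalso
    have hgt' : (n : ℤ) + 1 ≤ k := by exact_mod_cast hgt
    have h5 : ((k : ℤ) * p + 1) ∣ (E : ℤ) * (k - n) := by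
      have : (E : ℤ) * (k - n) = -((E : ℤ) * (n - k)) := by ring
      rw [this]
      exact (dvd_neg).2 h2
    have h6 := Int.le_of_dvd (mul_pos (by linarith) (by linarith)) h5
    have h7 : (E : ℤ) * (k - n) ≤ E * k := by nlinarith
    have h8 : (E : ℤ) * k ≤ p * k := mul_le_mul_of_nonneg_right hEpz.le (by linarith)
    nlinarith

/-- The degree `k p - 1`. -/
theorem minus2 {p E n k d : ℕ} (hE0 : 0 < E) (hn2 : 2 ≤ n) (hEn : E * n < p) (hk : 1 ≤ k)
    (hdk : d + 1 = k * p) (hd : d ∣ E * (1 + n * p)) : k = 1 := by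
  by_contra hk1
  have hk2 : 2 ≤ k := by omega
  have hkz : (2 : ℤ) ≤ k := by exact_mod_cast hk2
  have hEz : (1 : ℤ) ≤ E := by exact_mod_cast hE0
  have hEnz : (E : ℤ) * n + 1 ≤ p := by exact_mod_cast hEn
  have hn2z : (2 : ℤ) ≤ n := by exact_mod_cast hn2
  have hdz : (d : ℤ) + 1 = k * p := by exact_mod_cast hdk
  have hddz : (d : ℤ) ∣ (E : ℤ) * (1 + n * p) := by exact_mod_cast hd
  have hp0 : (0 : ℤ) < p := by nlinarith
  have hd0 : (0 : ℤ) < d := by nlinarith
  have hcop : IsCoprime (d : ℤ) (p : ℤ) := ⟨-1, k, by rw [← hdz]; ring⟩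
  have h1 : (d : ℤ) ∣ (E : ℤ) * (n + k) * p := by
    have h2 : (E : ℤ) * (n + k) * p = (E : ℤ) * (1 + n * p) + E * d := by
      have : (k : ℤ) * p = d + 1 := hdz.symm
      linear_combination (E : ℤ) * this
    rw [h2]
    exact dvd_add hddz (dvd_mul_left _ _)
  have h2 : (d : ℤ) ∣ (E : ℤ) * (n + k) := hcop.dvd_of_dvd_mul_right h1
  have h3 := Int.le_of_dvd (mul_pos (by linarith) (by linarith)) h2
  have h4 : 2 * (E : ℤ) + 1 ≤ p := by nlinarith
  have h5 : 2 * (E : ℤ) * k ≤ ((p : ℤ) - 1) * k := mul_le_mul_of_nonneg_right (by linarith) (by linarith)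
  nlinarith

open _root_.Classical in
/-- If the sum of an irreducible character over a subgroup vanishes, then so do the twisted sums. -/
theorem sum_mul_eq_zero [Fintype G] (χ : IrrCharacter G) (K : Subgroup G)
    (h0 : ∑ g ∈ Finset.univ.filter (fun g : G => g ∈ K), (χ : G → ℂ) g = 0) (y : G) :
    ∑ g ∈ Finset.univ.filter (fun g : G => g ∈ K), (χ : G → ℂ) (g * y) = 0 := by
  obtain ⟨χ, n, ρ, hρ, rfl⟩ := χ
  letI : Fintype K := Fintype.ofFinite K
  have h1 := classInner_restrict_one_eq_finrank ρ K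
  rw [classInner_def] at h1
  simp only [map_one, mul_one] at h1
  rw [sum_filter_subgroup K] at h0
  rw [h0, mul_zero] at h1
  have h2 : Module.finrank ℂ (Representation.invariants (MonoidHom.comp ρ K.subtype)) = 0 := by
    exact_mod_cast h1.symm
  have h3 : Representation.invariants (MonoidHom.comp ρ K.subtype) = ⊥ :=
    Submodule.finrank_eq_zero.mp h2
  have h4 : ∑ k : K, ρ (k : G) = 0 := by
    apply LinearMap.ext
    intro v
    have h5 : (∑ k : K, ρ (k : G)) v ∈ Representation.invariants (MonoidHom.comp ρ K.subtype) := by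
      intro k
      simp only [MonoidHom.comp_apply, Subgroup.subtype_apply, LinearMap.sum_apply, map_sum]
      have h6 : ∀ k' : K, ρ (k : G) (ρ (k' : G) v) = ρ ((k * k' : K) : G) v := by
        intro k'
        simp [map_mul]
      simp only [h6]
      exact Equiv.sum_comp (Equiv.mulLeft k) (fun k' : K => ρ (k' : G) v)
    rw [h3, Submodule.mem_bot] at h5
    simpa using h5
  rw [sum_filter_subgroup K]
  have h7 : ∀ k : K, ρ.character ((k : G) * y) = LinearMap.trace ℂ (Fin n → ℂ) (ρ (k : G) ∘ₗ ρ y) := by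
    intro k
    simp [Representation.character, map_mul, Module.End.mul_eq_comp]
  simp only [h7]
  have h8 : ∑ k : K, (ρ (k : G) ∘ₗ ρ y) = (∑ k : K, ρ (k : G)) ∘ₗ ρ y := by
    apply LinearMap.ext
    intro v
    simp [LinearMap.sum_apply]
  rw [← map_sum, h8, h4, LinearMap.zero_comp, map_zero]

end Two

/-- In a simple group a faithful-type argument: an irreducible character which is not constant
detects the identity. -/
theorem eq_one_of_char_eq_deg {G : Type u} [Group G] [Finite G] [IsSimpleGroup G] (χ : IrrCharacter G) {y w : G}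
    (hy : (χ : G → ℂ) y = (χ : G → ℂ) 1) (hw : (χ : G → ℂ) w ≠ (χ : G → ℂ) 1) : y = 1 := by
  obtain ⟨χ, hχ⟩ := χ
  obtain ⟨m, ρ, hρ, rfl⟩ := hχ
  change ρ.character y = ρ.character 1 at hy
  change ρ.character w ≠ ρ.character 1 at hw
  have h1 : ρ.character 1 = (Module.finrank ℂ (Fin m → ℂ) : ℂ) := by
    simp [Representation.character]
  rw [h1] at hy hw
  have h2 : ∀ g, ρ.character g = (Module.finrank ℂ (Fin m → ℂ) : ℂ) ↔ ρ g = LinearMap.id := fun g =>
    character_eq_finrank_iff ρ g (isOfFinOrder_of_finite g)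
  let K : Subgroup G :=
    { carrier := {g | ρ g = LinearMap.id}
      mul_mem' := by
        intro a b ha hb
        simp only [Set.mem_setOf_eq] at ha hb ⊢
        rw [map_mul, ha, hb]
        rfl
      one_mem' := by
        simp only [Set.mem_setOf_eq, map_one]
        rfl
      inv_mem' := by
        intro a ha
        simp only [Set.mem_setOf_eq] at ha ⊢
        have h3 : ρ a⁻¹ * ρ a = 1 := by rw [← map_mul, inv_mul_cancel, map_one]
        rw [ha] at h3
        exact h3 }
  have hK : K.Normal := by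
    constructor
    intro a ha g
    change ρ a = LinearMap.id at ha
    change ρ (g * a * g⁻¹) = LinearMap.id
    rw [map_mul, map_mul, ha]
    have h3 : ρ g * ρ g⁻¹ = 1 := by rw [← map_mul, mul_inv_cancel, map_one]
    exact h3
  rcases IsSimpleGroup.eq_bot_or_eq_top_of_normal K hK with h3 | h3
  · have : y ∈ K := (h2 y).1 hy
    rw [h3] at this
    exact this
  · exfalso
    apply hw
    rw [h2]
    have : w ∈ K := by rw [h3]; trivial
    exact this

section Main

variable [Fintype G] [IsSimpleGroup G] [hp : Fact p.Prime]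

open _root_.Classical in
/-- **With at least `2 p + 1` Sylow subgroups**, an element of order `p` is self-centralizing. -/
theorem cent_eq_of_ge_two (hnc : ¬ IsMulCommutative G) (hz : orderOf z = p) (hsq : ¬ p ^ 2 ∣ Nat.card G)
    {e c n : ℕ} (he1 : e ≠ 1) (hN : Nat.card (normalizer ((zpowers z : Subgroup G) : Set G)) =
      e * Nat.card (centralizer ({z} : Set G)))
    (hC : Nat.card (centralizer ({z} : Set G)) = p * c)
    (hcardG : Nat.card G = p * ((e * c) * (1 + n * p))) (hn2 : 2 ≤ n) (hbig : (e * c) * n < p) :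
    centralizer ({z} : Set G) = zpowers z := by
  have hpr := hp.out
  have hp0 := hpr.pos
  obtain ⟨M, hM⟩ := exists_isPModular p hpr
  haveI hMp : M.IsPrime := hM.2.1.isPrime
  obtain ⟨X, Y, δ, ε, deg, hdeg, hB, hdisj, hXc, hYt, he0, hXd, hε, hYdeg, hYeq, hrel, hYsum⟩ :=
    block_ext hM hz hsq e hN
  have hc0 : 0 < c := by
    rcases Nat.eq_zero_or_pos c with h | h
    · rw [h, mul_zero] at hC
      have : 0 < Nat.card (centralizer ({z} : Set G)) := Nat.card_pos
      omega
    · exact h
  have hE0 : 0 < e * c := Nat.mul_pos he0 hc0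
  have hE2 : 2 * (e * c) < p := by
    have : (e * c) * 2 ≤ (e * c) * n := Nat.mul_le_mul_left _ hn2
    omega
  have he2 : 2 ≤ e := by omega
  have hep : e ≤ e * c := Nat.le_mul_of_pos_right _ hc0
  have hp5 : 5 ≤ p := by omega
  have hdone : deg (oneIrr G) = 1 := by
    have h2 : ((oneIrr G : IrrCharacter G) : G → ℂ) 1 = 1 := rfl
    have h3 := (hdeg (oneIrr G)).1
    rw [h2] at h3
    exact_mod_cast h3.symm
  have hdeg1 : ∀ χ : IrrCharacter G, χ ≠ oneIrr G → deg χ ≠ 1 := by
    intro χ hχ hd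
    apply Lib.SmallSimple.QC.deg_ne_one hnc hχ
    rw [(hdeg χ).1, hd]
    simp
  have hone_val : ∀ g : G, ((oneIrr G : IrrCharacter G) : G → ℂ) g = 1 := fun g => rfl
  -- the principal character is in `X`
  have hX1 : oneIrr G ∈ X := by
    by_contra hX1
    have hY1 : oneIrr G ∈ Y := ((hB _).1 (mem_blockOf_self (oneIrr G))).resolve_left hX1
    have hYall : ∀ θ ∈ Y, θ = oneIrr G := by
      intro θ hθ
      by_contra hne
      apply hdeg1 θ hne
      have h1 := hYeq θ hθ _ hY1 1 (by simpa using hpr.one_lt.ne')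
      rw [hone_val, (hdeg θ).1] at h1
      exact_mod_cast h1
    have hYs : Y = {oneIrr G} := by
      ext θ
      simp only [Finset.mem_singleton]
      exact ⟨hYall θ, fun h => h ▸ hY1⟩
    have hs1 : Y.card = 1 := by rw [hYs, Finset.card_singleton]
    rw [hs1, one_mul] at hYt
    omega
  have hδ1 : δ (oneIrr G) = 1 := by
    obtain ⟨h1, h2, -⟩ := hXd _ hX1
    rw [hdone] at h2
    rcases h1 with h1 | h1
    · exact h1
    · exfalso
      rw [h1] at h2
      have h3 := Int.modEq_iff_dvd.mp h2.symm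
      have e : ((1 : ℕ) : ℤ) - -1 = 2 := by norm_num
      rw [e] at h3
      have h4 : p ∣ 2 := by exact_mod_cast h3
      have := Nat.le_of_dvd (by norm_num) h4
      omega
  -- the degrees in `X`
  have hdvdE : ∀ χ : IrrCharacter G, ¬ p ∣ deg χ → deg χ ∣ (e * c) * (1 + n * p) := by
    intro χ hnd
    have h1 := (hdeg χ).2.2
    rw [hcardG] at h1
    exact ((Nat.Prime.coprime_iff_not_dvd hpr).2 hnd).symm.dvd_of_dvd_mul_left h1
  have hclass : ∀ χ ∈ X, χ ≠ oneIrr G → (δ χ = 1 ∧ deg χ = 1 + n * p) ∨ (δ χ = -1 ∧ deg χ + 1 = p) := by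
    intro χ hχ h1
    have hd := (hXd χ hχ).2.1
    have hd0 := (hdeg χ).2.1
    have hd1 := hdeg1 χ h1
    have hpz : (5 : ℤ) ≤ p := by exact_mod_cast hp5
    rcases (hXd χ hχ).1 with hs | hs
    · left
      refine ⟨hs, ?_⟩
      rw [hs] at hd
      obtain ⟨b, hb⟩ := Int.modEq_iff_dvd.mp hd.symm
      have hb0 : 0 ≤ b := by
        by_contra hneg
        push Not at hneg
        have e : (deg χ : ℤ) = 1 + p * b := by linarith
        have e2 : (1 : ℤ) ≤ deg χ := by exact_mod_cast Nat.pos_of_ne_zero hd0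
        have e3 : (p : ℤ) * b ≤ p * (-1) := mul_le_mul_of_nonneg_left (by omega) (by omega)
        linarith
      obtain ⟨k, rfl⟩ := Int.eq_ofNat_of_zero_le hb0
      have e : deg χ = k * p + 1 := by
        have e1 : (deg χ : ℤ) = (k : ℤ) * p + 1 := by linarith
        exact_mod_cast e1
      have hk : 1 ≤ k := by
        rcases Nat.eq_zero_or_pos k with h | h
        · subst h
          simp at e
          exact absurd e hd1
        · exact h
      have hnd : ¬ p ∣ deg χ := by
        rw [e]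
        intro hc'
        have := (Nat.dvd_add_right (dvd_mul_left p k)).1 hc'
        have := Nat.le_of_dvd (by norm_num) this
        omega
      have hkn := plus2 hE0 (by omega) hbig hk (by rw [← e]; exact hdvdE χ hnd)
      rw [e, hkn]
      ring
    · right
      refine ⟨hs, ?_⟩
      rw [hs] at hd
      obtain ⟨b, hb⟩ := Int.modEq_iff_dvd.mp hd.symm
      have hb0 : 0 < b := by
        by_contra hneg
        push Not at hneg
        have e : (deg χ : ℤ) + 1 = p * b := by linarith
        have e2 : (1 : ℤ) ≤ deg χ := by exact_mod_cast Nat.pos_of_ne_zero hd0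
        have e3 : (p : ℤ) * b ≤ p * 0 := mul_le_mul_of_nonneg_left hneg (by omega)
        linarith
      obtain ⟨k, rfl⟩ := Int.eq_ofNat_of_zero_le hb0.le
      have e : deg χ + 1 = k * p := by
        have e1 : (deg χ : ℤ) + 1 = (k : ℤ) * p := by linarith
        exact_mod_cast e1
      have hk : 1 ≤ k := by
        have : (0 : ℤ) < (k : ℤ) := hb0
        exact_mod_cast this
      have hnd : ¬ p ∣ deg χ := by
        intro hc'
        have e3 : p ∣ deg χ + 1 := ⟨k, by rw [e, mul_comm]⟩
        have := (Nat.dvd_add_right hc').1 e3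
        have := Nat.le_of_dvd (by norm_num) this
        omega
      have hkn := minus2 hE0 hn2 hbig hk e (hdvdE χ hnd)
      rw [e, hkn, one_mul]
  -- there is a character with sign minus
  obtain ⟨θ₀, hθ₀⟩ : Y.Nonempty := by
    rw [← Finset.card_pos]
    rcases Nat.eq_zero_or_pos Y.card with h | h
    · rw [h, zero_mul] at hYt
      omega
    · exact h
  have hminus : ∃ χ ∈ X, δ χ = -1 := by
    by_contra hno
    push Not at hno
    have hplus : ∀ χ ∈ X.erase (oneIrr G), (δ χ : ℂ) * (χ : G → ℂ) 1 = ((1 + n * p : ℕ) : ℂ) := by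
      intro χ hχ
      have h1 := Finset.ne_of_mem_erase hχ
      have h2 := Finset.mem_of_mem_erase hχ
      rcases hclass χ h2 h1 with h3 | h3
      · rw [h3.1, (hdeg χ).1, h3.2]
        push_cast
        ring
      · exact absurd h3.1 (hno χ h2)
    have h1 := hrel θ₀ hθ₀ 1 (by simpa using hpr.one_lt.ne')
    rw [← Finset.add_sum_erase X _ hX1, Finset.sum_congr rfl hplus, Finset.sum_const, Finset.card_erase_of_mem hX1,
      hXc, hδ1, hone_val, (hdeg θ₀).1] at h1
    obtain ⟨Xd, hXd'⟩ : ∃ Xd, Xd = deg θ₀ := ⟨_, rfl⟩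
    rw [← hXd'] at h1
    have h2 : ε * (Xd : ℤ) = 1 + ((e : ℤ) - 1) * (1 + n * p) := by
      have h3 : ((ε * (Xd : ℤ) : ℤ) : ℂ) = ((1 + ((e : ℤ) - 1) * (1 + n * p) : ℤ) : ℂ) := by
        push_cast
        rw [h1]
        simp only [nsmul_eq_mul]
        rw [Nat.cast_sub (by omega : 1 ≤ e)]
        push_cast
        ring
      exact_mod_cast h3
    have hX0 : 1 ≤ Xd := by
      rw [hXd']
      exact Nat.pos_of_ne_zero (hdeg θ₀).2.1
    have hX0z : (1 : ℤ) ≤ Xd := by exact_mod_cast hX0
    have he2z : (2 : ℤ) ≤ e := by exact_mod_cast he2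
    have hmz : (1 : ℤ) ≤ 1 + (n : ℤ) * p := by
      have : (0 : ℤ) ≤ (n : ℤ) * p := by positivity
      linarith
    have hpos : 0 < 1 + ((e : ℤ) - 1) * (1 + n * p) := by nlinarith
    have hε1 : ε = 1 := by
      rcases hε with h | h
      · exact h
      · exfalso
        rw [h] at h2
        linarith
    rw [hε1, one_mul] at h2
    have hXv : Xd = 1 + (e - 1) * (1 + n * p) := by
      have h3 : ((Xd : ℕ) : ℤ) = ((1 + (e - 1) * (1 + n * p) : ℕ) : ℤ) := by
        rw [h2]
        push_cast [Nat.cast_sub (by omega : 1 ≤ e)]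
        ring
      exact_mod_cast h3
    have hnd : ¬ p ∣ Xd := by
      intro hd
      have h3 := hYdeg θ₀ hθ₀
      rw [← hXd', hε1, one_mul] at h3
      have h4 : (p : ℤ) ∣ (Xd : ℤ) := by exact_mod_cast hd
      have h5 : (p : ℤ) ∣ (e : ℤ) := (Int.ModEq.dvd_iff h3).1 h4
      have h6 : p ∣ e := by exact_mod_cast h5
      have := Nat.le_of_dvd he0 h6
      omega
    have hdv : Xd ∣ (e * c) * (1 + n * p) := by
      rw [hXd']
      apply hdvdE
      rw [← hXd']
      exact hnd
    have hcop : Nat.Coprime Xd (1 + n * p) := by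
      rw [hXv]
      simp
    have hdv2 : Xd ∣ e * c := hcop.dvd_of_dvd_mul_right hdv
    have hle := Nat.le_of_dvd hE0 hdv2
    have hge : 1 * (1 + n * p) ≤ (e - 1) * (1 + n * p) := Nat.mul_le_mul_right _ (by omega)
    have hnp : 2 * p ≤ n * p := Nat.mul_le_mul_right _ hn2
    omega
  obtain ⟨χ₁, hχ₁, hδ₁⟩ := hminus
  have hχ₁1 : χ₁ ≠ oneIrr G := by
    rintro rfl
    rw [hδ1] at hδ₁
    norm_num at hδ₁
  have hd₁ : deg χ₁ + 1 = p := by
    rcases hclass χ₁ hχ₁ hχ₁1 with h | h
    · rw [h.1] at hδ₁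
      norm_num at hδ₁
    · exact h.2
  have hval₁ : ∀ u : G, u ∈ zpowers z → u ≠ 1 → (χ₁ : G → ℂ) u = -1 := by
    intro u hu hu1
    rw [(hXd χ₁ hχ₁).2.2 u hu hu1, hδ₁]
    norm_num
  have hPsplit : ∀ F : G → ℂ, ∑ g ∈ Finset.univ.filter (fun g : G => g ∈ zpowers z), F g =
      F 1 + ∑ u ∈ Finset.univ.filter (fun u : G => u ∈ zpowers z ∧ u ≠ 1), F u := by
    intro F
    have h2 : Finset.univ.filter (fun g : G => g ∈ zpowers z) =
        insert 1 (Finset.univ.filter (fun u : G => u ∈ zpowers z ∧ u ≠ 1)) := by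
      ext u
      simp only [Finset.mem_filter, Finset.mem_univ, true_and, Finset.mem_insert]
      constructor
      · intro h
        by_cases hu : u = 1
        · exact Or.inl hu
        · exact Or.inr ⟨h, hu⟩
      · rintro (h | h)
        · rw [h]
          exact one_mem _
        · exact h.1
    rw [h2, Finset.sum_insert (by simp)]
  have hcardPn := card_Pn hz hpr
  have hPn : ((Finset.univ.filter (fun u : G => u ∈ zpowers z ∧ u ≠ 1)).card : ℂ) = (p : ℂ) - 1 := by
    rw [← hcardPn]
    push_cast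
    ring
  have hd₁c : (deg χ₁ : ℂ) = (p : ℂ) - 1 := by
    rw [← hd₁]
    push_cast
    ring
  have hsum0 : ∑ g ∈ Finset.univ.filter (fun g : G => g ∈ zpowers z), (χ₁ : G → ℂ) g = 0 := by
    rw [hPsplit, (hdeg χ₁).1, hd₁c, Finset.sum_congr rfl (fun u hu => hval₁ u (Finset.mem_filter.mp hu).2.1
      (Finset.mem_filter.mp hu).2.2), Finset.sum_const, nsmul_eq_mul, hPn]
    ring
  -- the elements of order prime to `p` in the centralizer are trivial
  have hχB : χ₁ ∈ principalBlock M G := (hB χ₁).2 (Or.inl hχ₁)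
  have hreg : ∀ y : G, Commute y z → ¬ p ∣ orderOf y → y = 1 := by
    intro y hy hyo
    have h1 := sum_mul_eq_zero χ₁ (zpowers z) hsum0 y
    rw [hPsplit, one_mul] at h1
    obtain ⟨K, hK⟩ := exists_compK (p := p) hz hsq
    have hyK : y ∈ K := hK.reg y hy hyo
    have h2 : ∀ u ∈ Finset.univ.filter (fun u : G => u ∈ zpowers z ∧ u ≠ 1),
        (χ₁ : G → ℂ) (u * y) = -1 := by
      intro u hu
      rw [Finset.mem_filter] at hu
      have huo := orderOf_of_mem hpr hz hu.2.1 hu.2.2
      rw [irr_mul_of_principal hM ⟨1, by rw [huo, pow_one]⟩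
        (mem_core_of_compK hK hz hu.2.1 hu.2.2 hyK) χ₁ hχB]
      exact hval₁ u hu.2.1 hu.2.2
    rw [Finset.sum_congr rfl h2, Finset.sum_const, nsmul_eq_mul, hPn] at h1
    have h3 : (χ₁ : G → ℂ) y = (deg χ₁ : ℂ) := by
      rw [hd₁c]
      linear_combination h1
    refine eq_one_of_char_eq_deg χ₁ (w := z) (by rw [h3, (hdeg χ₁).1]) ?_
    have hz1 : z ≠ 1 := by
      rintro rfl
      rw [orderOf_one] at hz
      exact hpr.one_lt.ne hz
    rw [hval₁ z (mem_zpowers z) hz1, (hdeg χ₁).1, hd₁c]
    intro h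
    have h5 : ((p : ℂ)) = 0 := by linear_combination -h
    have h6 : p = 0 := by exact_mod_cast h5
    omega
  -- the centralizer is a `p`-group
  have hpow : ∀ g : G, g ∈ centralizer {z} → ∃ k, orderOf g = p ^ k := by
    intro g hg
    have hgz : Commute g z := (mem_centralizer_singleton_iff.mp hg)
    by_contra hno
    obtain ⟨r, hr, hrd, hrp⟩ : ∃ r, r.Prime ∧ r ∣ orderOf g ∧ r ≠ p := by
      by_contra h
      push Not at h
      exact hno ⟨_, Nat.eq_prime_pow_of_unique_prime_dvd (orderOf_pos g).ne' (fun {d} hd hdo => h d hd hdo)⟩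
    have ho : orderOf (g ^ (orderOf g / r)) = r := orderOf_pow_orderOf_div (orderOf_pos g).ne' hrd
    have h1 := hreg (g ^ (orderOf g / r)) (hgz.pow_left _) (by
      rw [ho]
      intro hd
      exact hrp ((Nat.prime_dvd_prime_iff_eq hpr hr).1 hd).symm)
    rw [h1, orderOf_one] at ho
    exact hr.one_lt.ne ho
  have hpg : IsPGroup p (centralizer {z}) := by
    rintro ⟨g, hg⟩
    obtain ⟨k, hk⟩ := hpow g hg
    refine ⟨k, ?_⟩
    apply Subtype.ext
    simp only [SubmonoidClass.coe_pow, OneMemClass.coe_one]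
    rw [← hk, pow_orderOf_eq_one]
  obtain ⟨j, hj⟩ := IsPGroup.iff_card.mp hpg
  have hdvd : Nat.card (centralizer {z}) ∣ Nat.card G := Subgroup.card_subgroup_dvd_card _
  have hj1 : j ≤ 1 := by
    by_contra hj1
    apply hsq
    refine dvd_trans (pow_dvd_pow p (by omega : 2 ≤ j)) ?_
    rw [← hj]
    exact hdvd
  have hle : zpowers z ≤ centralizer {z} := by
    rw [zpowers_le, mem_centralizer_singleton_iff]
  symm
  apply Subgroup.eq_of_le_of_card_ge hle
  rw [hj, Nat.card_zpowers, hz]
  calc p ^ j ≤ p ^ 1 := Nat.pow_le_pow_right hpr.pos hj1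
    _ = p := pow_one p

end Main

end Cfsg.Agent.Lib.BR
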