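import Cfsg.Agent.Lib.BR.Small

/-!
# Tools for the groups of order `p * r * q ^ b`
-/

set_option autoImplicit false
set_option linter.unusedSectionVars false
set_option linter.style.haveILetI false
set_option linter.unusedSimpArgs false
set_option linter.unnecessarySimpa false
set_option linter.unusedVariables false
set_option maxSynthPendingDepth 3

open scoped ComplexConjugate
open Subgroup

namespace Cfsg.Agent.Lib.BR

open Cfsg (classInner IsCharacter IsIrrCharacter IrrCharacter IsClassFunction indFun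
  extendByZero IsGeneralizedCharacter IsPModular principalBlock)
open Cfsg.Agent.Lib.Char
open Cfsg.Agent.Lib.Block hiding tr
open Cfsg.Agent.Lib.SmallSimple.BB
open Cfsg.Agent.Lib.FF

universe u

variable {G : Type u} [Group G] {p : ℕ} {z : G}

section Scalar

variable [Finite G] [IsSimpleGroup G]

/-- An element on which a non-constant irreducible character has maximal norm is trivial. -/
theorem eq_one_of_norm_eq_deg (hnc : ¬ IsMulCommutative G) (χ : IrrCharacter G) {y w : G}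
    (hw : (χ : G → ℂ) w ≠ (χ : G → ℂ) 1) (hy : ‖(χ : G → ℂ) y‖ = ‖(χ : G → ℂ) 1‖) : y = 1 := by
  obtain ⟨χ, hχ⟩ := χ
  obtain ⟨m, ρ, hρ, rfl⟩ := hχ
  change ‖ρ.character y‖ = ‖ρ.character 1‖ at hy
  change ρ.character w ≠ ρ.character 1 at hw
  have h1 : ρ.character 1 = (Module.finrank ℂ (Fin m → ℂ) : ℂ) := by
    simp [Representation.character]
  have h2 : ‖ρ.character y‖ = (Module.finrank ℂ (Fin m → ℂ) : ℝ) := by
    rw [hy, h1]
    simp
  obtain ⟨ω, hω⟩ := (norm_character_eq_iff ρ y (isOfFinOrder_of_finite y)).1 h2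
  -- `y` is central
  have hcen : ∀ g : G, g * y * g⁻¹ * y⁻¹ = 1 := by
    intro g
    refine eq_one_of_char_eq_deg ⟨ρ.character, ⟨m, ρ, hρ, rfl⟩⟩ (w := w) ?_ hw
    change ρ.character (g * y * g⁻¹ * y⁻¹) = ρ.character 1
    rw [h1, character_eq_finrank_iff ρ _ (isOfFinOrder_of_finite _)]
    have h3 : ρ y * ρ y⁻¹ = 1 := by rw [← map_mul, mul_inv_cancel, map_one]
    have h4 : ρ g * ρ g⁻¹ = 1 := by rw [← map_mul, mul_inv_cancel, map_one]
    rw [map_mul, map_mul, map_mul, hω]
    have h5 : (ρ g * (ω • LinearMap.id)) * ρ g⁻¹ * ρ y⁻¹ = (ω • LinearMap.id) * ρ y⁻¹ := by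
      have h6 : ρ g * (ω • (LinearMap.id : (Fin m → ℂ) →ₗ[ℂ] (Fin m → ℂ))) =
          (ω • LinearMap.id) * ρ g := by
        apply LinearMap.ext
        intro v
        simp
      rw [h6, mul_assoc (ω • LinearMap.id), h4, mul_one]
    rw [h5]
    rw [hω] at h3
    exact h3
  have hZ : y ∈ center G := by
    rw [mem_center_iff]
    intro g
    have := hcen g
    rw [mul_inv_eq_one, mul_inv_eq_iff_eq_mul] at this
    exact this
  rcases IsSimpleGroup.eq_bot_or_eq_top_of_normal (center G) inferInstance with h | h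
  · rw [h] at hZ
    exact hZ
  · exfalso
    apply hnc
    refine ⟨⟨fun a b => ?_⟩⟩
    have : a ∈ center G := by rw [h]; trivial
    rw [mem_center_iff] at this
    exact (this b).symm

end Scalar

section Prod

variable [Fintype G]

open _root_.Classical in
/-- The sum of a character over the product of the cyclic group and a commuting group of coprime order. -/
theorem exists_fx_prod (hpr : p.Prime) (hz : orderOf z = p) {y : G} (hy : Commute y z) (hyo : ¬ p ∣ orderOf y)
    (χ : IrrCharacter G)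
    (hval : ∀ b ∈ zpowers y, ∀ u ∈ zpowers z, u ≠ 1 → (χ : G → ℂ) (u * b) = (χ : G → ℂ) u) :
    ∃ f : ℕ, f ≤ fx χ (zpowers z) ∧ (p : ℂ) * (f : ℂ) = (fx χ (zpowers y) : ℂ) +
      ∑ u ∈ Finset.univ.filter (fun u : G => u ∈ zpowers z ∧ u ≠ 1), (χ : G → ℂ) u := by
  haveI hA : Fintype (zpowers z) := Fintype.ofFinite _
  haveI hB : Fintype (zpowers y) := Fintype.ofFinite _
  have hcomm : ∀ (a : zpowers z) (b : zpowers y), Commute ((zpowers z).subtype a) ((zpowers y).subtype b) := by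
    rintro ⟨a, ha⟩ ⟨b, hb⟩
    obtain ⟨i, rfl⟩ := mem_zpowers_iff.mp ha
    obtain ⟨j, rfl⟩ := mem_zpowers_iff.mp hb
    exact (hy.symm.zpow_zpow i j)
  obtain ⟨φ, hφ⟩ : ∃ φ : zpowers z × zpowers y →* G, φ = MonoidHom.noncommCoprod _ _ hcomm := ⟨_, rfl⟩
  have hφv : ∀ a b, φ (a, b) = (a : G) * (b : G) := by
    intro a b
    rw [hφ]
    rfl
  have hinj : Function.Injective φ := by
    rw [injective_iff_map_eq_one]
    rintro ⟨a, b⟩ h
    rw [hφv] at h
    have hab : (a : G) = (b : G)⁻¹ := eq_inv_of_mul_eq_one_left h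
    have h1 : orderOf (a : G) ∣ p := by
      rw [← hz]
      exact orderOf_dvd_of_mem_zpowers a.2
    have h2 : orderOf (a : G) ∣ orderOf y := by
      rw [hab, orderOf_inv]
      exact orderOf_dvd_of_mem_zpowers b.2
    have h3 : orderOf (a : G) = 1 := by
      rcases (Nat.dvd_prime hpr).1 h1 with h3 | h3
      · exact h3
      · rw [h3] at h2
        exact absurd h2 hyo
    have h4 : (a : G) = 1 := orderOf_eq_one_iff.mp h3
    have h5 : (b : G) = 1 := by
      have := hab
      rw [h4] at this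
      exact inv_eq_one.mp this.symm
    ext
    · exact h4
    · exact h5
  obtain ⟨H, hH⟩ : ∃ H : Subgroup G, H = φ.range := ⟨_, rfl⟩
  have hAH : zpowers z ≤ H := by
    rw [hH]
    intro a ha
    exact ⟨(⟨a, ha⟩, 1), by rw [hφv]; simp⟩
  refine ⟨fx χ H, fx_anti χ hAH, ?_⟩
  have hsumH : ∀ F : G → ℂ, ∑ g ∈ Finset.univ.filter (fun g : G => g ∈ H), F g =
      ∑ b : zpowers y, ∑ a : zpowers z, F ((a : G) * (b : G)) := by
    intro F
    haveI : Fintype H := Fintype.ofFinite _
    rw [sum_filter_subgroup H]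
    have h1 : ∑ k : H, F k = ∑ x : zpowers z × zpowers y, F (φ x) := by
      subst hH
      exact (Equiv.sum_comp (MonoidHom.ofInjective hinj).toEquiv (fun k : φ.range => F k)).symm
    rw [h1, Fintype.sum_prod_type_right]
    simp only [hφv]
  have hsplit : ∀ F : G → ℂ, ∑ a : zpowers z, F (a : G) = F 1 +
      ∑ u ∈ Finset.univ.filter (fun u : G => u ∈ zpowers z ∧ u ≠ 1), F u := by
    intro F
    rw [← sum_filter_subgroup (zpowers z)]
    have h2 : Finset.univ.filter (fun g : G => g ∈ zpowers z) =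
        insert 1 (Finset.univ.filter (fun u : G => u ∈ zpowers z ∧ u ≠ 1)) := by
      ext u
      simp only [Finset.mem_filter, Finset.mem_univ, true_and, Finset.mem_insert]
      constructor
      · intro h
        by_cases hu : u = 1
        · exact Or.inl hu
        · exact Or.inr ⟨h, hu⟩
      · rintro (h | h)
        · rw [h]
          exact one_mem _
        · exact h.1
    rw [h2, Finset.sum_insert (by simp)]
  have hcardH : Nat.card H = p * Nat.card (zpowers y) := by
    rw [hH, Nat.card_congr (MonoidHom.ofInjective hinj).toEquiv.symm, Nat.card_prod, Nat.card_zpowers, hz]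
  have h1 := fx_sum χ H
  rw [hsumH, hcardH] at h1
  have h2 : ∀ b : zpowers y, ∑ a : zpowers z, (χ : G → ℂ) ((a : G) * (b : G)) =
      (χ : G → ℂ) (b : G) + ∑ u ∈ Finset.univ.filter (fun u : G => u ∈ zpowers z ∧ u ≠ 1), (χ : G → ℂ) u := by
    intro b
    rw [hsplit (fun g => (χ : G → ℂ) (g * (b : G))), one_mul]
    congr 1
    refine Finset.sum_congr rfl fun u hu => ?_
    rw [Finset.mem_filter] at hu
    exact hval b b.2 u hu.2.1 hu.2.2
  simp only [h2] at h1
  rw [Finset.sum_add_distrib, ← sum_filter_subgroup (zpowers y), fx_sum, Finset.sum_const, Finset.card_univ,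
    ← Nat.card_eq_fintype_card, nsmul_eq_mul] at h1
  have hB0 : ((Nat.card (zpowers y) : ℕ) : ℂ) ≠ 0 := by
    exact_mod_cast (Nat.card_pos (α := zpowers y)).ne'
  apply mul_left_cancel₀ hB0
  push_cast at h1
  linear_combination -h1

/-- If the fixed dimension is the degree then the character is the degree. -/
theorem char_eq_of_fx_eq (χ : IrrCharacter G) (K : Subgroup G) {D : ℕ} (hD : (χ : G → ℂ) 1 = D) (h : fx χ K = D)
    {y : G} (hy : y ∈ K) : (χ : G → ℂ) y = (χ : G → ℂ) 1 := by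
  classical
  haveI hK : Fintype K := Fintype.ofFinite _
  have h1 := fx_sum χ K
  rw [h, sum_filter_subgroup K] at h1
  have hχ := IsIrrCharacter.isCharacter χ.2
  have hle : ∀ k : K, ((χ : G → ℂ) k).re ≤ D := by
    intro k
    have h2 := IsCharacter.norm_le' hχ (k : G)
    rw [hD] at h2
    simp only [Complex.natCast_re] at h2
    exact le_trans (Complex.re_le_norm _) h2
  have h3 : ∑ k : K, ((χ : G → ℂ) k).re = (Nat.card K : ℝ) * D := by
    have := congrArg Complex.re h1
    simp only [Complex.re_sum] at this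
    rw [this]
    simp
  have h4 : ∑ k : K, ((D : ℝ) - ((χ : G → ℂ) k).re) = 0 := by
    rw [Finset.sum_sub_distrib, h3, Finset.sum_const, Finset.card_univ, ← Nat.card_eq_fintype_card, nsmul_eq_mul]
    ring
  have h5 := (Finset.sum_eq_zero_iff_of_nonneg (fun k _ => sub_nonneg.mpr (hle k))).1 h4 ⟨y, hy⟩ (Finset.mem_univ _)
  have h6 : ((χ : G → ℂ) y).re = D := by
    simp only at h5
    linarith
  have h7 := IsCharacter.norm_le' hχ y
  rw [hD] at h7
  simp only [Complex.natCast_re] at h7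
  rw [hD]
  apply Complex.ext
  · simpa using h6
  · have h8 : ‖(χ : G → ℂ) y‖ ^ 2 = ((χ : G → ℂ) y).re ^ 2 + ((χ : G → ℂ) y).im ^ 2 := by
      rw [← Complex.normSq_eq_norm_sq, Complex.normSq_apply]
      ring
    have h9 : ‖(χ : G → ℂ) y‖ ^ 2 ≤ (D : ℝ) ^ 2 := by
      apply pow_le_pow_left₀ (norm_nonneg _) h7
    rw [h6] at h8
    have h10 : ((χ : G → ℂ) y).im ^ 2 ≤ 0 := by linarith
    have h11 : ((χ : G → ℂ) y).im = 0 := by
      have := sq_nonneg ((χ : G → ℂ) y).im
      have h12 : ((χ : G → ℂ) y).im ^ 2 = 0 := le_antisymm h10 this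
      exact pow_eq_zero_iff (by norm_num) |>.1 h12
    simpa using h11

end Prod

section Reg

variable [Fintype G]

open _root_.Classical in
/-- The fixed dimension of the cyclic subgroup of order `p`. -/
theorem fx_P_eq (hz : orderOf z = p) (χ : IrrCharacter G) :
    (p : ℂ) * (fx χ (zpowers z) : ℂ) = (χ : G → ℂ) 1 +
      ∑ u ∈ Finset.univ.filter (fun u : G => u ∈ zpowers z ∧ u ≠ 1), (χ : G → ℂ) u := by
  have h1 := fx_sum χ (zpowers z)
  rw [Nat.card_zpowers, hz] at h1
  rw [← h1]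
  have h2 : Finset.univ.filter (fun g : G => g ∈ zpowers z) =
      insert 1 (Finset.univ.filter (fun u : G => u ∈ zpowers z ∧ u ≠ 1)) := by
    ext u
    simp only [Finset.mem_filter, Finset.mem_univ, true_and, Finset.mem_insert]
    constructor
    · intro h
      by_cases hu : u = 1
      · exact Or.inl hu
      · exact Or.inr ⟨h, hu⟩
    · rintro (h | h)
      · rw [h]
        exact one_mem _
      · exact h.1
  rw [h2, Finset.sum_insert (by simp)]

/-- An element of order prime to `p` in the centralizer being trivial gives the centralizer. -/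
theorem cent_of_reg (hpr : p.Prime) (hz : orderOf z = p) (hsq : ¬ p ^ 2 ∣ Nat.card G)
    (hreg : ∀ y : G, Commute y z → ¬ p ∣ orderOf y → y = 1) :
    centralizer ({z} : Set G) = zpowers z := by
  have hpow : ∀ g : G, g ∈ centralizer {z} → ∃ k, orderOf g = p ^ k := by
    intro g hg
    have hgz : Commute g z := (mem_centralizer_singleton_iff.mp hg)
    by_contra hno
    obtain ⟨r, hr, hrd, hrp⟩ : ∃ r, r.Prime ∧ r ∣ orderOf g ∧ r ≠ p := by
      by_contra h
      push Not at h
      exact hno ⟨_, Nat.eq_prime_pow_of_unique_prime_dvd (orderOf_pos g).ne' (fun {d} hd hdo => h d hd hdo)⟩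
    have ho : orderOf (g ^ (orderOf g / r)) = r := orderOf_pow_orderOf_div (orderOf_pos g).ne' hrd
    have h1 := hreg (g ^ (orderOf g / r)) (hgz.pow_left _) (by
      rw [ho]
      intro hd
      exact hrp ((Nat.prime_dvd_prime_iff_eq hpr hr).1 hd).symm)
    rw [h1, orderOf_one] at ho
    exact hr.one_lt.ne ho
  haveI hfp : Fact p.Prime := ⟨hpr⟩
  have hpg : IsPGroup p (centralizer {z}) := by
    rintro ⟨g, hg⟩
    obtain ⟨k, hk⟩ := hpow g hg
    refine ⟨k, ?_⟩
    apply Subtype.ext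
    simp only [SubmonoidClass.coe_pow, OneMemClass.coe_one]
    rw [← hk, pow_orderOf_eq_one]
  obtain ⟨j, hj⟩ := IsPGroup.iff_card.mp hpg
  have hdvd : Nat.card (centralizer {z}) ∣ Nat.card G := Subgroup.card_subgroup_dvd_card _
  have hj1 : j ≤ 1 := by
    by_contra hj1
    apply hsq
    refine dvd_trans (pow_dvd_pow p (by omega : 2 ≤ j)) ?_
    rw [← hj]
    exact hdvd
  have hle : zpowers z ≤ centralizer {z} := by
    rw [zpowers_le, mem_centralizer_singleton_iff]
  symm
  apply Subgroup.eq_of_le_of_card_ge hle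
  rw [hj, Nat.card_zpowers, hz]
  calc p ^ j ≤ p ^ 1 := Nat.pow_le_pow_right hpr.pos hj1
    _ = p := pow_one p

/-- A non-trivial irreducible character is not constant. -/
theorem exists_ne_of_ne_one (χ : IrrCharacter G) (h1 : χ ≠ oneIrr G) : ∃ w : G, (χ : G → ℂ) w ≠ (χ : G → ℂ) 1 := by
  by_contra h
  push Not at h
  have h2 := classInner_irr_of_ne χ.2 (oneIrr G).2 (fun e => h1 (Subtype.ext e))
  rw [classInner_def] at h2
  have h3 : ∀ g : G, (χ : G → ℂ) g * conj (((oneIrr G : IrrCharacter G) : G → ℂ) g) = (χ : G → ℂ) 1 := by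
    intro g
    rw [h g]
    have : ((oneIrr G : IrrCharacter G) : G → ℂ) g = 1 := rfl
    rw [this]
    simp
  simp only [h3] at h2
  rw [Finset.sum_const, Finset.card_univ, ← Nat.card_eq_fintype_card, nsmul_eq_mul, ← mul_assoc,
    inv_mul_cancel₀ (card_ne_zero_complex G), one_mul] at h2
  have h4 := (classInner_irr_self χ.2)
  rw [classInner_def] at h4
  have h5 : ∀ g : G, (χ : G → ℂ) g * conj ((χ : G → ℂ) g) = 0 := by
    intro g
    rw [h g, h2]
    simp
  simp only [h5] at h4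
  simp at h4

open _root_.Classical in
/-- Elements of the centralizer of order prime to `p` act trivially in a principal block character of small degree. -/
theorem reg_of_exceptional [IsSimpleGroup G] [hfp : Fact p.Prime] {M : Ideal Cfsg.AlgInt} (hM : IsPModular p M)
    (hz : orderOf z = p) (hsq : ¬ p ^ 2 ∣ Nat.card G) (θ : IrrCharacter G) (hθB : θ ∈ principalBlock M G)
    (hθ1 : θ ≠ oneIrr G) {D e : ℕ} (hD : (θ : G → ℂ) 1 = D)
    (hκ : (∑ u ∈ Finset.univ.filter (fun u : G => u ∈ zpowers z ∧ u ≠ 1), (θ : G → ℂ) u = -(D : ℂ)) ∨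
      (∑ u ∈ Finset.univ.filter (fun u : G => u ∈ zpowers z ∧ u ≠ 1), (θ : G → ℂ) u = (e : ℂ) ∧ D + e = p ∧ 0 < e))
    (y : G) (hy : Commute y z) (hyo : ¬ p ∣ orderOf y) : y = 1 := by
  have hpr := hfp.out
  obtain ⟨K, hK⟩ := exists_compK (p := p) hz hsq
  have hval : ∀ b ∈ zpowers y, ∀ u ∈ zpowers z, u ≠ 1 → (θ : G → ℂ) (u * b) = (θ : G → ℂ) u := by
    intro b hb u hu hu1
    obtain ⟨i, rfl⟩ := mem_zpowers_iff.mp hb
    have hbK : y ^ i ∈ K := by
      apply hK.reg
      · exact hy.zpow_left i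
      · intro hd
        apply hyo
        exact dvd_trans hd (orderOf_dvd_of_mem_zpowers hb)
    have huo := orderOf_of_mem hpr hz hu hu1
    exact irr_mul_of_principal hM ⟨1, by rw [huo, pow_one]⟩ (mem_core_of_compK hK hz hu hu1 hbK) θ hθB
  obtain ⟨f, hf, hfe⟩ := exists_fx_prod hpr hz hy hyo θ hval
  have hfP := fx_P_eq hz θ
  have hfyD : fx θ (zpowers y) = D := by
    rcases hκ with hκ | ⟨hκ, hDe, he⟩
    · rw [hκ, hD] at hfP
      rw [hκ] at hfe
      have h1 : (p : ℂ) * (fx θ (zpowers z) : ℂ) = 0 := by rw [hfP]; ring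
      have h2 : fx θ (zpowers z) = 0 := by
        have h3 : ((p * fx θ (zpowers z) : ℕ) : ℂ) = 0 := by
          push_cast
          exact h1
        have h4 : p * fx θ (zpowers z) = 0 := by exact_mod_cast h3
        rcases Nat.mul_eq_zero.mp h4 with h5 | h5
        · exact absurd h5 hpr.pos.ne'
        · exact h5
      have h3 : f = 0 := by omega
      rw [h3] at hfe
      have h4 : ((fx θ (zpowers y) : ℕ) : ℂ) = (D : ℂ) := by
        push_cast at hfe
        linear_combination -hfe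
      exact_mod_cast h4
    · rw [hκ, hD] at hfP
      rw [hκ] at hfe
      have h1 : ((p * fx θ (zpowers z) : ℕ) : ℂ) = ((p * 1 : ℕ) : ℂ) := by
        push_cast
        rw [hfP, mul_one, ← hDe]
        push_cast
        ring
      have h2 : p * fx θ (zpowers z) = p * 1 := by exact_mod_cast h1
      have h3 : fx θ (zpowers z) = 1 := Nat.eq_of_mul_eq_mul_left hpr.pos h2
      have h4 : ((p * f : ℕ) : ℂ) = ((fx θ (zpowers y) + e : ℕ) : ℂ) := by
        push_cast
        exact hfe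
      have h5 : p * f = fx θ (zpowers y) + e := by exact_mod_cast h4
      have h6 : f = 1 := by
        rcases Nat.eq_zero_or_pos f with h7 | h7
        · rw [h7] at h5
          omega
        · omega
      rw [h6, mul_one] at h5
      omega
  have h1 : (θ : G → ℂ) y = (θ : G → ℂ) 1 := char_eq_of_fx_eq θ (zpowers y) hD hfyD (mem_zpowers y)
  obtain ⟨w, hw⟩ := exists_ne_of_ne_one θ hθ1
  exact eq_one_of_char_eq_deg θ h1 hw

end Reg

open _root_.Classical in
/-- The data of the principal block of a self-centralizing element of prime order. -/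
structure BD0 [Fintype G] (p : ℕ) (z : G) (t s : ℕ) (Xs Ys : Finset (IrrCharacter G))
    (δ : IrrCharacter G → ℤ) (ε : ℤ) (deg : IrrCharacter G → ℕ) : Prop where
  hp : p.Prime
  hz : orderOf z = p
  hC : centralizer ({z} : Set G) = zpowers z
  hst : s * t + 1 = p
  hdeg : ∀ χ : IrrCharacter G, (χ : G → ℂ) 1 = deg χ ∧ deg χ ≠ 0 ∧ deg χ ∣ Nat.card G
  hdeg1 : ∀ χ : IrrCharacter G, deg χ = 1 → χ = oneIrr G
  hdisj : Disjoint Xs Ys
  hXc : Xs.card = t
  hYc : Ys.card = s
  hone : oneIrr G ∈ Xs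
  hδone : δ (oneIrr G) = 1
  hδ : ∀ χ ∈ Xs, δ χ = 1 ∨ δ χ = -1
  hXdeg : ∀ χ ∈ Xs, (deg χ : ℤ) ≡ δ χ [ZMOD p]
  hXval : ∀ χ ∈ Xs, ∀ u : G, u ∈ zpowers z → u ≠ 1 → (χ : G → ℂ) u = (δ χ : ℂ)
  hrest : ∀ χ : IrrCharacter G, χ ∉ Xs → χ ∉ Ys → ∀ u : G, u ∈ zpowers z → u ≠ 1 → (χ : G → ℂ) u = 0
  hε : ε = 1 ∨ ε = -1
  hYdeg : ∀ θ ∈ Ys, (deg θ : ℤ) ≡ ε * (t : ℤ) [ZMOD p]
  hYeq : ∀ θ ∈ Ys, ∀ θ' ∈ Ys, ∀ g : G, ¬ p ∣ orderOf g → (θ : G → ℂ) g = (θ' : G → ℂ) g
  hrel : ∀ θ ∈ Ys, ∀ g : G, ¬ p ∣ orderOf g →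
    (ε : ℂ) * (θ : G → ℂ) g = ∑ χ ∈ Xs, (δ χ : ℂ) * (χ : G → ℂ) g
  hYsum : ∀ θ ∈ Ys, ∑ u ∈ Finset.univ.filter (fun u : G => u ∈ zpowers z ∧ u ≠ 1), (θ : G → ℂ) u =
    -((ε : ℂ) * (t : ℂ))

namespace BD0

variable [Fintype G] {t s : ℕ} {Xs Ys : Finset (IrrCharacter G)} {δ : IrrCharacter G → ℤ} {ε : ℤ}
  {deg : IrrCharacter G → ℕ} (D : BD0 p z t s Xs Ys δ ε deg)

include D

open _root_.Classical in
/-- The number of non-trivial elements. -/
theorem card_Pn' : ((Finset.univ.filter (fun u : G => u ∈ zpowers z ∧ u ≠ 1)).card : ℂ) = (p : ℂ) - 1 := by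
  have h := card_Pn D.hz D.hp
  rw [← h]
  push_cast
  ring

open _root_.Classical in
/-- The sum over the non-trivial elements: `X`. -/
theorem sum_X {χ : IrrCharacter G} (hχ : χ ∈ Xs) :
    ∑ u ∈ Finset.univ.filter (fun u : G => u ∈ zpowers z ∧ u ≠ 1), (χ : G → ℂ) u = ((p : ℂ) - 1) * (δ χ : ℂ) := by
  rw [Finset.sum_congr rfl (fun u hu => D.hXval χ hχ u (Finset.mem_filter.mp hu).2.1
    (Finset.mem_filter.mp hu).2.2), Finset.sum_const, nsmul_eq_mul, D.card_Pn']

open _root_.Classical in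
/-- The sum over the non-trivial elements: the rest. -/
theorem sum_Z {χ : IrrCharacter G} (h1 : χ ∉ Xs) (h2 : χ ∉ Ys) :
    ∑ u ∈ Finset.univ.filter (fun u : G => u ∈ zpowers z ∧ u ≠ 1), (χ : G → ℂ) u = 0 := by
  apply Finset.sum_eq_zero
  intro u hu
  exact D.hrest χ h1 h2 u (Finset.mem_filter.mp hu).2.1 (Finset.mem_filter.mp hu).2.2

/-- The norm of the exceptional characters. -/
theorem sum_Y_norm {u : G} (hu : u ∈ zpowers z) (hu1 : u ≠ 1) :
    ∑ θ ∈ Ys, (θ : G → ℂ) u * conj ((θ : G → ℂ) u) = (p : ℂ) - (t : ℂ) := by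
  classical
  have h1 := second_orthogonality' u u
  rw [if_pos (IsConj.refl u), centralizer_of_mem D.hz D.hp hu hu1, D.hC, Nat.card_zpowers, D.hz] at h1
  have h2 : ∑ χ : IrrCharacter G, (χ : G → ℂ) u * conj ((χ : G → ℂ) u) =
      ∑ χ ∈ Xs, (χ : G → ℂ) u * conj ((χ : G → ℂ) u) + ∑ χ ∈ Ys, (χ : G → ℂ) u * conj ((χ : G → ℂ) u) := by
    rw [← Finset.sum_union D.hdisj]
    symm
    apply Finset.sum_subset (Finset.subset_univ _)
    intro χ _ hχ
    rw [Finset.mem_union] at hχ
    push Not at hχ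
    rw [D.hrest χ hχ.1 hχ.2 u hu hu1]
    simp
  have h3 : ∑ χ ∈ Xs, (χ : G → ℂ) u * conj ((χ : G → ℂ) u) = (t : ℂ) := by
    have h4 : ∀ χ ∈ Xs, (χ : G → ℂ) u * conj ((χ : G → ℂ) u) = 1 := by
      intro χ hχ
      rw [D.hXval χ hχ u hu hu1]
      rcases D.hδ χ hχ with h | h <;> simp [h]
    rw [Finset.sum_congr rfl h4, Finset.sum_const, D.hXc]
    simp
  rw [h2, h3] at h1
  linear_combination h1

end BD0

end Cfsg.Agent.Lib.BR
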