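import Cfsg.Agent.Lib.BR.Tens

/-!
# The tensor square of the exceptional characters
-/

set_option autoImplicit false
set_option linter.unusedSectionVars false
set_option linter.style.haveILetI false
set_option linter.unusedSimpArgs false
set_option linter.unnecessarySimpa false
set_option linter.unusedVariables false
set_option maxSynthPendingDepth 3

open scoped ComplexConjugate
open Subgroup

namespace Cfsg.Agent.Lib.BR

open Cfsg (classInner IsCharacter IsIrrCharacter IrrCharacter IsClassFunction indFun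
  extendByZero IsGeneralizedCharacter IsPModular principalBlock)
open Cfsg.Agent.Lib.Char
open Cfsg.Agent.Lib.Block hiding tr
open Cfsg.Agent.Lib.SmallSimple.BB
open Cfsg.Agent.Lib.FF

universe u

variable {G : Type u} [Group G] {p : ℕ} {z : G}

namespace BD0

variable [Fintype G] {t s : ℕ} {Xs Ys : Finset (IrrCharacter G)} {δ : IrrCharacter G → ℤ} {ε : ℤ}
  {deg : IrrCharacter G → ℕ} (D : BD0 p z t s Xs Ys δ ε deg)

include D

/-- The fixed dimension in the three classes. -/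
theorem fx_X {χ : IrrCharacter G} (hχ : χ ∈ Xs) :
    (p : ℤ) * (fx χ (zpowers z) : ℤ) = (deg χ : ℤ) + ((p : ℤ) - 1) * δ χ := by
  classical
  have h1 := fx_P_eq D.hz χ
  rw [D.sum_X hχ, (D.hdeg χ).1] at h1
  have h2 : (((p : ℤ) * (fx χ (zpowers z) : ℤ) : ℤ) : ℂ) = (((deg χ : ℤ) + ((p : ℤ) - 1) * δ χ : ℤ) : ℂ) := by
    push_cast
    exact h1
  exact_mod_cast h2

theorem fx_Y {θ : IrrCharacter G} (hθ : θ ∈ Ys) :
    (p : ℤ) * (fx θ (zpowers z) : ℤ) = (deg θ : ℤ) - ε * t := by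
  classical
  have h1 := fx_P_eq D.hz θ
  rw [D.hYsum θ hθ, (D.hdeg θ).1] at h1
  have h2 : (((p : ℤ) * (fx θ (zpowers z) : ℤ) : ℤ) : ℂ) = (((deg θ : ℤ) - ε * t : ℤ) : ℂ) := by
    push_cast
    rw [h1]
    ring
  exact_mod_cast h2

theorem fx_Z {χ : IrrCharacter G} (h1 : χ ∉ Xs) (h2 : χ ∉ Ys) : deg χ = p * fx χ (zpowers z) := by
  classical
  have h3 := fx_P_eq D.hz χ
  rw [D.sum_Z h1 h2, (D.hdeg χ).1, add_zero] at h3
  have h4 : ((deg χ : ℕ) : ℂ) = ((p * fx χ (zpowers z) : ℕ) : ℂ) := by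
    push_cast
    exact h3.symm
  exact_mod_cast h4

/-- The positivity of the defect of the degree against the fixed dimension. -/
theorem L_nonneg (hε1 : ε = 1) (hY : ∀ θ ∈ Ys, deg θ = t) (hs : 2 ≤ s) (ht : 2 ≤ t) {χ : IrrCharacter G}
    (h1 : χ ≠ oneIrr G) :
    0 ≤ (deg χ : ℤ) - ((t : ℤ) + 1) * (fx χ (zpowers z) : ℤ) ∧
      ((deg χ : ℤ) - ((t : ℤ) + 1) * (fx χ (zpowers z) : ℤ) = 0 →
        s = 2 ∧ χ ∈ Xs ∧ δ χ = 1 ∧ deg χ = p + 1) := by
  obtain ⟨s', rfl⟩ : ∃ s', s = s' + 1 := ⟨s - 1, by omega⟩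
  have hs' : 1 ≤ s' := by omega
  have hpz : (p : ℤ) = ((s' : ℤ) + 1) * t + 1 := by
    have := D.hst
    rw [← this]
    push_cast
    ring
  have hp0 : (0 : ℤ) < p := by exact_mod_cast D.hp.pos
  have ht0 : (0 : ℤ) < t := by exact_mod_cast (by omega : 0 < t)
  have hs0 : (0 : ℤ) < s' := by exact_mod_cast (by omega : 0 < s')
  have hd0 : deg χ ≠ 0 := (D.hdeg χ).2.1
  have hd1 : deg χ ≠ 1 := fun h => h1 (D.hdeg1 χ h)
  obtain ⟨f, hf⟩ : ∃ f, f = fx χ (zpowers z) := ⟨_, rfl⟩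
  rw [← hf]
  by_cases hX : χ ∈ Xs
  · have h2 := D.fx_X hX
    rw [← hf] at h2
    rcases D.hδ χ hX with h3 | h3
    · rw [h3] at h2
      have hdz : (deg χ : ℤ) = p * ((f : ℤ) - 1) + 1 := by linear_combination -h2
      have hf2 : 2 ≤ f := by
        by_contra hf2
        have hf3 : f = 0 ∨ f = 1 := by omega
        rcases hf3 with rfl | rfl
        · have : (deg χ : ℤ) = 1 - p := by rw [hdz]; push_cast; ring
          have h4 : (0 : ℤ) ≤ deg χ := by positivity
          have h5 : (2 : ℤ) ≤ p := by exact_mod_cast D.hp.two_le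
          omega
        · have : (deg χ : ℤ) = 1 := by rw [hdz]; push_cast; ring
          exact hd1 (by exact_mod_cast this)
      obtain ⟨k, rfl⟩ : ∃ k, f = k + 1 := ⟨f - 1, by omega⟩
      have hk : 1 ≤ k := by omega
      have hL : (deg χ : ℤ) - ((t : ℤ) + 1) * ((k + 1 : ℕ) : ℤ) = (t : ℤ) * ((k : ℤ) * s' - 1) := by
        rw [hdz, hpz]
        push_cast
        ring
      rw [hL]
      have h5 : (1 : ℤ) ≤ (k : ℤ) * s' := by
        have : 1 ≤ k * s' := Nat.mul_pos hk hs'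
        exact_mod_cast this
      refine ⟨mul_nonneg ht0.le (by linarith), fun h6 => ?_⟩
      have h7 : (k : ℤ) * s' - 1 = 0 := by
        rcases mul_eq_zero.mp h6 with h8 | h8
        · omega
        · exact h8
      have h8 : k * s' = 1 := by
        have : (k : ℤ) * s' = 1 := by linarith
        exact_mod_cast this
      have h9 : k = 1 := Nat.eq_one_of_mul_eq_one_right h8
      have h10 : s' = 1 := Nat.eq_one_of_mul_eq_one_left h8
      refine ⟨by omega, hX, h3, ?_⟩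
      subst h9
      have : (deg χ : ℤ) = (p : ℤ) + 1 := by rw [hdz]; push_cast; ring
      exact_mod_cast this
    · rw [h3] at h2
      have hdz : (deg χ : ℤ) = p * ((f : ℤ) + 1) - 1 := by linear_combination -h2
      have hL : (deg χ : ℤ) - ((t : ℤ) + 1) * (f : ℤ) =
          (t : ℤ) * ((s' : ℤ) * f) + (s' + 1) * t := by
        rw [hdz, hpz]
        ring
      have hfz : (0 : ℤ) ≤ f := by positivity
      have h5 : 0 < (t : ℤ) * ((s' : ℤ) * f) + (s' + 1) * t := by positivity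
      rw [hL]
      refine ⟨h5.le, fun h6 => ?_⟩
      omega
  · by_cases hYm : χ ∈ Ys
    · have h2 := D.fx_Y hYm
      rw [← hf, hY χ hYm, hε1, one_mul, sub_self] at h2
      have h3 : f = 0 := by
        rcases mul_eq_zero.mp h2 with h4 | h4
        · omega
        · exact_mod_cast h4
      rw [h3, hY χ hYm]
      push_cast
      constructor
      · simp
      · intro h6
        omega
    · have h2 := D.fx_Z hX hYm
      rw [← hf] at h2
      have hf0 : f ≠ 0 := by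
        rintro rfl
        exact hd0 (by rw [h2, mul_zero])
      have hfz : (0 : ℤ) < f := by exact_mod_cast Nat.pos_of_ne_zero hf0
      have hL : (deg χ : ℤ) - ((t : ℤ) + 1) * (f : ℤ) = (t : ℤ) * ((s' : ℤ) * f) := by
        rw [h2]
        push_cast
        rw [hpz]
        ring
      have h5 : 0 < (t : ℤ) * ((s' : ℤ) * f) := by positivity
      rw [hL]
      refine ⟨h5.le, fun h6 => ?_⟩
      omega

open _root_.Classical in
/-- **The tensor square of the exceptional characters** when they have degree `t`. -/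
theorem tensor (hε1 : ε = 1) (hY : ∀ θ ∈ Ys, deg θ = t) (hs : 2 ≤ s) (ht : 2 ≤ t) :
    ∃ m : IrrCharacter G → ℕ,
      (∀ g : G, ∑ θ ∈ Ys, (θ : G → ℂ) g * conj ((θ : G → ℂ) g) = ∑ χ : IrrCharacter G, (m χ : ℂ) * (χ : G → ℂ) g) ∧
      m (oneIrr G) = s ∧ s = 2 ∧
      (∀ χ : IrrCharacter G, χ ≠ oneIrr G → m χ ≠ 0 → χ ∈ Xs ∧ δ χ = 1 ∧ deg χ = p + 1) ∧
      ∃ χ : IrrCharacter G, χ ≠ oneIrr G ∧ m χ ≠ 0 := by
  obtain ⟨F, hFd⟩ : ∃ F : G → ℂ, F = fun g => ∑ θ ∈ Ys, (θ : G → ℂ) g * conj ((θ : G → ℂ) g) := ⟨_, rfl⟩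
  have hF : IsCharacter G F := by
    have h1 := IsCharacter.sum Ys (f := fun θ : IrrCharacter G => fun g => (θ : G → ℂ) g * conj ((θ : G → ℂ) g))
      (fun θ _ => IsCharacter.mul (IsIrrCharacter.isCharacter θ.2) (IsCharacter.conj_char (IsIrrCharacter.isCharacter θ.2)))
    convert h1 using 1
    rw [hFd]
    funext g
    simp [Finset.sum_apply]
  choose m hm using fun ψ : IrrCharacter G => classInner_isCharacter_nat hF (IsIrrCharacter.isCharacter ψ.2)
  have hexp : ∀ g : G, F g = ∑ χ : IrrCharacter G, (m χ : ℂ) * (χ : G → ℂ) g := by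
    intro g
    have h1 := congrFun (classFunction_eq_sum F (IsCharacter.isClassFunction hF)) g
    simp only [Finset.sum_apply, Pi.smul_apply, smul_eq_mul] at h1
    rw [h1]
    exact Finset.sum_congr rfl fun χ _ => by rw [hm χ]
  have hm1 : m (oneIrr G) = s := by
    have h1 := hm (oneIrr G)
    have h2 : classInner F ((oneIrr G : IrrCharacter G) : G → ℂ) = (s : ℂ) := by
      rw [classInner_def, hFd]
      have h3 : ∀ g : G, (∑ θ ∈ Ys, (θ : G → ℂ) g * conj ((θ : G → ℂ) g)) *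
          conj (((oneIrr G : IrrCharacter G) : G → ℂ) g) = ∑ θ ∈ Ys, (θ : G → ℂ) g * conj ((θ : G → ℂ) g) := by
        intro g
        have : ((oneIrr G : IrrCharacter G) : G → ℂ) g = 1 := rfl
        rw [this]
        simp
      simp only [h3]
      rw [Finset.sum_comm, Finset.mul_sum]
      have h4 : ∀ θ ∈ Ys, (Nat.card G : ℂ)⁻¹ * ∑ g : G, (θ : G → ℂ) g * conj ((θ : G → ℂ) g) = 1 := by
        intro θ _
        have := classInner_irr_self θ.2
        rwa [classInner_def] at this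
      rw [Finset.sum_congr rfl h4, Finset.sum_const, D.hYc]
      simp
    rw [h2] at h1
    exact_mod_cast h1.symm
  have hone_deg : deg (oneIrr G) = 1 := by
    have h1 : ((oneIrr G : IrrCharacter G) : G → ℂ) 1 = 1 := rfl
    have h2 := (D.hdeg (oneIrr G)).1
    rw [h1] at h2
    exact_mod_cast h2.symm
  -- the degree
  have hb : ∑ χ : IrrCharacter G, m χ * deg χ = s * t ^ 2 := by
    have h1 := hexp 1
    rw [hFd] at h1
    simp only at h1
    have h2 : ∀ θ ∈ Ys, (θ : G → ℂ) 1 * conj ((θ : G → ℂ) 1) = ((t ^ 2 : ℕ) : ℂ) := by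
      intro θ hθ
      rw [(D.hdeg θ).1, hY θ hθ]
      simp
      ring
    rw [Finset.sum_congr rfl h2, Finset.sum_const, D.hYc] at h1
    have h3 : ∀ χ : IrrCharacter G, (m χ : ℂ) * (χ : G → ℂ) 1 = ((m χ * deg χ : ℕ) : ℂ) := by
      intro χ
      rw [(D.hdeg χ).1]
      push_cast
      ring
    simp only [h3] at h1
    rw [nsmul_eq_mul] at h1
    have h4 : ((s * t ^ 2 : ℕ) : ℂ) = ((∑ χ : IrrCharacter G, m χ * deg χ : ℕ) : ℂ) := by
      push_cast at h1 ⊢
      exact h1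
    exact_mod_cast h4.symm
  -- the fixed dimension
  have ha : ∑ χ : IrrCharacter G, m χ * fx χ (zpowers z) = s * t := by
    have h1 : (p : ℂ) * ((∑ χ : IrrCharacter G, m χ * fx χ (zpowers z) : ℕ) : ℂ) =
        F 1 + ∑ u ∈ Finset.univ.filter (fun u : G => u ∈ zpowers z ∧ u ≠ 1), F u := by
      push_cast
      rw [Finset.mul_sum]
      have h2 : ∀ χ : IrrCharacter G, (p : ℂ) * ((m χ : ℂ) * (fx χ (zpowers z) : ℂ)) = (m χ : ℂ) * (χ : G → ℂ) 1 +
          ∑ u ∈ Finset.univ.filter (fun u : G => u ∈ zpowers z ∧ u ≠ 1), (m χ : ℂ) * (χ : G → ℂ) u := by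
        intro χ
        rw [mul_left_comm, fx_P_eq D.hz χ, mul_add, Finset.mul_sum]
      simp only [h2]
      rw [Finset.sum_add_distrib, hexp 1, Finset.sum_comm]
      congr 1
      exact Finset.sum_congr rfl fun u _ => (hexp u).symm
    have h2 : ∀ u ∈ Finset.univ.filter (fun u : G => u ∈ zpowers z ∧ u ≠ 1), F u = (p : ℂ) - (t : ℂ) := by
      intro u hu
      rw [Finset.mem_filter] at hu
      rw [hFd]
      exact D.sum_Y_norm hu.2.1 hu.2.2
    have h3 : F 1 = ((s * t ^ 2 : ℕ) : ℂ) := by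
      rw [hFd]
      simp only
      have h4 : ∀ θ ∈ Ys, (θ : G → ℂ) 1 * conj ((θ : G → ℂ) 1) = ((t ^ 2 : ℕ) : ℂ) := by
        intro θ hθ
        rw [(D.hdeg θ).1, hY θ hθ]
        simp
        ring
      rw [Finset.sum_congr rfl h4, Finset.sum_const, D.hYc, nsmul_eq_mul]
      push_cast
      ring
    rw [Finset.sum_congr rfl h2, Finset.sum_const, nsmul_eq_mul, D.card_Pn', h3] at h1
    have hpc : (p : ℂ) = ((s : ℂ) * (t : ℂ)) + 1 := by
      rw [← D.hst]
      push_cast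
      ring
    have hp0 : (p : ℂ) ≠ 0 := by exact_mod_cast D.hp.pos.ne'
    have h5 : (p : ℂ) * ((∑ χ : IrrCharacter G, m χ * fx χ (zpowers z) : ℕ) : ℂ) = (p : ℂ) * ((s * t : ℕ) : ℂ) := by
      rw [h1]
      push_cast
      rw [hpc]
      ring
    have h6 := mul_left_cancel₀ hp0 h5
    exact_mod_cast h6
  -- the vanishing
  have hsum0 : ∑ χ ∈ (Finset.univ : Finset (IrrCharacter G)).erase (oneIrr G),
      (m χ : ℤ) * ((deg χ : ℤ) - ((t : ℤ) + 1) * (fx χ (zpowers z) : ℤ)) = 0 := by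
    have h1 : ∑ χ : IrrCharacter G, (m χ : ℤ) * ((deg χ : ℤ) - ((t : ℤ) + 1) * (fx χ (zpowers z) : ℤ)) =
        (s : ℤ) * t ^ 2 - ((t : ℤ) + 1) * ((s : ℤ) * t) := by
      have h2 : ((∑ χ : IrrCharacter G, m χ * deg χ : ℕ) : ℤ) = ((s * t ^ 2 : ℕ) : ℤ) := by rw [hb]
      have h3 : ((∑ χ : IrrCharacter G, m χ * fx χ (zpowers z) : ℕ) : ℤ) = ((s * t : ℕ) : ℤ) := by rw [ha]
      push_cast at h2 h3
      rw [← h2, ← h3, Finset.mul_sum, ← Finset.sum_sub_distrib]
      exact Finset.sum_congr rfl fun χ _ => by ring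
    rw [← Finset.add_sum_erase _ _ (Finset.mem_univ (oneIrr G)), hm1, hone_deg, fx_oneIrr] at h1
    push_cast at h1
    linear_combination h1
  have hterm : ∀ χ : IrrCharacter G, χ ≠ oneIrr G →
      (m χ : ℤ) * ((deg χ : ℤ) - ((t : ℤ) + 1) * (fx χ (zpowers z) : ℤ)) = 0 := by
    intro χ hχ
    refine (Finset.sum_eq_zero_iff_of_nonneg (fun ψ hψ => ?_)).1 hsum0 χ (Finset.mem_erase.mpr ⟨hχ, Finset.mem_univ _⟩)
    exact mul_nonneg (by positivity) (D.L_nonneg hε1 hY hs ht (Finset.ne_of_mem_erase hψ)).1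
  have hL0 : ∀ χ : IrrCharacter G, χ ≠ oneIrr G → m χ ≠ 0 → s = 2 ∧ χ ∈ Xs ∧ δ χ = 1 ∧ deg χ = p + 1 := by
    intro χ hχ hm0
    refine (D.L_nonneg hε1 hY hs ht hχ).2 ?_
    rcases mul_eq_zero.mp (hterm χ hχ) with h | h
    · exact absurd (by exact_mod_cast h) hm0
    · exact h
  obtain ⟨χ₀, hχ₀, hm0⟩ : ∃ χ : IrrCharacter G, χ ≠ oneIrr G ∧ m χ ≠ 0 := by
    by_contra hno
    push Not at hno
    have h1 : ∑ χ : IrrCharacter G, m χ * deg χ = s := by
      rw [← Finset.add_sum_erase _ _ (Finset.mem_univ (oneIrr G)), hm1, hone_deg, mul_one,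
        Finset.sum_eq_zero, add_zero]
      intro χ hχ
      rw [hno χ (Finset.ne_of_mem_erase hχ), zero_mul]
    rw [hb] at h1
    have h2 : s * 1 < s * t ^ 2 := by
      apply Nat.mul_lt_mul_of_pos_left
      · have : 2 ^ 2 ≤ t ^ 2 := Nat.pow_le_pow_left ht 2
        omega
      · omega
    omega
  exact ⟨m, fun g => by rw [← hexp g, hFd], hm1, (hL0 χ₀ hχ₀ hm0).1, fun χ hχ h0 => (hL0 χ hχ h0).2,
    χ₀, hχ₀, hm0⟩

end BD0

end Cfsg.Agent.Lib.BR
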